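/-
Covering number of PSL(n,q): cyclic matrices, geometric multiplicity, products of conjugates.
-/
import Cfsg.Agent.Lib.Classical.Commutator.Factor

set_option autoImplicit false

namespace Cfsg.Agent.LevCover

open Polynomial Matrix Module
open Cfsg.Agent.SLComm (Cyc bord img eigen)

variable {K : Type*} [Field K] {n m : ℕ}

/-- conjugation by an invertible matrix -/
def cj (P : GL (Fin n) K) (A : Matrix (Fin n) (Fin n) K) : Matrix (Fin n) (Fin n) K :=
  P.1 * A * P⁻¹.1

theorem cj_one (A : Matrix (Fin n) (Fin n) K) : cj 1 A = A := by simp [cj]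

theorem cj_cj (P Q : GL (Fin n) K) (A : Matrix (Fin n) (Fin n) K) :
    cj P (cj Q A) = cj (P * Q) A := by
  simp [cj, mul_assoc, _root_.mul_inv_rev]

theorem cj_mul (P : GL (Fin n) K) (A B : Matrix (Fin n) (Fin n) K) :
    cj P (A * B) = cj P A * cj P B := (SLComm.conj_mul_conj P A B).symm

theorem cj_inv_cj (P : GL (Fin n) K) (A : Matrix (Fin n) (Fin n) K) : cj P⁻¹ (cj P A) = A := by
  rw [cj_cj, inv_mul_cancel, cj_one]

theorem cj_cj_inv (P : GL (Fin n) K) (A : Matrix (Fin n) (Fin n) K) : cj P (cj P⁻¹ A) = A := by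
  rw [cj_cj, mul_inv_cancel, cj_one]

theorem det_cj (P : GL (Fin n) K) (A : Matrix (Fin n) (Fin n) K) : (cj P A).det = A.det :=
  det_units_conj P A

theorem cj_smul (P : GL (Fin n) K) (a : K) (A : Matrix (Fin n) (Fin n) K) :
    cj P (a • A) = a • cj P A := by
  simp [cj, Matrix.mul_smul, Matrix.smul_mul]

theorem cj_scalar (P : GL (Fin n) K) (a : K) :
    cj P (a • (1 : Matrix (Fin n) (Fin n) K)) = a • 1 := by
  rw [cj_smul]; congr 1
  simp [cj]

theorem cj_sub (P : GL (Fin n) K) (A B : Matrix (Fin n) (Fin n) K) :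
    cj P (A - B) = cj P A - cj P B := by
  simp [cj, Matrix.mul_sub, Matrix.sub_mul]

theorem cj_mulVec (P : GL (Fin n) K) (A : Matrix (Fin n) (Fin n) K) (x : Fin n → K) :
    cj P A *ᵥ (P.1 *ᵥ x) = P.1 *ᵥ (A *ᵥ x) := by
  rw [cj, ← mulVec_mulVec, SLComm.gl_inv_mulVec, ← mulVec_mulVec]

theorem gl_mulVec_inv (P : GL (Fin n) K) (v : Fin n → K) : P.1 *ᵥ (P⁻¹.1 *ᵥ v) = v := by
  have := SLComm.gl_inv_mulVec P⁻¹ v
  rwa [inv_inv] at this

theorem gl_mulVec_ne (P : GL (Fin n) K) {v : Fin n → K} (hv : v ≠ 0) : P.1 *ᵥ v ≠ 0 := fun h =>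
  hv (SLComm.gl_mulVec_inj P (by rw [h, mulVec_zero]))

/-- conjugacy under the general linear group -/
def Sim (A B : Matrix (Fin n) (Fin n) K) : Prop := ∃ P : GL (Fin n) K, B = cj P A

theorem Sim.refl (A : Matrix (Fin n) (Fin n) K) : Sim A A := ⟨1, (cj_one A).symm⟩

theorem Sim.symm {A B : Matrix (Fin n) (Fin n) K} (h : Sim A B) : Sim B A := by
  obtain ⟨P, rfl⟩ := h
  exact ⟨P⁻¹, (cj_inv_cj P A).symm⟩

theorem Sim.trans {A B C : Matrix (Fin n) (Fin n) K} (h : Sim A B) (h' : Sim B C) : Sim A C := by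
  obtain ⟨P, rfl⟩ := h
  obtain ⟨Q, rfl⟩ := h'
  exact ⟨Q * P, cj_cj Q P A⟩

/-! ### Cyclic matrices -/

/-- `A` is cyclic with polynomial `f` -/
def CS (f : K[X]) (A : Matrix (Fin n) (Fin n) K) : Prop := ∃ w, Cyc f A w

theorem CS.cj {f : K[X]} {A : Matrix (Fin n) (Fin n) K} (h : CS f A) (P : GL (Fin n) K) :
    CS f (LevCover.cj P A) := by
  obtain ⟨w, hw⟩ := h
  exact ⟨_, hw.conj P⟩

theorem CS.sim {f : K[X]} {A B : Matrix (Fin n) (Fin n) K} (hA : CS f A) (hB : CS f B) :
    Sim A B := by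
  obtain ⟨w, hw⟩ := hA
  obtain ⟨v, hv⟩ := hB
  exact SLComm.similar_conj hw hv

theorem CS.transpose {f : K[X]} {A : Matrix (Fin n) (Fin n) K} (h : CS f A) : CS f Aᵀ := by
  obtain ⟨w, hw⟩ := h
  exact hw.transpose

theorem CS.monic {f : K[X]} {A : Matrix (Fin n) (Fin n) K} (h : CS f A) : f.Monic :=
  h.choose_spec.monic

theorem CS.charpoly {f : K[X]} {A : Matrix (Fin n) (Fin n) K} (h : CS f A) : A.charpoly = f := by
  obtain ⟨w, hw⟩ := h
  have hd : (A.charpoly - f).degree < (n : ℕ) := by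
    rcases Nat.eq_zero_or_pos n with rfl | hn
    · have h1 : A.charpoly = 1 := by
        rw [← A.charpoly_monic.natDegree_eq_zero, charpoly_natDegree_eq_dim, Fintype.card_fin]
      have h2 : f = 1 := hw.monic.natDegree_eq_zero.1 hw.deg
      rw [h1, h2, sub_self, degree_zero]
      exact WithBot.bot_lt_coe _
    · have h1 : A.charpoly.degree = (n : ℕ) := by
        rw [A.charpoly_monic.ne_zero |> degree_eq_natDegree, charpoly_natDegree_eq_dim,
          Fintype.card_fin]
      have h2 : f.degree = (n : ℕ) := by rw [degree_eq_natDegree hw.monic.ne_zero, hw.deg]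
      have := degree_sub_lt (h1.trans h2.symm) A.charpoly_monic.ne_zero
        (by rw [A.charpoly_monic.leadingCoeff, hw.monic.leadingCoeff])
      rwa [h1] at this
  exact sub_eq_zero.1 (hw.indep _ hd (by simp [aeval_self_charpoly, hw.ann]))

/-- all eigenspaces have dimension at most one -/
def Geo (A : Matrix (Fin n) (Fin n) K) : Prop :=
  ∀ (a : K) (x y : Fin n → K), A *ᵥ x = a • x → A *ᵥ y = a • y → x ≠ 0 → ∃ t : K, y = t • x

theorem CS.geo {f : K[X]} {A : Matrix (Fin n) (Fin n) K} (h : CS f A) : Geo A := by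
  obtain ⟨w, hw⟩ := h
  intro a x y hx hy hx0
  have key : ∀ z, A *ᵥ z = a • z → ∃ t : K, z = t • (aeval A (f /ₘ (X - C a)) *ᵥ w) := by
    intro z hz
    obtain ⟨p, rfl⟩ := hw.span z
    have hp := hw.reduce p
    obtain ⟨r, hr⟩ : ∃ r, r = p %ₘ f := ⟨_, rfl⟩
    have hrd : r.degree < (n : ℕ) := hr ▸ hw.reduce_deg p
    rw [← hr] at hp
    rw [← hp] at hz ⊢
    have h0 : aeval A (((X - C a) * r) %ₘ f) *ᵥ w = 0 := by
      rw [hw.reduce, map_mul, map_sub, aeval_X, aeval_C, Algebra.algebraMap_eq_smul_one,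
        ← mulVec_mulVec, sub_mulVec, smul_mulVec, one_mulVec, hz, sub_self]
    have h1 := hw.indep _ (hw.reduce_deg _) h0
    rw [modByMonic_eq_zero_iff_dvd hw.monic] at h1
    obtain ⟨s, hs⟩ := h1
    by_cases hr0 : r = 0
    · exact ⟨0, by simp [hr0]⟩
    have hs0 : s ≠ 0 := by
      rintro rfl
      rw [mul_zero, mul_eq_zero] at hs
      exact hs.elim (X_sub_C_ne_zero a) hr0
    have hsd : s.natDegree = 0 := by
      have h2 := congrArg natDegree hs
      rw [natDegree_mul (X_sub_C_ne_zero a) hr0, natDegree_mul hw.monic.ne_zero hs0,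
        natDegree_X_sub_C, hw.deg] at h2
      have h3 : r.natDegree < n := (natDegree_lt_iff_degree_lt hr0).2 hrd
      omega
    rw [eq_C_of_natDegree_eq_zero hsd] at hs hs0
    set c := s.coeff 0
    have hc : c ≠ 0 := fun h => hs0 (by rw [h, map_zero])
    have hdvd : (X - C a) ∣ f := by
      refine ⟨C c⁻¹ * r, ?_⟩
      rw [mul_left_comm, hs, mul_left_comm, ← map_mul, inv_mul_cancel₀ hc, map_one, mul_one]
    refine ⟨c, ?_⟩
    have h4 : r = C c * (f /ₘ (X - C a)) := by
      obtain ⟨g, hg⟩ := hdvd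
      rw [hg, mul_assoc, mul_comm g] at hs
      rw [hg, mul_divByMonic_cancel_left g (monic_X_sub_C a)]
      exact mul_left_cancel₀ (X_sub_C_ne_zero a) hs
    rw [h4, map_mul, aeval_C, Algebra.algebraMap_eq_smul_one, smul_one_mul, smul_mulVec]
  obtain ⟨t, ht⟩ := key x hx
  obtain ⟨t', ht'⟩ := key y hy
  have ht0 : t ≠ 0 := fun h => hx0 (by rw [ht, h, zero_smul])
  exact ⟨t' / t, by rw [ht, ht', smul_smul, div_mul_cancel₀ _ ht0]⟩

theorem charpoly_bord (a : K) (c : Fin n → K) (X' : Matrix (Fin n) (Fin n) K) :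
    (bord a 0 c X').charpoly = (X - C a) * X'.charpoly := by
  rw [Matrix.charpoly, Matrix.charpoly, det_succ_row_zero, Fin.sum_univ_succ,
    Finset.sum_eq_zero (fun j _ => by simp [bord, charmatrix_apply, (Fin.succ_ne_zero j).symm]),
    add_zero]
  have e : (charmatrix (bord a 0 c X')).submatrix Fin.succ (Fin.succAbove 0) = charmatrix X' := by
    ext i j : 1
    simp [bord, charmatrix_apply, Matrix.diagonal_apply]
  rw [e]
  simp [bord, charmatrix_apply]

theorem exists_transpose_eigen {A : Matrix (Fin n) (Fin n) K} {a : K}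
    (ha : A.charpoly.eval a = 0) : ∃ u : Fin n → K, u ≠ 0 ∧ u ᵥ* A = a • u := by
  rw [eval_charpoly] at ha
  obtain ⟨u, hu, hu'⟩ := Matrix.exists_vecMul_eq_zero_iff.2 ha
  refine ⟨u, hu, ?_⟩
  rw [vecMul_sub, sub_eq_zero] at hu'
  rw [← hu']
  funext i
  simp [vecMul, dotProduct, Matrix.scalar_apply, Matrix.diagonal, mul_comm]

theorem exists_eigen {A : Matrix (Fin n) (Fin n) K} {a : K}
    (ha : A.charpoly.eval a = 0) : ∃ x : Fin n → K, x ≠ 0 ∧ A *ᵥ x = a • x := by
  obtain ⟨x, hx, hx'⟩ := exists_transpose_eigen (A := Aᵀ) (a := a) (by rwa [charpoly_transpose])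
  exact ⟨x, hx, by rwa [vecMul_transpose] at hx'⟩

theorem eval_charpoly_of_eigen {A : Matrix (Fin n) (Fin n) K} {a : K} {x : Fin n → K} (hx : x ≠ 0)
    (h : A *ᵥ x = a • x) : A.charpoly.eval a = 0 := by
  rw [eval_charpoly]
  refine Matrix.exists_mulVec_eq_zero_iff.1 ⟨x, hx, ?_⟩
  rw [sub_mulVec, h, sub_eq_zero]
  funext i
  simp [Matrix.scalar_apply, mulVec_diagonal]

/-- a split matrix with one-dimensional eigenspaces is cyclic -/
theorem cyc_of_geo : ∀ {n : ℕ} {M : Matrix (Fin n) (Fin n) K}, M.charpoly.Splits → Geo M →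
    CS M.charpoly M := by
  intro n
  induction n with
  | zero =>
    intro M _ _
    exact ⟨0, M.charpoly_monic, by simp [charpoly_natDegree_eq_dim], aeval_self_charpoly M,
      fun p hp _ => degree_eq_bot.1 (Nat.WithBot.lt_zero_iff.1 hp)⟩
  | succ n ih =>
    intro M hs hg
    obtain ⟨a, ha⟩ := hs.exists_eval_eq_zero (by
      rw [degree_eq_natDegree M.charpoly_monic.ne_zero, charpoly_natDegree_eq_dim, Fintype.card_fin]
      norm_cast)
    obtain ⟨u, hu, huM⟩ := exists_transpose_eigen ha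
    obtain ⟨v, hv⟩ := SLComm.exists_dot_eq_one hu
    rw [dotProduct_comm] at hv
    obtain ⟨Q, hQ0, huQ⟩ := SLComm.exists_frame hv
    obtain ⟨M', hM'⟩ : ∃ M', M' = cj Q⁻¹ M := ⟨_, rfl⟩
    have hrow : ∀ y, (M' *ᵥ y) 0 = a * y 0 := by
      intro y
      have h1 : ∀ z, (Q⁻¹.1 *ᵥ z) 0 = u ⬝ᵥ z := by
        intro z
        conv_rhs => rw [← gl_mulVec_inv Q z, dotProduct_mulVec, huQ]
        simp [cons_dotProduct, vecHead]
      conv_lhs => rw [← SLComm.gl_inv_mulVec Q y, hM', cj_mulVec, h1, dotProduct_mulVec, huM,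
        smul_dotProduct, dotProduct_mulVec, huQ]
      simp [cons_dotProduct, vecHead]
    let c : Fin n → K := fun i => M' i.succ 0
    let N : Matrix (Fin n) (Fin n) K := fun i j => M' i.succ j.succ
    have hb : M' = bord a 0 c N := by
      ext i j
      refine Fin.cases ?_ (fun i => ?_) i
      · have := hrow (Pi.single j 1)
        rw [mulVec_single_one] at this
        refine Fin.cases ?_ (fun j => ?_) j
        · simpa [bord] using (hrow (Pi.single 0 1))
        · simpa [bord] using (hrow (Pi.single j.succ 1))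
      · refine Fin.cases ?_ (fun j => ?_) j <;> simp [bord, c, N]
    have hcp : M.charpoly = (X - C a) * N.charpoly := by
      rw [← charpoly_bord a c N, ← hb, hM']
      have h := (charpoly_units_conj Q⁻¹ M).symm
      rw [← coe_units_inv] at h
      exact h
    have hg' : Geo (bord a 0 c N) := by
      intro b x y hx hy hx0
      rw [← hb, hM'] at hx hy
      have e : ∀ z, cj Q⁻¹ M *ᵥ z = b • z → M *ᵥ (Q.1 *ᵥ z) = b • (Q.1 *ᵥ z) := by
        intro z hz
        have := congrArg (fun t => Q.1 *ᵥ t) hz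
        simp only [mulVec_smul] at this
        rw [← cj_cj_inv Q M, cj_mulVec]
        exact this
      obtain ⟨t, ht⟩ := hg b _ _ (e x hx) (e y hy) (gl_mulVec_ne Q hx0)
      exact ⟨t, SLComm.gl_mulVec_inj Q (by rw [ht, mulVec_smul])⟩
    have hsN : N.charpoly.Splits :=
      hs.of_dvd M.charpoly_monic.ne_zero (hcp ▸ dvd_mul_left _ _)
    have hgN : Geo N := by
      intro b x y hx hy hx0
      have e : ∀ z, N *ᵥ z = b • z → bord a 0 c N *ᵥ vecCons 0 z = b • vecCons 0 z := by
        intro z hz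
        rw [SLComm.bord_mulVec, hz]
        simp
      obtain ⟨t, ht⟩ := hg' b _ _ (e x hx) (e y hy) (fun h => hx0 (by
        have := congrArg vecTail h
        simpa using this))
      exact ⟨t, by simpa using congrArg vecTail ht⟩
    obtain ⟨w, hw⟩ := ih hsN hgN
    obtain ⟨w', y, hw', hy⟩ : ∃ w' y, Cyc N.charpoly N w' ∧
        c + (N - a • (1 : Matrix (Fin n) (Fin n) K)) *ᵥ y = w' := by
      by_cases ha' : N.charpoly.eval a = 0
      · obtain ⟨p, hp⟩ := hw.span c
        obtain ⟨s, hs'⟩ := X_sub_C_dvd_sub_C_eval (a := a) (p := p)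
        have hc' : c = p.eval a • w + (N - a • 1) *ᵥ (aeval N s *ᵥ w) := by
          rw [hp, show p = C (p.eval a) + (X - C a) * s by rw [← hs']; ring, map_add, map_mul,
            map_sub, aeval_X, aeval_C, aeval_C, Algebra.algebraMap_eq_smul_one,
            Algebra.algebraMap_eq_smul_one, add_mulVec, smul_mulVec, one_mulVec, mulVec_mulVec]
          simp
        have hne : p.eval a ≠ 0 := by
          intro h0
          obtain ⟨z, hz, hz'⟩ := exists_eigen ha'
          rw [h0, zero_smul, zero_add] at hc'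
          have h1 : bord a 0 c N *ᵥ vecCons 1 (-(aeval N s *ᵥ w)) =
              a • vecCons 1 (-(aeval N s *ᵥ w)) := by
            rw [SLComm.bord_mulVec, hc', sub_mulVec, smul_mulVec, one_mulVec, mulVec_neg]
            ext i
            refine Fin.cases ?_ (fun i => ?_) i
            · simp
            · simp; ring
          have h2 : bord a 0 c N *ᵥ vecCons 0 z = a • vecCons 0 z := by
            rw [SLComm.bord_mulVec, hz']
            simp
          obtain ⟨t, ht⟩ := hg' a _ _ h2 h1 (fun h => hz (by simpa using congrArg vecTail h))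
          simpa using congrFun ht 0
        refine ⟨p.eval a • w, -(aeval N s *ᵥ w), hw.smul hne, ?_⟩
        rw [hc', mulVec_neg]
        abel
      · obtain ⟨y, hy⟩ := SLComm.exists_sol hw.ann ha' (w - c)
        exact ⟨w, y, hw, by rw [hy]; abel⟩
    have hc0 := hw'.bord hy
    rw [← hcp, ← hb, hM'] at hc0
    have hfin : CS M.charpoly (cj Q (cj Q⁻¹ M)) := (show CS _ _ from ⟨_, hc0⟩).cj Q
    rwa [cj_cj_inv] at hfin

end Cfsg.Agent.LevCover
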