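/-
Covering number of PSL(n,q): splitting off one row and one column with a prescribed pivot.
-/
import Cfsg.Agent.Lib.LevCover.Basic

set_option autoImplicit false

namespace Cfsg.Agent.LevCover

open Polynomial Matrix Module
open Cfsg.Agent.SLComm (bord img eigen)

variable {K : Type*} [Field K] {n : ℕ}

/-- the matrix is a scalar -/
def IsSc (A : Matrix (Fin n) (Fin n) K) : Prop := ∃ a : K, A = a • 1

theorem IsSc.cj {A : Matrix (Fin n) (Fin n) K} (h : IsSc A) (P : GL (Fin n) K) :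
    IsSc (LevCover.cj P A) := by
  obtain ⟨a, rfl⟩ := h
  exact ⟨a, cj_scalar P a⟩

theorem isSc_cj_iff {A : Matrix (Fin n) (Fin n) K} (P : GL (Fin n) K) :
    IsSc (cj P A) ↔ IsSc A :=
  ⟨fun h => by simpa [cj_inv_cj] using h.cj P⁻¹, fun h => h.cj P⟩

theorem isSc_of_eigen {A : Matrix (Fin n) (Fin n) K} {a : K} (h : ∀ x, A *ᵥ x = a • x) :
    IsSc A := ⟨a, ext_of_mulVec_single fun i => by rw [h, smul_mulVec, one_mulVec]⟩

theorem exists_noneig {S : Matrix (Fin n) (Fin n) K} (hns : ¬ IsSc S) (s : Finset K)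
    (Ls : List (Submodule K (Fin n → K))) (hs : Ls.length + 2 ≤ s.card) (hLs : ∀ p ∈ Ls, p ≠ ⊤)
    (hn : 2 ≤ n) :
    ∃ v, (∀ p ∈ Ls, v ∉ p) ∧ v ≠ 0 ∧ ∀ a : K, S *ᵥ v ≠ a • v := by
  obtain ⟨v, hv0, hvL, hv⟩ := SLComm.exists_noneigen (N := S) s Ls ⊥ hs hLs (fun u => by
    rw [sup_bot_eq]
    refine SLComm.ne_top_of_finrank (lt_of_le_of_lt (SLComm.finrank_span_singleton_le u) ?_)
    omega) (fun μ h => hns (isSc_of_eigen fun x => SLComm.mem_eigen.1 (h ▸ Submodule.mem_top)))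
  exact ⟨v, hvL, fun h => hv0 (h ▸ Submodule.zero_mem _), fun a h => hv a (SLComm.mem_eigen.2 h)⟩

/-- `u` makes the complementary matrix scalar with value `κ` -/
def BadU (S : Matrix (Fin n) (Fin n) K) (γ : K) (v u : Fin n → K) (κ : K) : Prop :=
  ∀ x, u ⬝ᵥ x = 0 → S *ᵥ x - κ • x = (u ⬝ᵥ (S *ᵥ x) / γ) • (S *ᵥ v)

/-- the Schur complement of the pivot -/
def schur (γ : K) (r c : Fin n → K) (X : Matrix (Fin n) (Fin n) K) : Matrix (Fin n) (Fin n) K :=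
  X - γ⁻¹ • vecMulVec c r

theorem det_bord_schur {γ : K} (hγ : γ ≠ 0) (r c : Fin n → K) (X : Matrix (Fin n) (Fin n) K) :
    (bord γ r c X).det = γ * (schur γ r c X).det := by
  have h1 : bord γ r c X = bord 1 0 (γ⁻¹ • c) 1 * bord γ r 0 (schur γ r c X) := by
    rw [SLComm.bord_mul, schur, smul_vecMulVec, smul_smul, mul_inv_cancel₀ hγ, one_smul]
    simp [mul_smul]
  rw [h1, det_mul, SLComm.det_bord_lower, det_one, mul_one, one_mul,
    ← det_transpose (bord γ r 0 _), SLComm.bord_transpose, SLComm.det_bord_lower, det_transpose]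

theorem split_at {S : Matrix (Fin (n + 1)) (Fin (n + 1)) K} {γ : K} {v u : Fin (n + 1) → K}
    (hγ : γ ≠ 0) (huv : u ⬝ᵥ v = 1) (huS : u ⬝ᵥ (S *ᵥ v) = γ) :
    ∃ (P : GL (Fin (n + 1)) K) (r c : Fin n → K) (X : Matrix (Fin n) (Fin n) K),
      cj P S = bord γ r c X ∧ (∀ x, (P.1 *ᵥ x) 0 = u ⬝ᵥ x) ∧
      (∀ r₀ : Fin (n + 1) → K, (r₀ ᵥ* P⁻¹.1) 0 = r₀ ⬝ᵥ v) ∧
      (c = 0 → S *ᵥ v = γ • v) ∧
      (r = 0 → ∀ x, u ⬝ᵥ (S *ᵥ x) = γ * (u ⬝ᵥ x)) ∧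
      (∀ κ : K, schur γ r c X = κ • 1 → BadU S γ v u κ) := by
  obtain ⟨Qu, hQ0, huQ⟩ := SLComm.exists_frame huv
  obtain ⟨P, hP⟩ : ∃ P, P = Qu⁻¹ := ⟨_, rfl⟩
  have hPi : P⁻¹ = Qu := by rw [hP, inv_inv]
  have hP0 : ∀ x, (P.1 *ᵥ x) 0 = u ⬝ᵥ x := by
    intro x
    conv_rhs => rw [← gl_mulVec_inv Qu x, ← hP, dotProduct_mulVec, huQ]
    simp [cons_dotProduct, vecHead]
  have hPv : P.1 *ᵥ v = vecCons 1 0 := by rw [← hQ0, hP, SLComm.gl_inv_mulVec]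
  obtain ⟨M, hM⟩ : ∃ M, M = cj P S := ⟨_, rfl⟩
  have hMx : ∀ x, M *ᵥ (P.1 *ᵥ x) = P.1 *ᵥ (S *ᵥ x) := fun x => by rw [hM, cj_mulVec]
  let r : Fin n → K := fun j => M 0 j.succ
  let c : Fin n → K := fun j => M j.succ 0
  let X : Matrix (Fin n) (Fin n) K := fun a b => M a.succ b.succ
  have h00 : M 0 0 = γ := by
    have h := congrFun (hMx v) 0
    rw [hPv, hP0, huS] at h
    rw [← h]
    simp [mulVec, dotProduct, Fin.sum_univ_succ]
  have hb : M = bord γ r c X := by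
    ext a b
    refine Fin.cases ?_ (fun a => ?_) a <;> refine Fin.cases ?_ (fun b => ?_) b <;>
      simp [bord, h00, r, c, X]
  have hsplit : ∀ x, u ⬝ᵥ x = 0 → P.1 *ᵥ x = vecCons 0 (vecTail (P.1 *ᵥ x)) := by
    intro x hx
    conv_lhs => rw [← cons_head_tail (P.1 *ᵥ x)]
    rw [show vecHead (P.1 *ᵥ x) = 0 by rw [vecHead, hP0, hx]]
  refine ⟨P, r, c, X, hM ▸ hb, hP0, fun r₀ => ?_, fun hc => ?_, fun hr x => ?_, fun κ hκ => ?_⟩
  · rw [hPi, ← hQ0, dotProduct_mulVec]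
    simp [dotProduct, Fin.sum_univ_succ]
  · refine SLComm.gl_mulVec_inj P ?_
    rw [← hMx, hPv, hb, SLComm.bord_mulVec, hc, mulVec_smul, hPv]
    simp
  · have h := congrFun (hMx x) 0
    rw [hP0] at h
    rw [← h, ← hP0, hb, ← cons_head_tail (P.1 *ᵥ x), SLComm.bord_mulVec, hr]
    simp [vecHead]
  · intro x hx
    refine SLComm.gl_mulVec_inj P ?_
    have hXe : X = κ • 1 + γ⁻¹ • vecMulVec c r := by
      rw [schur, sub_eq_iff_eq_add] at hκ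
      exact hκ
    obtain ⟨w, hw⟩ : ∃ w, w = vecTail (P.1 *ᵥ x) := ⟨_, rfl⟩
    have h1 : u ⬝ᵥ (S *ᵥ x) = r ⬝ᵥ w := by
      rw [← hP0, ← hMx, hsplit x hx, ← hw, hb, SLComm.bord_mulVec]
      simp
    rw [mulVec_sub, mulVec_smul, mulVec_smul, ← hMx, ← hMx, hPv, hsplit x hx, ← hw, h1, hb,
      SLComm.bord_mulVec, SLComm.bord_mulVec, hXe]
    ext i
    refine Fin.cases ?_ (fun i => ?_) i
    · simp
      field_simp
    · simp [add_mulVec, smul_mulVec, vecMulVec_mulVec]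
      field_simp

theorem badU_unique {S : Matrix (Fin n) (Fin n) K} {γ κ κ' : K} {v u u' : Fin n → K}
    (hn : 3 ≤ n) (hS : S.det ≠ 0) (hγ : γ ≠ 0) (huv : u ⬝ᵥ v = 1) (huS : u ⬝ᵥ (S *ᵥ v) = γ)
    (hu'v : u' ⬝ᵥ v = 1) (hv : ∀ a : K, S *ᵥ v ≠ a • v) (hb : BadU S γ v u κ)
    (hb' : BadU S γ v u' κ') : u = u' := by
  by_contra hne
  have hinj : ∀ x, S *ᵥ x = 0 → x = 0 := fun x hx => by
    by_contra hx0
    exact hS (Matrix.exists_mulVec_eq_zero_iff.1 ⟨x, hx0, hx⟩)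
  have hT : LinearMap.ker (SLComm.dotL u) ⊓ LinearMap.ker (SLComm.dotL u') ≠ ⊥ := by
    intro h
    have hk : ∀ w : Fin n → K, n ≤ finrank K (LinearMap.ker (SLComm.dotL w)) + 1 := by
      intro w
      have h1 := LinearMap.finrank_range_add_finrank_ker (SLComm.dotL w)
      rw [finrank_fin_fun] at h1
      have h2 : finrank K (LinearMap.range (SLComm.dotL w)) ≤ 1 :=
        le_trans (Submodule.finrank_le _) (finrank_self K).le
      omega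
    have h1 := Submodule.finrank_sup_add_finrank_inf_eq (LinearMap.ker (SLComm.dotL u))
      (LinearMap.ker (SLComm.dotL u'))
    rw [h, finrank_bot, add_zero] at h1
    have h2 := hk u
    have h3 := hk u'
    have h4 : finrank K ↥(LinearMap.ker (SLComm.dotL u) ⊔ LinearMap.ker (SLComm.dotL u')) ≤ n :=
      le_trans (Submodule.finrank_le _) (finrank_fin_fun (R := K)).le
    omega
  obtain ⟨x, hx, hx0⟩ := (Submodule.ne_bot_iff _).1 hT
  have hxu : u ⬝ᵥ x = 0 := hx.1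
  have hxu' : u' ⬝ᵥ x = 0 := hx.2
  have hκ : κ = κ' := by
    by_contra hκ
    have e1 := hb x hxu
    have e2 := hb' x hxu'
    have h3 : ∃ t : K, x = t • (S *ᵥ v) := by
      refine ⟨(κ' - κ)⁻¹ * (u ⬝ᵥ (S *ᵥ x) / γ - u' ⬝ᵥ (S *ᵥ x) / γ), ?_⟩
      rw [mul_smul, sub_smul, ← e1, ← e2, sub_sub_sub_cancel_left, ← sub_smul, smul_smul,
        inv_mul_cancel₀ (sub_ne_zero.2 (Ne.symm hκ)), one_smul]
    obtain ⟨t, ht⟩ := h3
    have h4 := hxu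
    rw [ht, dotProduct_smul, huS, smul_eq_mul, mul_eq_zero] at h4
    rcases h4 with h4 | h4
    · exact hx0 (by rw [ht, h4, zero_smul])
    · exact hγ h4
  subst hκ
  obtain ⟨z, hz⟩ : ∃ z, u ⬝ᵥ z ≠ u' ⬝ᵥ z := by
    by_contra hall
    push Not at hall
    exact hne (funext fun i => by simpa [dotProduct_single] using hall (Pi.single i 1))
  obtain ⟨w, hw⟩ : ∃ w, w = z - (u ⬝ᵥ z) • v := ⟨_, rfl⟩
  have hwu : u ⬝ᵥ w = 0 := by rw [hw, dotProduct_sub, dotProduct_smul, huv]; simp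
  have hwu' : u' ⬝ᵥ w ≠ 0 := by
    rw [hw, dotProduct_sub, dotProduct_smul, hu'v]
    simp only [smul_eq_mul, mul_one]
    exact sub_ne_zero.2 (Ne.symm hz)
  have hwu'' : u' ⬝ᵥ ((u' ⬝ᵥ w) • v - w) = 0 := by
    rw [dotProduct_sub, dotProduct_smul, hu'v]; simp
  have e1 := hb w hwu
  have e2 := hb' _ hwu''
  have key : ∃ t : K, (u' ⬝ᵥ w) • (S *ᵥ v - κ • v) = t • (S *ᵥ v) := by
    refine ⟨u ⬝ᵥ (S *ᵥ w) / γ + u' ⬝ᵥ (S *ᵥ ((u' ⬝ᵥ w) • v - w)) / γ, ?_⟩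
    rw [add_smul, ← e1, ← e2, mulVec_sub, mulVec_smul]
    module
  obtain ⟨t, ht⟩ := key
  have hκ0 : κ ≠ 0 := by
    rintro rfl
    have h5 := hb x hxu
    rw [zero_smul, sub_zero] at h5
    obtain ⟨e, he⟩ : ∃ e, e = u ⬝ᵥ (S *ᵥ x) / γ := ⟨_, rfl⟩
    rw [← he, ← mulVec_smul] at h5
    have h6 : x - e • v = 0 := hinj _ (by rw [mulVec_sub, h5, sub_self])
    have h7 := congrArg (fun y => u ⬝ᵥ y) h6
    simp only [dotProduct_sub, dotProduct_smul, huv, hxu, dotProduct_zero, smul_eq_mul, mul_one,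
      zero_sub, neg_eq_zero] at h7
    exact hx0 (by simpa [h7] using h6)
  have h8 : ((u' ⬝ᵥ w) * κ) • v = ((u' ⬝ᵥ w) - t) • (S *ᵥ v) := by
    rw [sub_smul, ← ht]
    module
  have hnz : (u' ⬝ᵥ w) * κ ≠ 0 := mul_ne_zero hwu' hκ0
  by_cases hd : (u' ⬝ᵥ w) - t = 0
  · rw [hd, zero_smul, smul_eq_zero] at h8
    rcases h8 with h8 | h8
    · exact hnz h8
    · rw [h8, dotProduct_zero] at huv
      exact zero_ne_one huv
  · refine hv (((u' ⬝ᵥ w) - t)⁻¹ * ((u' ⬝ᵥ w) * κ)) ?_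
    rw [mul_smul, h8, smul_smul, inv_mul_cancel₀ hd, one_smul]

theorem exists_avoid_two [Fintype K] (h4 : 4 ≤ Fintype.card K) (a b : K) :
    ∃ t : K, t ≠ 0 ∧ t ≠ a ∧ t ≠ b := by
  classical
  by_contra hall
  push Not at hall
  have : (Finset.univ : Finset K) ⊆ {0, a, b} := fun t _ => by
    rcases eq_or_ne t 0 with h | h
    · simp [h]
    · rcases eq_or_ne t a with h' | h'
      · simp [h']
      · simp [hall t h h']
  have := le_trans (Finset.card_le_card this) Finset.card_le_three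
  rw [Finset.card_univ] at this
  omega

/-- a nonzero functional killing two given vectors -/
theorem exists_perp {v w : Fin n → K} (hn : 3 ≤ n) :
    ∃ d : Fin n → K, d ≠ 0 ∧ d ⬝ᵥ v = 0 ∧ d ⬝ᵥ w = 0 := by
  obtain ⟨z, -, hz⟩ := SetLike.exists_of_lt (SLComm.ne_top_of_finrank
    (p := Submodule.span K {v} ⊔ Submodule.span K {w})
    (lt_of_le_of_lt (SLComm.finrank_pair_le v w) (by omega))).lt_top
  obtain ⟨d, hd, hd'⟩ := SLComm.exists_functional hz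
  exact ⟨d, fun h => hd' (by rw [h, zero_dotProduct]),
    hd v (Submodule.mem_sup_left (Submodule.mem_span_singleton_self v)),
    hd w (Submodule.mem_sup_right (Submodule.mem_span_singleton_self w))⟩

theorem exists_normal {S : Matrix (Fin n) (Fin n) K} [Fintype K] (h4 : 4 ≤ Fintype.card K)
    {γ : K} {v : Fin n → K} (hv : ∀ a : K, S *ᵥ v ≠ a • v) :
    ∃ u, u ⬝ᵥ v = 1 ∧ u ⬝ᵥ (S *ᵥ v) = γ := by
  obtain ⟨u, h1, h2, -⟩ := SLComm.exists_dot (Finset.univ : Finset K)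
    (v := v) (y := S *ᵥ v - γ • v) (fun h => by
      obtain ⟨a, ha⟩ := Submodule.mem_span_singleton.1 h
      by_cases ha0 : a = 0
      · rw [ha0, zero_smul] at ha
        exact hv 0 (by rw [← ha]; simp)
      · refine hv (γ + a⁻¹) ?_
        have h1 := congrArg (fun y => a⁻¹ • y) ha
        simp only [smul_smul, inv_mul_cancel₀ ha0, one_smul] at h1
        rw [add_smul, ← h1]
        abel) [] (by simp) (by simp [Finset.card_univ]; omega)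
  refine ⟨u, h1, ?_⟩
  rw [dotProduct_sub, dotProduct_smul, h1, sub_eq_zero] at h2
  simpa using h2

theorem good_line {S : Matrix (Fin n) (Fin n) K} {γ : K} {v u d : Fin n → K} (hn : 3 ≤ n)
    (hS : S.det ≠ 0) (hγ : γ ≠ 0) (huv : u ⬝ᵥ v = 1) (huS : u ⬝ᵥ (S *ᵥ v) = γ)
    (hv : ∀ a : K, S *ᵥ v ≠ a • v) (hd : d ≠ 0) (hdv : d ⬝ᵥ v = 0)
    (hdw : d ⬝ᵥ (S *ᵥ v) = 0) :
    ∃ t₀ : K, ∀ t : K, t ≠ t₀ → ∀ κ : K, ¬ BadU S γ v (u + t • d) κ := by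
  have e : ∀ t : K, (u + t • d) ⬝ᵥ v = 1 ∧ (u + t • d) ⬝ᵥ (S *ᵥ v) = γ := fun t => by
    simp [add_dotProduct, smul_dotProduct, huv, huS, hdv, hdw]
  by_cases h : ∃ (t : K) (κ : K), BadU S γ v (u + t • d) κ
  · obtain ⟨t₀, κ₀, h₀⟩ := h
    refine ⟨t₀, fun t ht κ hb => ht ?_⟩
    have h1 := badU_unique hn hS hγ (e t).1 (e t).2 (e t₀).1 hv hb h₀
    exact smul_left_injective K hd (add_left_cancel h1)
  · push Not at h
    exact ⟨0, fun t _ κ => h t κ⟩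

theorem det_schur {S : Matrix (Fin (n + 1)) (Fin (n + 1)) K} {γ : K} {P : GL (Fin (n + 1)) K}
    {r c : Fin n → K} {X : Matrix (Fin n) (Fin n) K} (hγ : γ ≠ 0)
    (h : cj P S = bord γ r c X) : γ * (schur γ r c X).det = S.det := by
  rw [← det_bord_schur hγ, ← h, det_cj]

variable [Fintype K]

/-- one step with a prescribed pivot -/
theorem step (h4 : 4 ≤ Fintype.card K) {S : Matrix (Fin (n + 1)) (Fin (n + 1)) K} (hn : 1 ≤ n)
    (hS : S.det ≠ 0) (hns : ¬ IsSc S) {γ : K} (hγ : γ ≠ 0) :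
    ∃ (P : GL (Fin (n + 1)) K) (r c : Fin n → K) (X : Matrix (Fin n) (Fin n) K),
      cj P S = bord γ r c X ∧ c ≠ 0 ∧ (2 ≤ n → ¬ IsSc (schur γ r c X)) := by
  obtain ⟨v, -, -, hv⟩ := exists_noneig hns Finset.univ [] (by simp [Finset.card_univ]; omega)
    (by simp) (by omega)
  obtain ⟨u₀, hu1, hu2⟩ := exists_normal h4 (γ := γ) hv
  obtain ⟨u, hu1', hu2', hgood⟩ : ∃ u, u ⬝ᵥ v = 1 ∧ u ⬝ᵥ (S *ᵥ v) = γ ∧
      (2 ≤ n → ∀ κ, ¬ BadU S γ v u κ) := by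
    by_cases hn2 : 2 ≤ n
    · obtain ⟨d, hd, hd1, hd2⟩ := exists_perp (v := v) (w := S *ᵥ v) (n := n + 1) (by omega)
      obtain ⟨t₀, ht₀⟩ := good_line (by omega) hS hγ hu1 hu2 hv hd hd1 hd2
      obtain ⟨t, -, ht, -⟩ := exists_avoid_two h4 t₀ t₀
      exact ⟨u₀ + t • d, by simp [add_dotProduct, smul_dotProduct, hu1, hd1],
        by simp [add_dotProduct, smul_dotProduct, hu2, hd2], fun _ => ht₀ t ht⟩
    · exact ⟨u₀, hu1, hu2, fun h => absurd h hn2⟩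
  obtain ⟨P, r, c, X, h, -, -, hc, -, hsc⟩ := split_at hγ hu1' hu2'
  exact ⟨P, r, c, X, h, fun h0 => hv γ (hc h0), fun h2 ⟨κ, hκ⟩ => hgood h2 κ (hsc κ hκ)⟩

/-- one step with prescribed pivot and nonzero row -/
theorem stepR (h4 : 4 ≤ Fintype.card K) {S : Matrix (Fin (n + 1)) (Fin (n + 1)) K} (hn : 1 ≤ n)
    (hS : S.det ≠ 0) (hns : ¬ IsSc S) {γ : K} (hγ : γ ≠ 0)
    (hrank : 2 ≤ finrank K (img (S - γ • (1 : Matrix (Fin (n + 1)) (Fin (n + 1)) K)))) :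
    ∃ (P : GL (Fin (n + 1)) K) (r c : Fin n → K) (X : Matrix (Fin n) (Fin n) K),
      cj P S = bord γ r c X ∧ c ≠ 0 ∧ r ≠ 0 ∧ (2 ≤ n → ¬ IsSc (schur γ r c X)) := by
  obtain ⟨v, -, -, hv⟩ := exists_noneig hns Finset.univ [] (by simp [Finset.card_univ]; omega)
    (by simp) (by omega)
  obtain ⟨N, hN⟩ : ∃ N, N = S - γ • (1 : Matrix (Fin (n + 1)) (Fin (n + 1)) K) := ⟨_, rfl⟩
  rw [← hN] at hrank
  have hNx : ∀ x, N *ᵥ x = S *ᵥ x - γ • x := fun x => by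
    rw [hN, sub_mulVec, smul_mulVec, one_mulVec]
  have hflat : ∀ u : Fin (n + 1) → K,
      (∀ x, u ⬝ᵥ (S *ᵥ x) = γ * (u ⬝ᵥ x)) ↔ ∀ x, u ⬝ᵥ (N *ᵥ x) = 0 := by
    intro u
    constructor <;> intro h x
    · rw [hNx, dotProduct_sub, dotProduct_smul, h]; simp
    · have := h x
      rw [hNx, dotProduct_sub, dotProduct_smul, sub_eq_zero] at this
      simpa using this
  obtain ⟨u₁, hu1, hu2⟩ := exists_normal h4 (γ := γ) hv
  obtain ⟨u₀, h01, h02, h0g⟩ : ∃ u, u ⬝ᵥ v = 1 ∧ u ⬝ᵥ (S *ᵥ v) = γ ∧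
      ∃ x, u ⬝ᵥ (N *ᵥ x) ≠ 0 := by
    by_contra hall
    push Not at hall
    have hle : img N ≤ Submodule.span K {N *ᵥ v} := by
      rintro _ ⟨x, rfl⟩
      show N *ᵥ x ∈ _
      by_contra hx
      have hxv : N *ᵥ x ∉ Submodule.span K {v} ⊔ Submodule.span K {S *ᵥ v} := by
        intro hmem
        obtain ⟨p, hp, q, hq, hpq⟩ := Submodule.mem_sup.1 hmem
        obtain ⟨a, rfl⟩ := Submodule.mem_span_singleton.1 hp
        obtain ⟨b, rfl⟩ := Submodule.mem_span_singleton.1 hq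
        have h0 := hall u₁ hu1 hu2 x
        rw [← hpq, dotProduct_add, dotProduct_smul, dotProduct_smul, hu1, hu2] at h0
        simp only [smul_eq_mul, mul_one] at h0
        refine hx (Submodule.mem_span_singleton.2 ⟨b, ?_⟩)
        rw [← hpq, hNx, show a = -(b * γ) by linear_combination h0]
        module
      obtain ⟨d, hd, hd'⟩ := SLComm.exists_functional hxv
      have hd1 := hd v (Submodule.mem_sup_left (Submodule.mem_span_singleton_self v))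
      have hd2 := hd _ (Submodule.mem_sup_right (Submodule.mem_span_singleton_self (S *ᵥ v)))
      have h0 := hall (u₁ + d) (by simp [add_dotProduct, hu1, hd1])
        (by simp [add_dotProduct, hu2, hd2]) x
      rw [add_dotProduct, hall u₁ hu1 hu2 x, zero_add] at h0
      exact hd' h0
    have := Submodule.finrank_mono hle
    have := SLComm.finrank_span_singleton_le (K := K) (N *ᵥ v)
    omega
  obtain ⟨u, hu1', hu2', hgx, hgood⟩ : ∃ u, u ⬝ᵥ v = 1 ∧ u ⬝ᵥ (S *ᵥ v) = γ ∧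
      (∃ x, u ⬝ᵥ (N *ᵥ x) ≠ 0) ∧ (2 ≤ n → ∀ κ, ¬ BadU S γ v u κ) := by
    by_cases hn2 : 2 ≤ n
    · obtain ⟨d, hd, hd1, hd2⟩ := exists_perp (v := v) (w := S *ᵥ v) (n := n + 1) (by omega)
      obtain ⟨t₀, ht₀⟩ := good_line (by omega) hS hγ h01 h02 hv hd hd1 hd2
      obtain ⟨x, hx⟩ := h0g
      obtain ⟨t, -, ht, ht'⟩ :=
        exists_avoid_two h4 t₀ (-(u₀ ⬝ᵥ (N *ᵥ x)) / (d ⬝ᵥ (N *ᵥ x)))
      refine ⟨u₀ + t • d, by simp [add_dotProduct, smul_dotProduct, h01, hd1],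
        by simp [add_dotProduct, smul_dotProduct, h02, hd2], ⟨x, ?_⟩, fun _ => ht₀ t ht⟩
      simp only [add_dotProduct, smul_dotProduct, smul_eq_mul]
      intro h0
      by_cases hdx : d ⬝ᵥ (N *ᵥ x) = 0
      · rw [hdx, mul_zero, add_zero] at h0
        exact hx h0
      · exact ht' (by rw [eq_div_iff hdx]; linear_combination h0)
    · exact ⟨u₀, h01, h02, h0g, fun h => absurd h hn2⟩
  obtain ⟨P, r, c, X, h, -, -, hc, hr, hsc⟩ := split_at hγ hu1' hu2'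
  obtain ⟨x, hx⟩ := hgx
  exact ⟨P, r, c, X, h, fun h0 => hv γ (hc h0), fun h0 => hx ((hflat u).1 (hr h0) x),
    fun h2 ⟨κ, hκ⟩ => hgood h2 κ (hsc κ hκ)⟩

/-- one step adapted to a column and a row -/
theorem carry (h4 : 4 ≤ Fintype.card K) {S : Matrix (Fin (n + 1)) (Fin (n + 1)) K} (hn : 1 ≤ n)
    (hS : S.det ≠ 0) (hns : ¬ IsSc S) {c₀ r₀ : Fin (n + 1) → K} (hc₀ : c₀ ≠ 0) (hr₀ : r₀ ≠ 0) :
    ∃ (γ : K) (P : GL (Fin (n + 1)) K) (r c : Fin n → K) (X : Matrix (Fin n) (Fin n) K),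
      γ ≠ 0 ∧ cj P S = bord γ r c X ∧ (P.1 *ᵥ c₀) 0 ≠ 0 ∧ (r₀ ᵥ* P⁻¹.1) 0 ≠ 0 ∧
      (2 ≤ n → ¬ IsSc (schur γ r c X)) := by
  obtain ⟨v, hvL, -, hv⟩ := exists_noneig hns Finset.univ [LinearMap.ker (SLComm.dotL r₀)]
    (by simp [Finset.card_univ]; omega) (by simp [SLComm.hyperplane_ne_top hr₀]) (by omega)
  have hrv : r₀ ⬝ᵥ v ≠ 0 := fun h => hvL _ (by simp) (SLComm.mem_ker_dotL.2 h)
  have fin : ∀ (γ : K) (u : Fin (n + 1) → K), γ ≠ 0 → u ⬝ᵥ v = 1 → u ⬝ᵥ (S *ᵥ v) = γ →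
      u ⬝ᵥ c₀ ≠ 0 → (2 ≤ n → ∀ κ, ¬ BadU S γ v u κ) →
      ∃ (γ : K) (P : GL (Fin (n + 1)) K) (r c : Fin n → K) (X : Matrix (Fin n) (Fin n) K),
      γ ≠ 0 ∧ cj P S = bord γ r c X ∧ (P.1 *ᵥ c₀) 0 ≠ 0 ∧ (r₀ ᵥ* P⁻¹.1) 0 ≠ 0 ∧
      (2 ≤ n → ¬ IsSc (schur γ r c X)) := by
    intro γ u hγ h1 h2 h3 h4'
    obtain ⟨P, r, c, X, h, hP0, hP1, -, -, hsc⟩ := split_at hγ h1 h2
    exact ⟨γ, P, r, c, X, hγ, h, by rwa [hP0], by rwa [hP1],
      fun hn2 ⟨κ, hκ⟩ => h4' hn2 κ (hsc κ hκ)⟩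
  by_cases hmem : c₀ ∈ Submodule.span K {v} ⊔ Submodule.span K {S *ᵥ v}
  · obtain ⟨p, hp, q, hq, hpq⟩ := Submodule.mem_sup.1 hmem
    obtain ⟨a, rfl⟩ := Submodule.mem_span_singleton.1 hp
    obtain ⟨b, rfl⟩ := Submodule.mem_span_singleton.1 hq
    obtain ⟨γ, hγ, hγ', -⟩ := exists_avoid_two h4 (-a / b) (-a / b)
    have hne : a + b * γ ≠ 0 := by
      intro h
      by_cases hb : b = 0
      · rw [hb, zero_mul, add_zero] at h
        exact hc₀ (by rw [← hpq, h, hb]; simp)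
      · exact hγ' (by rw [eq_div_iff hb]; linear_combination h)
    obtain ⟨u₀, hu1, hu2⟩ := exists_normal h4 (γ := γ) hv
    by_cases hn2 : 2 ≤ n
    · obtain ⟨d, hd, hd1, hd2⟩ := exists_perp (v := v) (w := S *ᵥ v) (n := n + 1) (by omega)
      obtain ⟨t₀, ht₀⟩ := good_line (by omega) hS hγ hu1 hu2 hv hd hd1 hd2
      obtain ⟨t, -, ht, -⟩ := exists_avoid_two h4 t₀ t₀
      refine fin γ (u₀ + t • d) hγ (by simp [add_dotProduct, smul_dotProduct, hu1, hd1])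
        (by simp [add_dotProduct, smul_dotProduct, hu2, hd2]) ?_ (fun _ => ht₀ t ht)
      rw [← hpq]
      simp [add_dotProduct, smul_dotProduct, hu1, hu2, hd1, hd2]
      exact hne
    · refine fin γ u₀ hγ hu1 hu2 ?_ (fun h => absurd h hn2)
      rw [← hpq]
      simp [hu1, hu2]
      exact hne
  · obtain ⟨u₀, hu1, hu2⟩ := exists_normal h4 (γ := (1 : K)) hv
    obtain ⟨d, hd, hdc⟩ := SLComm.exists_functional hmem
    have hd1 := hd v (Submodule.mem_sup_left (Submodule.mem_span_singleton_self v))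
    have hd2 := hd _ (Submodule.mem_sup_right (Submodule.mem_span_singleton_self (S *ᵥ v)))
    have hd0 : d ≠ 0 := fun h => hdc (by rw [h, zero_dotProduct])
    have hcl : ∀ t, t ≠ -(u₀ ⬝ᵥ c₀) / (d ⬝ᵥ c₀) → (u₀ + t • d) ⬝ᵥ c₀ ≠ 0 := by
      intro t ht h0
      simp only [add_dotProduct, smul_dotProduct, smul_eq_mul] at h0
      exact ht (by rw [eq_div_iff hdc]; linear_combination h0)
    by_cases hn2 : 2 ≤ n
    · obtain ⟨t₀, ht₀⟩ := good_line (by omega) hS one_ne_zero hu1 hu2 hv hd0 hd1 hd2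
      obtain ⟨t, -, ht, ht'⟩ := exists_avoid_two h4 t₀ (-(u₀ ⬝ᵥ c₀) / (d ⬝ᵥ c₀))
      exact fin 1 (u₀ + t • d) one_ne_zero (by simp [add_dotProduct, smul_dotProduct, hu1, hd1])
        (by simp [add_dotProduct, smul_dotProduct, hu2, hd2]) (hcl t ht') (fun _ => ht₀ t ht)
    · obtain ⟨t, -, ht, -⟩ := exists_avoid_two h4 (-(u₀ ⬝ᵥ c₀) / (d ⬝ᵥ c₀)) 0
      exact fin 1 (u₀ + t • d) one_ne_zero (by simp [add_dotProduct, smul_dotProduct, hu1, hd1])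
        (by simp [add_dotProduct, smul_dotProduct, hu2, hd2]) (hcl t ht) (fun h => absurd h hn2)

end Cfsg.Agent.LevCover
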