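/-
Covering number of PSL(n,q): block matrices with a chosen splitting of the index set.
-/
import Cfsg.Agent.Lib.LevCover.Frame

set_option autoImplicit false

namespace Cfsg.Agent.LevCover

open Polynomial Matrix Module
open Cfsg.Agent.SLComm (Cyc bord img eigen)

variable {K : Type*} [Field K] {n h l : ℕ}

/-- a block matrix -/
def blk (e : Fin h ⊕ Fin l ≃ Fin n) (A : Matrix (Fin h) (Fin h) K) (B : Matrix (Fin h) (Fin l) K)
    (C : Matrix (Fin l) (Fin h) K) (D : Matrix (Fin l) (Fin l) K) : Matrix (Fin n) (Fin n) K :=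
  (Matrix.fromBlocks A B C D).submatrix e.symm e.symm

/-- a vector with two parts -/
def vpair (e : Fin h ⊕ Fin l ≃ Fin n) (x : Fin h → K) (y : Fin l → K) : Fin n → K :=
  Sum.elim x y ∘ e.symm

theorem exists_vpair (e : Fin h ⊕ Fin l ≃ Fin n) (z : Fin n → K) :
    ∃ x y, z = vpair e x y :=
  ⟨fun i => z (e (Sum.inl i)), fun j => z (e (Sum.inr j)), by
    funext k
    obtain ⟨s, rfl⟩ := e.surjective k
    rcases s with i | j <;> simp [vpair]⟩

theorem vpair_inj (e : Fin h ⊕ Fin l ≃ Fin n) {x x' : Fin h → K} {y y' : Fin l → K}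
    (hh : vpair e x y = vpair e x' y') : x = x' ∧ y = y' :=
  ⟨funext fun i => by simpa [vpair] using congrFun hh (e (Sum.inl i)),
    funext fun j => by simpa [vpair] using congrFun hh (e (Sum.inr j))⟩

theorem smul_vpair (e : Fin h ⊕ Fin l ≃ Fin n) (a : K) (x : Fin h → K) (y : Fin l → K) :
    a • vpair e x y = vpair e (a • x) (a • y) := by
  funext k
  obtain ⟨s, rfl⟩ := e.surjective k
  rcases s with i | j <;> simp [vpair]

theorem vpair_zero (e : Fin h ⊕ Fin l ≃ Fin n) :
    vpair e (0 : Fin h → K) (0 : Fin l → K) = 0 := by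
  funext k
  obtain ⟨s, rfl⟩ := e.surjective k
  rcases s with i | j <;> simp [vpair]

variable (e : Fin h ⊕ Fin l ≃ Fin n) (A A' : Matrix (Fin h) (Fin h) K)
  (B B' : Matrix (Fin h) (Fin l) K) (C C' : Matrix (Fin l) (Fin h) K)
  (D D' : Matrix (Fin l) (Fin l) K)

theorem blk_mul : blk e A B C D * blk e A' B' C' D' =
    blk e (A * A' + B * C') (A * B' + B * D') (C * A' + D * C') (C * B' + D * D') := by
  rw [blk, blk, blk, submatrix_mul_equiv, fromBlocks_multiply]

theorem blk_mulVec (x : Fin h → K) (y : Fin l → K) :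
    blk e A B C D *ᵥ vpair e x y = vpair e (A *ᵥ x + B *ᵥ y) (C *ᵥ x + D *ᵥ y) := by
  rw [blk, vpair, submatrix_mulVec_equiv, Equiv.symm_symm, Function.comp_assoc,
    Equiv.symm_comp_self, Function.comp_id, fromBlocks_mulVec]
  rfl

theorem blk_transpose : (blk e A B C D)ᵀ = blk e Aᵀ Cᵀ Bᵀ Dᵀ := by
  rw [blk, blk, transpose_submatrix, fromBlocks_transpose]

theorem det_blk_lower : (blk e A 0 C D).det = A.det * D.det := by
  rw [blk, det_submatrix_equiv_self, det_fromBlocks_zero₁₂]

theorem det_blk_upper : (blk e A B 0 D).det = A.det * D.det := by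
  rw [blk, det_submatrix_equiv_self, det_fromBlocks_zero₂₁]

theorem det_blk_schur (L : Matrix (Fin l) (Fin h) K) :
    (blk e A B (L * A) (L * B + D)).det = A.det * D.det := by
  have h1 : blk e A B (L * A) (L * B + D) = blk e 1 0 L 1 * blk e A B 0 D := by
    rw [blk_mul]; simp
  rw [h1, det_mul, det_blk_lower, det_blk_upper, det_one, det_one, one_mul, one_mul]

theorem charpoly_blk_lower : (blk e A 0 C D).charpoly = A.charpoly * D.charpoly := by
  have h1 : blk e A 0 C D = Matrix.reindex e e (Matrix.fromBlocks A 0 C D) := rfl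
  rw [h1, charpoly_reindex, charpoly_fromBlocks_zero₁₂]

theorem blk_smul (a : K) : a • blk e A B C D = blk e (a • A) (a • B) (a • C) (a • D) := by
  rw [blk, blk, ← Matrix.fromBlocks_smul]
  rfl

/-- a block lower triangular matrix with linked cyclic blocks is cyclic -/
theorem cs_blk_lower {f g : K[X]} (hA : CS f A) (hD : CS g D) (hf : f.Splits) (hg : g.Splits)
    (hlink : ∀ a : K, f.eval a = 0 → g.eval a = 0 → ∀ x : Fin h → K, x ≠ 0 → A *ᵥ x = a • x →
      ∀ y : Fin l → K, C *ᵥ x + D *ᵥ y ≠ a • y) :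
    CS (f * g) (blk e A 0 C D) := by
  have hc : (blk e A 0 C D).charpoly = f * g := by
    rw [charpoly_blk_lower, hA.charpoly, hD.charpoly]
  rw [← hc]
  refine cyc_of_geo (hc ▸ hf.mul hg) ?_
  intro a z z' hz hz' hz0
  obtain ⟨x, y, rfl⟩ := exists_vpair e z
  obtain ⟨x', y', rfl⟩ := exists_vpair e z'
  rw [blk_mulVec, smul_vpair] at hz hz'
  obtain ⟨h1, h2⟩ := vpair_inj e hz
  obtain ⟨h1', h2'⟩ := vpair_inj e hz'
  rw [zero_mulVec, add_zero] at h1 h1'
  by_cases hx : x = 0
  · subst hx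
    rw [mulVec_zero, zero_add] at h2
    have hy : y ≠ 0 := fun hy => hz0 (by rw [hy, vpair_zero])
    have hga : g.eval a = 0 := hD.charpoly ▸ eval_charpoly_of_eigen hy h2
    by_cases hx' : x' = 0
    · subst hx'
      rw [mulVec_zero, zero_add] at h2'
      obtain ⟨t, ht⟩ := hD.geo a y y' h2 h2' hy
      exact ⟨t, by rw [smul_vpair, ht, smul_zero]⟩
    · exact absurd h2' (hlink a (hA.charpoly ▸ eval_charpoly_of_eigen hx' h1') hga x' hx' h1' y')
  · have hfa : f.eval a = 0 := hA.charpoly ▸ eval_charpoly_of_eigen hx h1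
    have hga : g.eval a ≠ 0 := fun hga => hlink a hfa hga x hx h1 y h2
    obtain ⟨t, ht⟩ := hA.geo a x x' h1 h1' hx
    refine ⟨t, ?_⟩
    rw [smul_vpair, ht]
    congr 1
    by_contra hne
    refine hga (hD.charpoly ▸ eval_charpoly_of_eigen (sub_ne_zero.2 hne) ?_)
    have e2 : D *ᵥ y = a • y - C *ᵥ x := eq_sub_of_add_eq' h2
    have e2' : D *ᵥ y' = a • y' - C *ᵥ x' := eq_sub_of_add_eq' h2'
    rw [mulVec_sub, mulVec_smul, e2, e2', ht, mulVec_smul]
    module

/-- block lower triangular with coprime cyclic blocks -/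
theorem cs_blk_lower_coprime {f g : K[X]} (hA : CS f A) (hD : CS g D) (hf : f.Splits)
    (hg : g.Splits) (hfg : ∀ a : K, f.eval a = 0 → g.eval a ≠ 0) :
    CS (f * g) (blk e A 0 C D) :=
  cs_blk_lower e A C D hA hD hf hg fun a ha hga => absurd hga (hfg a ha)

/-- block upper triangular with coprime cyclic blocks -/
theorem cs_blk_upper_coprime {f g : K[X]} (hA : CS f A) (hD : CS g D) (hf : f.Splits)
    (hg : g.Splits) (hfg : ∀ a : K, f.eval a = 0 → g.eval a ≠ 0) :
    CS (f * g) (blk e A B 0 D) := by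
  have := (cs_blk_lower_coprime e Aᵀ Bᵀ Dᵀ hA.transpose hD.transpose hf hg hfg).transpose
  rwa [blk_transpose, transpose_transpose, transpose_transpose, transpose_zero,
    transpose_transpose] at this

end Cfsg.Agent.LevCover
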