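/-
Covering number of PSL(n,q): splitting off a leading block with prescribed determinant.
-/
import Cfsg.Agent.Lib.LevCover.Block

set_option autoImplicit false

namespace Cfsg.Agent.LevCover

open Polynomial Matrix Module
open Cfsg.Agent.SLComm (Cyc bord img eigen)

variable {K : Type*} [Field K] {n h l : ℕ}

/-- extending a splitting by a new first index -/
def extE (e : Fin h ⊕ Fin l ≃ Fin n) : Fin (h + 1) ⊕ Fin l ≃ Fin (n + 1) where
  toFun := Sum.elim (Fin.cases 0 fun i => (e (Sum.inl i)).succ) fun j => (e (Sum.inr j)).succ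
  invFun := Fin.cases (Sum.inl 0) fun k => Sum.map Fin.succ id (e.symm k)
  left_inv := by
    rintro (i | j)
    · refine Fin.cases ?_ (fun i => ?_) i <;> simp
    · simp
  right_inv k := by
    refine Fin.cases ?_ (fun k => ?_) k
    · simp
    · obtain ⟨s, rfl⟩ := e.surjective k
      rcases s with i | j <;> simp

/-- the first column part below the pivot -/
def colL (c₂ : Fin l → K) (C : Matrix (Fin l) (Fin h) K) : Matrix (Fin l) (Fin (h + 1)) K :=
  Matrix.of fun j => vecCons (c₂ j) (C j)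

/-- the first row part right of the pivot -/
def rowR (r₂ : Fin l → K) (B : Matrix (Fin h) (Fin l) K) : Matrix (Fin (h + 1)) (Fin l) K :=
  Matrix.of (Fin.cases r₂ fun i => B i)

theorem bord_blk (e : Fin h ⊕ Fin l ≃ Fin n) (γ : K) (r₁ c₁ : Fin h → K) (r₂ c₂ : Fin l → K)
    (A : Matrix (Fin h) (Fin h) K) (B : Matrix (Fin h) (Fin l) K) (C : Matrix (Fin l) (Fin h) K)
    (D : Matrix (Fin l) (Fin l) K) :
    bord γ (vpair e r₁ r₂) (vpair e c₁ c₂) (blk e A B C D) =
      blk (extE e) (bord γ r₁ c₁ A) (rowR r₂ B) (colL c₂ C) D := by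
  ext a b
  refine Fin.cases ?_ (fun a => ?_) a <;> refine Fin.cases ?_ (fun b => ?_) b
  · simp [bord, blk, extE]
  · obtain ⟨s, rfl⟩ := e.surjective b
    rcases s with i | j <;> simp [bord, blk, extE, vpair, rowR]
  · obtain ⟨s, rfl⟩ := e.surjective a
    rcases s with i | j <;> simp [bord, blk, extE, vpair, colL]
  · obtain ⟨s, rfl⟩ := e.surjective a
    obtain ⟨t, rfl⟩ := e.surjective b
    rcases s with i | j <;> rcases t with i' | j' <;> simp [bord, blk, extE, rowR, colL]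

theorem vecMulVec_vpair (e : Fin h ⊕ Fin l ≃ Fin n) (r₁ c₁ : Fin h → K) (r₂ c₂ : Fin l → K) :
    vecMulVec (vpair e c₁ c₂) (vpair e r₁ r₂) =
      blk e (vecMulVec c₁ r₁) (vecMulVec c₁ r₂) (vecMulVec c₂ r₁) (vecMulVec c₂ r₂) := by
  ext a b
  obtain ⟨s, rfl⟩ := e.surjective a
  obtain ⟨t, rfl⟩ := e.surjective b
  rcases s with i | j <;> rcases t with i' | j' <;> simp [vecMulVec_apply, vpair, blk]

theorem blk_add (e : Fin h ⊕ Fin l ≃ Fin n) (A A' : Matrix (Fin h) (Fin h) K)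
    (B B' : Matrix (Fin h) (Fin l) K) (C C' : Matrix (Fin l) (Fin h) K)
    (D D' : Matrix (Fin l) (Fin l) K) :
    blk e A B C D + blk e A' B' C' D' = blk e (A + A') (B + B') (C + C') (D + D') := by
  rw [blk, blk, blk, ← fromBlocks_add]
  rfl

/-- lifting a conjugation past the pivot -/
def liftP (P : GL (Fin n) K) : GL (Fin (n + 1)) K :=
  ⟨bord 1 0 0 P.1, bord 1 0 0 P⁻¹.1,
    by rw [SLComm.bord_mul, SLComm.bord_one]; simp,
    by rw [SLComm.bord_mul, SLComm.bord_one]; simp⟩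

theorem liftP_val (P : GL (Fin n) K) : (liftP P).1 = bord 1 0 0 P.1 := rfl

theorem liftP_inv_val (P : GL (Fin n) K) : (liftP P)⁻¹.1 = bord 1 0 0 P⁻¹.1 := rfl

theorem cj_liftP (P : GL (Fin n) K) (γ : K) (r c : Fin n → K) (X : Matrix (Fin n) (Fin n) K) :
    cj (liftP P) (bord γ r c X) = bord γ (r ᵥ* P⁻¹.1) (P.1 *ᵥ c) (cj P X) := by
  rw [cj, liftP_val, liftP_inv_val, SLComm.bord_mul, SLComm.bord_mul]
  simp [cj]

theorem det_liftP (P : GL (Fin n) K) : (liftP P).1.det = P.1.det := by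
  rw [liftP_val, SLComm.det_bord_lower, one_mul]

/-- the result of a peeling -/
structure Peel (S : Matrix (Fin n) (Fin n) K) (h l : ℕ) where
  P : GL (Fin n) K
  e : Fin h ⊕ Fin l ≃ Fin n
  X₁ : Matrix (Fin h) (Fin h) K
  R : Matrix (Fin h) (Fin l) K
  L : Matrix (Fin l) (Fin h) K
  S' : Matrix (Fin l) (Fin l) K
  eq : cj P S = blk e X₁ R (L * X₁) (L * R + S')
  nsc : 2 ≤ l → ¬ IsSc S'

theorem Peel.det_eq {S : Matrix (Fin n) (Fin n) K} (p : Peel S h l) :
    p.X₁.det * p.S'.det = S.det := by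
  rw [← det_cj p.P S, p.eq, det_blk_schur]

/-- adding a pivot in front of a peeling of the Schur complement -/
theorem extend_peel {S : Matrix (Fin (n + 1)) (Fin (n + 1)) K} {γ : K} (hγ : γ ≠ 0)
    {P : GL (Fin (n + 1)) K} {r c : Fin n → K} {X : Matrix (Fin n) (Fin n) K}
    (hS : cj P S = bord γ r c X) (p : Peel (schur γ r c X) h l) :
    ∃ (q : Peel S (h + 1) l) (r₁ c₁ : Fin h → K) (r₂ c₂ : Fin l → K),
      p.P.1 *ᵥ c = vpair p.e c₁ c₂ ∧ r ᵥ* p.P⁻¹.1 = vpair p.e r₁ r₂ ∧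
      q.X₁ = bord γ r₁ c₁ (p.X₁ + γ⁻¹ • vecMulVec c₁ r₁) ∧ q.L = colL (γ⁻¹ • (c₂ - p.L *ᵥ c₁)) p.L ∧
      q.R = rowR r₂ (p.R + γ⁻¹ • vecMulVec c₁ r₂) ∧ q.P = liftP p.P * P ∧ q.e = extE p.e := by
  obtain ⟨c₁, c₂, hc⟩ := exists_vpair p.e (p.P.1 *ᵥ c)
  obtain ⟨r₁, r₂, hr⟩ := exists_vpair p.e (r ᵥ* p.P⁻¹.1)
  refine ⟨⟨liftP p.P * P, extE p.e, bord γ r₁ c₁ (p.X₁ + γ⁻¹ • vecMulVec c₁ r₁),
    rowR r₂ (p.R + γ⁻¹ • vecMulVec c₁ r₂), colL (γ⁻¹ • (c₂ - p.L *ᵥ c₁)) p.L, p.S', ?_, p.nsc⟩,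
    r₁, c₁, r₂, c₂, hc, hr, rfl, rfl, rfl, rfl, rfl⟩
  have hX : X = schur γ r c X + γ⁻¹ • vecMulVec c r := by rw [schur, sub_add_cancel]
  rw [← cj_cj, hS, cj_liftP]
  have hsum : cj p.P (schur γ r c X + γ⁻¹ • vecMulVec c r) =
      cj p.P (schur γ r c X) + γ⁻¹ • vecMulVec (p.P.1 *ᵥ c) (r ᵥ* p.P⁻¹.1) := by
    simp [cj, Matrix.mul_add, Matrix.add_mul, mul_vecMulVec, vecMulVec_mul, Matrix.mul_smul,
      Matrix.smul_mul]
  rw [(congrArg (cj p.P) hX).trans hsum, p.eq, hc, hr, vecMulVec_vpair, blk_smul, blk_add, bord_blk]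
  congr 1
  · ext j i
    refine Fin.cases ?_ (fun i => ?_) i
    · simp [colL, bord, Matrix.mul_apply, Fin.sum_univ_succ, mulVec, dotProduct]
      field_simp
      ring
    · simp [colL, bord, Matrix.mul_apply, Fin.sum_univ_succ, mulVec, dotProduct, vecMulVec_apply,
        mul_add, Finset.sum_add_distrib]
      simp_rw [mul_left_comm _ γ⁻¹, ← Finset.mul_sum, ← mul_assoc (p.L j _), ← Finset.sum_mul]
      field_simp
      ring
  · ext j j'
    simp [colL, rowR, Matrix.mul_apply, Fin.sum_univ_succ, mulVec, dotProduct, vecMulVec_apply,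
      mul_add, Finset.sum_add_distrib]
    simp_rw [mul_left_comm _ γ⁻¹, ← Finset.mul_sum, ← mul_assoc (p.L j _), ← Finset.sum_mul]
    field_simp
    ring

/-- the trivial peeling -/
def peelZero (S : Matrix (Fin n) (Fin n) K) (hns : 2 ≤ n → ¬ IsSc S) : Peel S 0 n where
  P := 1
  e := Equiv.emptySum (Fin 0) (Fin n)
  X₁ := 0
  R := 0
  L := 0
  S' := S
  eq := by
    rw [cj_one]
    ext a b
    simp [blk]
  nsc := hns

variable [Fintype K]

/-- peeling a leading block of prescribed determinant -/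
theorem exists_peel (h4 : 4 ≤ Fintype.card K) : ∀ (h l n : ℕ), h + l = n →
    ∀ S : Matrix (Fin n) (Fin n) K, S.det ≠ 0 → (2 ≤ n → ¬ IsSc S) →
    ∀ γ : Fin h → K, (∀ i, γ i ≠ 0) → (l = 0 → S.det = ∏ i, γ i) →
    ∃ p : Peel S h l, p.X₁.det = ∏ i, γ i ∧
      ∀ κ : K, p.X₁ = κ • 1 → ∀ i, γ i = κ := by
  intro h
  induction h with
  | zero =>
    intro l n hln S hS hns γ hγ hl
    obtain rfl : l = n := by omega
    exact ⟨peelZero S hns, by simp [peelZero], fun κ _ i => i.elim0⟩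
  | succ h ih =>
    intro l n hln S hS hns γ hγ hl
    obtain ⟨m, rfl⟩ : ∃ m, n = m + 1 := ⟨n - 1, by omega⟩
    obtain ⟨P, r, c, X, hS', hsc⟩ : ∃ (P : GL (Fin (m + 1)) K) (r c : Fin m → K)
        (X : Matrix (Fin m) (Fin m) K), cj P S = bord (γ 0) r c X ∧
        (2 ≤ m → ¬ IsSc (schur (γ 0) r c X)) := by
      by_cases hm : 1 ≤ m
      · obtain ⟨P, r, c, X, h1, -, h3⟩ := step h4 hm hS (hns (by omega)) (hγ 0)
        exact ⟨P, r, c, X, h1, h3⟩
      · obtain rfl : m = 0 := by omega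
        refine ⟨1, 0, 0, 0, ?_, fun h2 => absurd h2 (by omega)⟩
        rw [cj_one]
        ext a b
        fin_cases a; fin_cases b
        have h1 := hl (by omega)
        obtain rfl : h = 0 := by omega
        simpa [bord, det_fin_one] using h1
    have hd := det_schur (hγ 0) hS'
    obtain ⟨p, hp, hpc⟩ := ih l m (by omega) (schur (γ 0) r c X)
      (fun h0 => hS (by rw [← hd, h0, mul_zero])) hsc (fun i => γ i.succ) (fun i => hγ _)
      (fun hl0 => mul_left_cancel₀ (hγ 0) (by rw [hd, hl hl0, Fin.prod_univ_succ]))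
    obtain ⟨q, r₁, c₁, -, -, -, -, hX, -, -, -, -⟩ := extend_peel (hγ 0) hS' p
    refine ⟨q, ?_, fun κ hκ => ?_⟩
    · rw [hX, det_bord_schur (hγ 0), schur, add_sub_cancel_right, hp, Fin.prod_univ_succ]
    · rw [hX] at hκ
      have h00 := congrFun (congrFun hκ 0) 0
      have hr : r₁ = 0 := by
        funext j
        have := congrFun (congrFun hκ 0) j.succ
        simpa [bord, (Fin.succ_ne_zero j).symm] using this
      have hin : p.X₁ = κ • 1 := by
        ext i j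
        have := congrFun (congrFun hκ i.succ) j.succ
        simpa [bord, hr, Matrix.one_apply] using this
      intro i
      refine Fin.cases ?_ (fun i => hpc κ hin i) i
      simpa [bord] using h00

end Cfsg.Agent.LevCover
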