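/-
Covering number of PSL(n,q): products of two regular unipotent matrices.
-/
import Cfsg.Agent.Lib.LevCover.Peel

set_option autoImplicit false

namespace Cfsg.Agent.LevCover

open Polynomial Matrix Module
open Cfsg.Agent.SLComm (Cyc bord img eigen)

variable {K : Type*} [Field K] {n : ℕ}

theorem CS.smul {U : Matrix (Fin n) (Fin n) K} (h : CS ((X - C 1) ^ n) U) {a : K} (ha : a ≠ 0) :
    CS ((X - C a) ^ n) (a • U) := by
  obtain ⟨w, hw⟩ := h
  have key : ∀ p : K[X], aeval (a • U) p = aeval U (p.comp (C a * X)) := by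
    intro p
    rw [Polynomial.aeval_comp, map_mul, aeval_C, aeval_X, Algebra.algebraMap_eq_smul_one,
      smul_one_mul]
  refine ⟨w, (monic_X_sub_C a).pow n, by rw [natDegree_pow, natDegree_X_sub_C, mul_one], ?_, ?_⟩
  · have h1 := hw.ann
    simp only [map_pow, map_sub, aeval_X, aeval_C, map_one, Algebra.algebraMap_eq_smul_one] at h1 ⊢
    rw [show a • U - a • (1 : Matrix (Fin n) (Fin n) K) = a • (U - 1) by rw [smul_sub],
      _root_.smul_pow, h1, smul_zero]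
  · intro p hp h0
    rw [key] at h0
    by_contra hp0
    have hd : (p.comp (C a * X)).natDegree = p.natDegree := by
      rw [natDegree_comp, natDegree_C_mul_X a ha, mul_one]
    have h1 : p.comp (C a * X) = 0 := hw.indep _ (lt_of_le_of_lt degree_le_natDegree (by
      rw [hd, ← degree_eq_natDegree hp0]; exact hp)) h0
    have h2 := comp_eq_zero_iff.1 h1
    rcases h2 with h2 | ⟨-, h2⟩
    · exact hp0 h2
    · have h3 := congrArg natDegree h2
      rw [natDegree_C_mul_X a ha, natDegree_C] at h3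
      exact one_ne_zero h3

theorem cs_one : CS ((X - C 1) ^ 1) (1 : Matrix (Fin 1) (Fin 1) K) := by
  refine ⟨Pi.single 0 1, SLComm.cyc_unipotent (by simp) ?_⟩
  rw [pow_zero, one_mulVec]
  simp

theorem inverse_factor {M A C' : Matrix (Fin (n + 1)) (Fin (n + 1)) K} {u : Fin (n + 1) → K}
    (hM : M.det = 1) (h1 : M * C' = A) (h2 : CS ((X - C 1) ^ (n + 1)) A)
    (hu : Cyc ((X - C 1) ^ (n + 1)) C' u) :
    ∃ B, M = A * B ∧ C' * B = 1 ∧ CS ((X - C 1) ^ (n + 1)) B := by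
  have hd : C'.det ≠ 0 := by
    intro h0
    obtain ⟨x, hx, hx'⟩ := Matrix.exists_mulVec_eq_zero_iff.2 h0
    have h3 := eval_charpoly_of_eigen hx (show C' *ᵥ x = (0 : K) • x by rw [hx', zero_smul])
    rw [(show CS _ C' from ⟨u, hu⟩).charpoly] at h3
    simp at h3
  have hC := Matrix.mul_nonsing_inv C' (isUnit_iff_ne_zero.2 hd)
  exact ⟨C'⁻¹, by rw [← h1, mul_assoc, hC, mul_one], hC,
    SLComm.cyc_unipotent_inv (Nat.le_add_left 1 n) hu hC⟩

/-- two regular unipotent factors without a common fixed vector -/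
theorem unip_free (s : Finset K) (hs : 4 ≤ s.card) (hn : 1 ≤ n)
    (M : Matrix (Fin (n + 1)) (Fin (n + 1)) K) (hdet : M.det = 1) (hns : ¬ IsSc M)
    (hr : 2 ≤ finrank K (img (M - 1))) :
    ∃ A B, M = A * B ∧ CS ((X - C 1) ^ (n + 1)) A ∧ CS ((X - C 1) ^ (n + 1)) B ∧
      ∀ y, A *ᵥ y = y → B *ᵥ y = y → y = 0 := by
  have hne : (Pi.single 0 1 : Fin (n + 1) → K) ≠ 0 := by simp
  obtain ⟨P, c, r, X', hP, hc, hr', -, -, hd', hnext⟩ := SLComm.exists_split s (by omega)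
    (Or.inl hs) hn (fun h3 => absurd h3 (by omega)) M hdet hr (fun a h => hns ⟨a, h⟩) _ _ hne hne
  obtain ⟨m, rfl⟩ : ∃ m, n = m + 1 := ⟨n - 1, by omega⟩
  obtain ⟨A', C', w, v, h1, h2, h3, -, h5, h6⟩ :=
    SLComm.fac_regular s hs m _ hd' (fun h => hnext (by omega)) c r hc hr'
  obtain ⟨w', hw', -⟩ := h2.bord_near h5 (vecCons 1 0) (by simp)
  have h7 : Cyc ((Polynomial.X - C 1) ^ (m + 1)) C'ᵀ (-v) := by simpa using h3.smul (k := -1) (by simp)
  obtain ⟨v', hv', -⟩ := h7.bord_near h6.twist (vecCons 1 0) (by simp)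
  obtain ⟨Cb, hCb⟩ : ∃ Cb, Cb = bord 1 (-(r ᵥ* C')) 0 C' := ⟨_, rfl⟩
  have ht : Cbᵀ = bord 1 0 (-(C'ᵀ *ᵥ r)) C'ᵀ := by
    rw [hCb, SLComm.bord_transpose, mulVec_transpose]
  obtain ⟨u, hu⟩ := (ht ▸ hv').transpose
  rw [transpose_transpose, ← pow_succ'] at hu
  have hb : bord 1 r c X' * Cb = bord 1 0 c A' := by
    have := SLComm.bord_factor h1 (1 : K)
    rw [one_smul] at this
    rwa [hCb]
  rw [← pow_succ'] at hw'
  obtain ⟨B, hB1, hB2, hB3⟩ := inverse_factor (by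
    rw [← hP, det_units_conj, hdet]) hb ⟨w', hw'⟩ hu
  refine ⟨cj P⁻¹ (bord 1 0 c A'), cj P⁻¹ B, ?_, (show CS _ _ from ⟨w', hw'⟩).cj _, hB3.cj _, ?_⟩
  · rw [← cj_mul, ← hB1, ← hP]
    exact (cj_inv_cj P M).symm
  · intro y hy hy'
    obtain ⟨z, rfl⟩ : ∃ z, y = P⁻¹.1 *ᵥ z := ⟨P.1 *ᵥ y, (SLComm.gl_inv_mulVec P y).symm⟩
    rw [cj_mulVec] at hy hy'
    have hy1 := SLComm.gl_mulVec_inj P⁻¹ hy
    have hy2 := SLComm.gl_mulVec_inj P⁻¹ hy'
    have hCz : Cb *ᵥ z = (1 : K) • z := by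
      rw [one_smul]
      conv_lhs => rw [← hy2, mulVec_mulVec, hB2, one_mulVec]
    have he : Cb *ᵥ vecCons 1 0 = (1 : K) • vecCons 1 0 := by
      rw [hCb, SLComm.bord_mulVec]
      simp
    obtain ⟨t, ht'⟩ := (show CS _ Cb from ⟨u, hu⟩).geo 1 _ z he hCz (fun h => by
      simpa using congrFun h 0)
    rw [ht', mulVec_smul, SLComm.bord_mulVec] at hy1
    have h8 := congrArg vecTail hy1
    simp at h8
    have ht0 : t = 0 := h8.resolve_right hc
    rw [ht', ht0, zero_smul, mulVec_zero]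

theorem transvection_two (h4 : ∃ b t : K, t ≠ 0 ∧ b ≠ 0 ∧ b ≠ 1) {M : Matrix (Fin 2) (Fin 2) K}
    (hdet : M.det = 1) (hns : ¬ IsSc M) (hr : finrank K (img (M - 1)) ≤ 1) :
    ∃ A B, M = A * B ∧ CS ((X - C 1) ^ 2) A ∧ CS ((X - C 1) ^ 2) B := by
  obtain ⟨a, b, hab⟩ := SLComm.exists_vecMulVec hr
  rw [sub_eq_iff_eq_add'] at hab
  have ha : a ≠ 0 := fun h => hns ⟨1, by rw [hab, h]; simp⟩
  have hb : b ≠ 0 := fun h => hns ⟨1, by rw [hab, h]; simp⟩
  have hba := SLComm.dot_eq_zero_of_det (hab ▸ hdet)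
  obtain ⟨s, -, -, hs0, hs1⟩ := h4
  have key : ∀ z : K, z ≠ 0 → CS ((X - C 1) ^ 2) (1 + z • vecMulVec a b) := by
    intro z hz
    obtain ⟨i, hi⟩ := Function.ne_iff.1 hb
    refine ⟨Pi.single i 1, SLComm.cyc_unipotent ?_ ?_⟩
    · rw [add_sub_cancel_left, pow_two, smul_mul_smul_comm, vecMulVec_mul_vecMulVec, hba]
      simp
    · rw [add_sub_cancel_left]
      show ((z • vecMulVec a b) ^ 1) *ᵥ _ ≠ 0
      rw [pow_one, smul_mulVec, vecMulVec_mulVec, dotProduct_single, mul_one, op_smul_eq_smul]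
      exact smul_ne_zero hz (smul_ne_zero hi ha)
  refine ⟨_, _, ?_, key s hs0, key (1 - s) (sub_ne_zero.2 (Ne.symm hs1))⟩
  rw [mul_add, add_mul, one_mul, mul_one, add_mul, one_mul, smul_mul_smul_comm,
    vecMulVec_mul_vecMulVec, hba, hab]
  simp only [zero_smul, vecMulVec_zero, smul_zero, add_zero]
  module

/-- two regular unipotent factors -/
theorem unip_pair (s : Finset K) (hs : 4 ≤ s.card) :
    ∀ (h : ℕ), 1 ≤ h → ∀ (M : Matrix (Fin h) (Fin h) K), M.det = 1 → (2 ≤ h → ¬ IsSc M) →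
    ∃ A B, M = A * B ∧ CS ((X - C 1) ^ h) A ∧ CS ((X - C 1) ^ h) B := by
  intro h hh M hdet hns
  obtain ⟨n, rfl⟩ : ∃ n, h = n + 1 := ⟨h - 1, by omega⟩
  rcases Nat.lt_or_ge n 2 with hn | hn
  · interval_cases n
    · refine ⟨1, 1, ?_, cs_one, cs_one⟩
      ext i j
      fin_cases i; fin_cases j
      simpa [det_fin_one] using hdet
    · by_cases hr : 2 ≤ finrank K (img (M - 1))
      · obtain ⟨A, B, h1, h2, h3, -⟩ := unip_free s hs le_rfl M hdet (hns le_rfl) hr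
        exact ⟨A, B, h1, h2, h3⟩
      · obtain ⟨b, hb⟩ : ∃ b : K, b ≠ 0 ∧ b ≠ 1 := by
          classical
          by_contra hall
          push Not at hall
          have hsub : s ⊆ ({0, 1} : Finset K) := fun x _ => by
            rcases eq_or_ne x 0 with h | h
            · simp [h]
            · simp [hall x h]
          have := le_trans (Finset.card_le_card hsub) Finset.card_le_two
          omega
        exact transvection_two ⟨b, 1, one_ne_zero, hb.1, hb.2⟩ hdet (hns le_rfl) (Nat.le_of_lt_succ (Nat.lt_of_not_le hr))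
  · obtain ⟨A, B, w, v, h1, h2, h3⟩ := SLComm.exists_unipotent_factors s hs hn M hdet
      (fun a ha => hns (by omega) ⟨a, ha⟩)
    exact ⟨A, B, h1, ⟨w, h2⟩, ⟨v, h3⟩⟩

end Cfsg.Agent.LevCover
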