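/-
Covering number of PSL(n,q): a leading block which is not a transvection times a scalar.
-/
import Cfsg.Agent.Lib.LevCover.Peel

set_option autoImplicit false

namespace Cfsg.Agent.LevCover

open Polynomial Matrix Module
open Cfsg.Agent.SLComm (Cyc bord img eigen)

variable {K : Type*} [Field K] {n h l : ℕ}

theorem IsSc.of_rank {S : Matrix (Fin n) (Fin n) K} {a : K} (hn : 2 ≤ n) (hS : IsSc S)
    (hr : finrank K (img (S - a • (1 : Matrix (Fin n) (Fin n) K))) ≤ 1) : S = a • 1 := by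
  obtain ⟨b, rfl⟩ := hS
  by_contra hne
  have htop : img (b • (1 : Matrix (Fin n) (Fin n) K) - a • 1) = ⊤ := by
    refine Submodule.eq_top_iff'.2 fun x => ⟨(b - a)⁻¹ • x, ?_⟩
    rw [mulVecLin_apply, ← sub_smul, smul_mulVec, one_mulVec, smul_smul,
      mul_inv_cancel₀ (sub_ne_zero.2 fun h => hne (by rw [h])), one_smul]
  rw [htop, finrank_top, finrank_fin_fun] at hr
  omega

theorem rank_two_corner {h : ℕ} (Y : Matrix (Fin (h + 2)) (Fin (h + 2)) K) (h00 : Y 0 0 = 0)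
    (h01 : Y 0 1 ≠ 0) (h10 : Y 1 0 ≠ 0) : 2 ≤ finrank K (img Y) := by
  have hli : LinearIndependent K ![Y *ᵥ Pi.single 0 1, Y *ᵥ Pi.single 1 1] := by
    rw [LinearIndependent.pair_iff]
    intro s t hst
    have e0 := congrFun hst 0
    have e1 := congrFun hst 1
    simp [mulVec_single_one, h00] at e0 e1
    have ht : t = 0 := e0.resolve_right h01
    refine ⟨?_, ht⟩
    rw [ht, zero_mul, add_zero, mul_eq_zero] at e1
    exact e1.resolve_right h10
  have hle : Submodule.span K (Set.range ![Y *ᵥ Pi.single 0 1, Y *ᵥ Pi.single 1 1]) ≤ img Y := by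
    rw [Submodule.span_le]
    rintro _ ⟨i, rfl⟩
    fin_cases i <;> exact ⟨_, rfl⟩
  have := Submodule.finrank_mono hle
  rwa [finrank_span_eq_card hli, Fintype.card_fin] at this

theorem vecMul_inv_zero (P : GL (Fin n) K) (r : Fin n → K) (hr : r ≠ 0) : r ᵥ* P.1 ≠ 0 := by
  intro h
  refine hr ?_
  rw [← vecMul_one r, ← Units.mul_inv P, ← vecMul_vecMul, h, zero_vecMul]

variable [Fintype K]

/-- peeling a leading block whose scaled value is not a transvection -/
theorem exists_peel_sharp (h4 : 4 ≤ Fintype.card K) (h l n : ℕ) (hh : 3 ≤ h) (hln : h + l = n)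
    (S : Matrix (Fin n) (Fin n) K) (hS : S.det ≠ 0) (hns : ¬ IsSc S) {a : K} (ha : a ≠ 0)
    (hrank : 2 ≤ finrank K (img (S - a • (1 : Matrix (Fin n) (Fin n) K))))
    (hl : l = 0 → S.det = a ^ h) :
    ∃ p : Peel S h l, p.X₁.det = a ^ h ∧ ¬ IsSc p.X₁ ∧
      2 ≤ finrank K (img (p.X₁ - a • (1 : Matrix (Fin h) (Fin h) K))) := by
  obtain ⟨k, rfl⟩ : ∃ k, h = k + 3 := ⟨h - 3, by omega⟩
  obtain ⟨m, rfl⟩ : ∃ m, n = m + 2 := ⟨n - 2, by omega⟩
  obtain ⟨P, r, c, X, hS1, hc, hr, hsc⟩ := stepR h4 (by omega) hS hns ha hrank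
  have hd := det_schur ha hS1
  obtain ⟨S₁, hS₁⟩ : ∃ S₁, S₁ = schur a r c X := ⟨_, rfl⟩
  rw [← hS₁] at hd hsc
  have hS₁d : S₁.det ≠ 0 := fun h0 => hS (by rw [← hd, h0, mul_zero])
  obtain ⟨g, P₂, r', c', X', hg, hS2, hc0, hr0, hsc'⟩ :=
    carry h4 (by omega) hS₁d (hsc (by omega)) hc hr
  have hd' := det_schur hg hS2
  obtain ⟨γ, hγ⟩ : ∃ γ : Fin (k + 1) → K, γ = vecCons (a ^ 2 / g) fun _ => a := ⟨_, rfl⟩
  have hprod : ∏ i, γ i = a ^ (k + 2) / g := by
    rw [hγ, Fin.prod_univ_succ]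
    simp only [cons_val_zero, cons_val_succ, Finset.prod_const, Finset.card_univ, Fintype.card_fin]
    field_simp
    ring
  obtain ⟨p₂, hp₂, -⟩ := exists_peel h4 (k + 1) l m (by omega) (schur g r' c' X')
    (fun h0 => hS₁d (by rw [← hd', h0, mul_zero])) (fun h2 => hsc' h2) γ (fun i => by
      rw [hγ]
      refine Fin.cases ?_ (fun i => ?_) i
      · simpa using div_ne_zero (pow_ne_zero 2 ha) hg
      · simpa using ha) (fun hl0 => by
      rw [hprod, eq_div_iff hg, mul_comm, hd']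
      refine mul_left_cancel₀ ha ?_
      rw [hd, hl hl0]
      ring)
  obtain ⟨p₁, r₁, c₁, -, -, -, -, hX1, -, -, hP1, he1⟩ := extend_peel hg hS2 p₂
  subst hS₁
  obtain ⟨q, r₁', c₁', r₂', c₂', hc1, hr1, hXq, -, -, -, -⟩ := extend_peel ha hS1 p₁
  refine ⟨q, ?_, ?_, ?_⟩
  · rw [hXq, det_bord_schur ha, schur, add_sub_cancel_right, hX1, det_bord_schur hg, schur,
      add_sub_cancel_right, hp₂, hprod]
    field_simp
    ring
  · intro ⟨b, hb⟩
    have h1 : r₁' 0 ≠ 0 := by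
      have h2 := congrFun hr1 (p₁.e (Sum.inl 0))
      rw [vpair, Function.comp_apply, Equiv.symm_apply_apply, Sum.elim_inl] at h2
      rw [← h2, hP1, he1, _root_.mul_inv_rev, Units.val_mul, ← vecMul_vecMul]
      show (r ᵥ* P₂⁻¹.1 ᵥ* (liftP p₂.P)⁻¹.1) 0 ≠ 0
      rw [liftP_inv_val, ← mulVec_transpose, SLComm.bord_transpose,
        ← cons_head_tail (r ᵥ* P₂⁻¹.1), SLComm.bord_mulVec]
      simpa [vecHead] using hr0
    have h2 := congrFun (congrFun hb 0) 1
    rw [hXq] at h2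
    exact h1 (by simpa [bord] using h2)
  · refine rank_two_corner _ ?_ ?_ ?_
    · rw [hXq]; simp [bord]
    · rw [hXq]
      have h1 : r₁' 0 ≠ 0 := by
        have h2 := congrFun hr1 (p₁.e (Sum.inl 0))
        rw [vpair, Function.comp_apply, Equiv.symm_apply_apply, Sum.elim_inl] at h2
        rw [← h2, hP1, he1, _root_.mul_inv_rev, Units.val_mul, ← vecMul_vecMul]
        show (r ᵥ* P₂⁻¹.1 ᵥ* (liftP p₂.P)⁻¹.1) 0 ≠ 0
        rw [liftP_inv_val, ← mulVec_transpose, SLComm.bord_transpose,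
          ← cons_head_tail (r ᵥ* P₂⁻¹.1), SLComm.bord_mulVec]
        simpa [vecHead] using hr0
      simpa [bord] using h1
    · rw [hXq]
      have h1 : c₁' 0 ≠ 0 := by
        have h2 := congrFun hc1 (p₁.e (Sum.inl 0))
        rw [vpair, Function.comp_apply, Equiv.symm_apply_apply, Sum.elim_inl] at h2
        rw [← h2, hP1, he1, Units.val_mul, ← mulVec_mulVec]
        show ((liftP p₂.P).1 *ᵥ (P₂.1 *ᵥ c)) 0 ≠ 0
        rw [liftP_val, ← cons_head_tail (P₂.1 *ᵥ c), SLComm.bord_mulVec]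
        simpa [vecHead] using hc0
      simpa [bord] using h1

end Cfsg.Agent.LevCover
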