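/-
Covering number of PSL(n,q): non-scalar matrices as products of two cyclic matrices with the same
split polynomial.
-/
import Cfsg.Agent.Lib.LevCover.Groups
import Cfsg.Agent.Lib.LevCover.PeelSharp

set_option autoImplicit false

namespace Cfsg.Agent.LevCover

open Polynomial Matrix Module
open Cfsg.Agent.SLComm (Cyc bord img eigen)

variable {K : Type*} [Field K] {n h l : ℕ}

theorem scale_pair {h : ℕ} {X₁ M A B : Matrix (Fin h) (Fin h) K} {a : K} (ha : a ≠ 0)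
    (hM : M = (a ^ 2)⁻¹ • X₁) (hAB : M = A * B) : X₁ = (a • A) * (a • B) := by
  rw [Matrix.smul_mul, Matrix.mul_smul, ← hAB, hM, smul_smul, smul_smul,
    show a * a * (a ^ 2)⁻¹ = 1 by field_simp, one_smul]

theorem isSc_smul {S : Matrix (Fin n) (Fin n) K} {a : K} (ha : a ≠ 0) (h : IsSc (a • S)) :
    IsSc S := by
  obtain ⟨b, hb⟩ := h
  exact ⟨a⁻¹ * b, by rw [← smul_smul, ← hb, smul_smul, inv_mul_cancel₀ ha, one_smul]⟩

theorem det_smul_inv_sq {h : ℕ} {X₁ : Matrix (Fin h) (Fin h) K} {a : K} (ha : a ≠ 0)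
    (hd : X₁.det = (a ^ 2) ^ h) : ((a ^ 2)⁻¹ • X₁).det = 1 := by
  rw [det_smul, Fintype.card_fin, hd, inv_pow, inv_mul_cancel₀ (pow_ne_zero _ (pow_ne_zero _ ha))]

/-- assembling the factors of the two diagonal blocks -/
theorem assemble {f g : K[X]} {S : Matrix (Fin n) (Fin n) K} (p : Peel S h l) {a : K}
    {L₁ U₁ : Matrix (Fin h) (Fin h) K} {L₂ U₂ : Matrix (Fin l) (Fin l) K}
    (hX : p.X₁ = L₁ * U₁) (hS' : p.S' = L₂ * U₂) (hL₁ : CS f L₁) (hU₁ : CS f U₁)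
    (hL₂ : CS g L₂) (hU₂ : CS g U₂) (hf : f.Splits) (hg : g.Splits) (hf0 : f.eval 0 ≠ 0)
    (hfg : ∀ b : K, f.eval b = 0 → g.eval b ≠ 0) (hga : g.eval a ≠ 0) :
    ∃ L U, S = L * U ∧ CS (f * g) L ∧ CS (f * g) U ∧
      ∀ (b : K) (y : Fin n → K), L *ᵥ y = b • y → U *ᵥ y = a • y → y ≠ 0 →
        ∃ x : Fin h → K, x ≠ 0 ∧ L₁ *ᵥ x = b • x ∧ U₁ *ᵥ x = a • x ∧
          p.L *ᵥ (L₁ *ᵥ x) = 0 := by
  have hd : L₁.det ≠ 0 := by
    rw [det_eq_sign_charpoly_coeff, hL₁.charpoly, coeff_zero_eq_eval_zero]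
    exact mul_ne_zero (pow_ne_zero _ (by simp)) hf0
  have hi := Matrix.mul_nonsing_inv L₁ (isUnit_iff_ne_zero.2 hd)
  obtain ⟨Lb, hLb⟩ : ∃ Lb, Lb = blk p.e L₁ 0 (p.L * L₁) L₂ := ⟨_, rfl⟩
  obtain ⟨Ub, hUb⟩ : ∃ Ub, Ub = blk p.e U₁ (L₁⁻¹ * p.R) 0 U₂ := ⟨_, rfl⟩
  have hprod : cj p.P S = Lb * Ub := by
    rw [p.eq, hLb, hUb, blk_mul, hX, hS']
    simp only [Matrix.zero_mul, Matrix.mul_zero, add_zero]
    rw [← Matrix.mul_assoc L₁ L₁⁻¹, hi, Matrix.one_mul, Matrix.mul_assoc p.L L₁ (L₁⁻¹ * p.R),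
      ← Matrix.mul_assoc L₁ L₁⁻¹, hi, Matrix.one_mul, Matrix.mul_assoc p.L L₁ U₁]
  refine ⟨cj p.P⁻¹ Lb, cj p.P⁻¹ Ub, by rw [← cj_mul, ← hprod, cj_inv_cj],
    (hLb ▸ cs_blk_lower_coprime p.e _ _ _ hL₁ hL₂ hf hg hfg).cj _,
    (hUb ▸ cs_blk_upper_coprime p.e _ _ _ hU₁ hU₂ hf hg hfg).cj _, ?_⟩
  intro b y hy hy' hy0
  obtain ⟨z, rfl⟩ : ∃ z, y = p.P⁻¹.1 *ᵥ z :=
    ⟨p.P.1 *ᵥ y, (SLComm.gl_inv_mulVec p.P y).symm⟩
  rw [cj_mulVec, ← mulVec_smul] at hy hy'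
  have h1 := SLComm.gl_mulVec_inj _ hy
  have h2 := SLComm.gl_mulVec_inj _ hy'
  obtain ⟨x, x', rfl⟩ := exists_vpair p.e z
  rw [hLb, blk_mulVec, smul_vpair] at h1
  rw [hUb, blk_mulVec, smul_vpair] at h2
  obtain ⟨e1, e2⟩ := vpair_inj _ h1
  obtain ⟨e3, e4⟩ := vpair_inj _ h2
  rw [zero_mulVec, zero_add] at e4
  have hx' : x' = 0 := by
    by_contra hx'
    exact hga (hU₂.charpoly ▸ eval_charpoly_of_eigen hx' e4)
  subst hx'
  rw [mulVec_zero, add_zero] at e1 e2 e3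
  refine ⟨x, fun hx => hy0 (by rw [hx, vpair_zero, mulVec_zero]), e1, e3, ?_⟩
  rw [mulVec_mulVec, e2, smul_zero]

variable [Fintype K]

/-- the leading pair of factors of a group of equal roots -/
theorem group_pair (h4 : 4 ≤ Fintype.card K) {h : ℕ} (hh : 1 ≤ h) {a : K} (ha : a ≠ 0)
    (X₁ : Matrix (Fin h) (Fin h) K) (hd : X₁.det = (a ^ 2) ^ h) (hns : 2 ≤ h → ¬ IsSc X₁) :
    ∃ L₁ U₁, X₁ = L₁ * U₁ ∧ CS ((X - C a) ^ h) L₁ ∧ CS ((X - C a) ^ h) U₁ := by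
  obtain ⟨A, B, h1, h2, h3⟩ := unip_pair Finset.univ (by simpa [Finset.card_univ] using h4) h hh
    _ (det_smul_inv_sq ha hd) fun h2 hsc => hns h2 (isSc_smul (inv_ne_zero (pow_ne_zero 2 ha)) hsc)
  exact ⟨a • A, a • B, scale_pair ha rfl h1, h2.smul ha, h3.smul ha⟩

theorem group_free (h4 : 4 ≤ Fintype.card K) {h : ℕ} (hh : 2 ≤ h) {a : K} (ha : a ≠ 0)
    (X₁ : Matrix (Fin h) (Fin h) K) (hd : X₁.det = (a ^ 2) ^ h)
    (hns : ¬ IsSc X₁) (hr : 2 ≤ finrank K (img (X₁ - a ^ 2 • (1 : Matrix (Fin h) (Fin h) K)))) :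
    ∃ L₁ U₁, X₁ = L₁ * U₁ ∧ CS ((X - C a) ^ h) L₁ ∧ CS ((X - C a) ^ h) U₁ ∧
      ∀ y, L₁ *ᵥ y = a • y → U₁ *ᵥ y = a • y → y = 0 := by
  obtain ⟨k, rfl⟩ : ∃ k, h = k + 1 := ⟨h - 1, by omega⟩
  obtain ⟨M, hM⟩ : ∃ M, M = (a ^ 2)⁻¹ • X₁ := ⟨_, rfl⟩
  have hr' : 2 ≤ finrank K (img (M - 1)) := by
    refine le_trans hr (Submodule.finrank_mono ?_)
    rintro _ ⟨x, rfl⟩
    refine ⟨a ^ 2 • x, ?_⟩
    simp only [mulVecLin_apply, hM, sub_mulVec, one_mulVec, smul_mulVec, mulVec_smul, smul_sub,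
      smul_smul, mul_inv_cancel₀ (pow_ne_zero 2 ha), inv_mul_cancel₀ (pow_ne_zero 2 ha), one_smul]
  have hdM : M.det = 1 := by rw [hM]; exact det_smul_inv_sq ha hd
  obtain ⟨A, B, h1, h2, h3, hfree⟩ := unip_free Finset.univ (by simpa [Finset.card_univ] using h4)
    (by omega : 1 ≤ k) M hdM (fun hsc => hns (isSc_smul (inv_ne_zero (pow_ne_zero 2 ha)) (hM ▸ hsc))) hr'
  refine ⟨a • A, a • B, scale_pair ha hM h1, h2.smul ha, h3.smul ha, fun y hy hy' => hfree y ?_ ?_⟩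
  · rw [smul_mulVec] at hy
    exact smul_right_injective _ ha hy
  · rw [smul_mulVec] at hy'
    exact smul_right_injective _ ha hy'

theorem det_eq_eval {m : ℕ} {L : Matrix (Fin m) (Fin m) K} {f : K[X]} (h : CS f L) :
    L.det = (-1) ^ m * f.eval 0 := by
  rw [det_eq_sign_charpoly_coeff, h.charpoly, coeff_zero_eq_eval_zero, Fintype.card_fin]

theorem exists_gamma (h4 : 4 ≤ Fintype.card K) {a : K} (ha0 : a ≠ 0) (h : ℕ) :
    ∃ γ : Fin h → K, (∏ i, γ i) = (a ^ 2) ^ h ∧ (∀ i, γ i ≠ 0) ∧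
      (2 ≤ h → ∀ κ : K, ¬ ∀ i, γ i = κ) := by
  obtain ⟨c, hc0, hc1, hc2⟩ := exists_avoid_two h4 1 (-1)
  by_cases hh2 : 2 ≤ h
  · obtain ⟨k, rfl⟩ : ∃ k, h = k + 2 := ⟨h - 2, by omega⟩
    refine ⟨vecCons (a ^ 2 * c) (vecCons (a ^ 2 / c) fun _ => a ^ 2), ?_, ?_,
      fun _ κ hκ => ?_⟩
    · rw [Fin.prod_univ_succ, Fin.prod_univ_succ]
      simp only [cons_val_zero, cons_val_succ, Finset.prod_const, Finset.card_univ,
        Fintype.card_fin]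
      field_simp
      ring
    · intro i
      refine Fin.cases ?_ (fun i => ?_) i
      · simpa using mul_ne_zero (pow_ne_zero 2 ha0) hc0
      · refine Fin.cases ?_ (fun i => ?_) i
        · simpa using div_ne_zero (pow_ne_zero 2 ha0) hc0
        · simpa using pow_ne_zero 2 ha0
    · have h1 := hκ 0
      have h2 := hκ 1
      rw [← h2] at h1
      have h3 : a ^ 2 * c = a ^ 2 / c := by simpa using h1
      rw [eq_div_iff hc0, mul_assoc, mul_eq_left₀ (pow_ne_zero 2 ha0)] at h3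
      rcases mul_self_eq_one_iff.1 h3 with h4' | h4'
      exacts [hc1 h4', hc2 h4']
  · exact ⟨fun _ => a ^ 2, by simp, fun _ => pow_ne_zero 2 ha0, fun h => absurd h hh2⟩

/-- a non-scalar matrix is a product of two cyclic matrices with a given split polynomial -/
theorem two_factor_aux (h4 : 4 ≤ Fintype.card K) : ∀ (n : ℕ) (f : K[X]), f.Monic →
    f.natDegree = n → f.Splits → f.eval 0 ≠ 0 → ∀ S : Matrix (Fin n) (Fin n) K,
    S.det = f.eval 0 ^ 2 → (2 ≤ n → ¬ IsSc S) →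
    ∃ L U, S = L * U ∧ CS f L ∧ CS f U := by
  intro n
  induction n using Nat.strong_induction_on with
  | _ n ih =>
    intro f hf hdeg hsp hf0 S hS hns
    rcases Nat.eq_zero_or_pos n with rfl | hn
    · have h1 : CS f (1 : Matrix (Fin 0) (Fin 0) K) := by
        refine ⟨0, hf, hdeg, Subsingleton.elim _ _, fun p hp _ =>
          degree_eq_bot.1 (Nat.WithBot.lt_zero_iff.1 hp)⟩
      exact ⟨1, 1, Subsingleton.elim _ _, h1, h1⟩
    obtain ⟨a, ha⟩ := hsp.exists_eval_eq_zero (by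
      rw [degree_eq_natDegree hf.ne_zero, hdeg]; norm_cast; omega)
    obtain ⟨g, hg, hga⟩ := exists_eq_pow_rootMultiplicity_mul_and_not_dvd f hf.ne_zero a
    obtain ⟨h, hh⟩ : ∃ h, h = rootMultiplicity a f := ⟨_, rfl⟩
    rw [← hh] at hg
    have hh0 : 1 ≤ h := hh ▸ (rootMultiplicity_pos hf.ne_zero).2 ha
    have ha0 : a ≠ 0 := fun h0 => hf0 (h0 ▸ ha)
    have hgm : g.Monic := ((monic_X_sub_C a).pow h).of_mul_monic_left (hg ▸ hf)
    have hdeg' : h + g.natDegree = n := by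
      rw [← hdeg, hg, ((monic_X_sub_C a).pow h).natDegree_mul hgm, natDegree_pow, natDegree_X_sub_C,
        mul_one]
    have hgs : g.Splits := hsp.of_dvd hf.ne_zero ⟨(X - C a) ^ h, by rw [hg, mul_comm]⟩
    have hval : f.eval 0 ^ 2 = (a ^ 2) ^ h * g.eval 0 ^ 2 := by
      rw [hg, eval_mul, eval_pow, eval_sub, eval_X, eval_C, zero_sub, mul_pow, ← pow_mul,
        mul_comm h 2, pow_mul, neg_sq]
    have hg0 : g.eval 0 ≠ 0 := fun h0 => hf0 (by rw [hg, eval_mul, h0, mul_zero])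
    obtain ⟨γ, hγd, hγ0, hγne⟩ := exists_gamma h4 ha0 h
    have hSd : S.det ≠ 0 := by rw [hS]; exact pow_ne_zero 2 hf0
    obtain ⟨p, hp, hpc⟩ := exists_peel h4 h g.natDegree n hdeg' S hSd hns γ hγ0 (fun hl => by
      rw [hS, hval, hγd, show g = 1 from hgm.natDegree_eq_zero.1 hl]
      simp)
    have hX : p.X₁.det = (a ^ 2) ^ h := hp.trans hγd
    have hS' : p.S'.det = g.eval 0 ^ 2 := by
      have h1 := p.det_eq
      rw [hX, hS, hval] at h1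
      exact mul_left_cancel₀ (pow_ne_zero _ (pow_ne_zero _ ha0)) h1
    obtain ⟨L₂, U₂, e2, hL₂, hU₂⟩ := ih g.natDegree (by omega) g hgm rfl hgs hg0 p.S' hS' p.nsc
    obtain ⟨L₁, U₁, e1, hL₁, hU₁⟩ := group_pair h4 hh0 ha0 p.X₁ hX (fun h2 ⟨κ, hκ⟩ =>
      hγne h2 κ (hpc κ hκ))
    obtain ⟨L, U, he, hL, hU, -⟩ := assemble p e1 e2 hL₁ hU₁ hL₂ hU₂ (a := a)
        ((Splits.X_sub_C a).pow h) hgs (by simp [ha0]) (fun b hb => by
          rw [eval_pow, eval_sub, eval_X, eval_C, pow_eq_zero_iff (by omega), sub_eq_zero] at hb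
          exact hb ▸ fun h0 => hga (dvd_iff_isRoot.2 h0)) (fun h0 => hga (dvd_iff_isRoot.2 h0))
    exact ⟨L, U, he, hg ▸ hL, hg ▸ hU⟩


/-- the factorisation adapted to a root `a`: no eigenvector of the first factor is an
eigenvector for `a` of the second one, except possibly for `a` itself -/
theorem two_factor (h4 : 4 ≤ Fintype.card K) {f : K[X]} (hf : f.Monic) (hdeg : f.natDegree = n)
    (hsp : f.Splits) (hf0 : f.eval 0 ≠ 0) {a : K} (ha : f.eval a = 0)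
    {S : Matrix (Fin n) (Fin n) K} (hS : S.det = f.eval 0 ^ 2) (hns : ¬ IsSc S) :
    ∃ L U, S = L * U ∧ CS f L ∧ CS f U ∧
      (∀ b, b ≠ a → ∀ y, L *ᵥ y = b • y → U *ᵥ y = a • y → y = 0) ∧
      ((rootMultiplicity a f = 1 ∨ (3 ≤ rootMultiplicity a f ∧
          2 ≤ finrank K (img (S - a ^ 2 • (1 : Matrix (Fin n) (Fin n) K))))) →
        ∀ y, L *ᵥ y = a • y → U *ᵥ y = a • y → y = 0) := by
  obtain ⟨g, hg, hga⟩ := exists_eq_pow_rootMultiplicity_mul_and_not_dvd f hf.ne_zero a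
  obtain ⟨h, hh⟩ : ∃ h, h = rootMultiplicity a f := ⟨_, rfl⟩
  rw [← hh] at hg ⊢
  have hh0 : 1 ≤ h := hh ▸ (rootMultiplicity_pos hf.ne_zero).2 ha
  have ha0 : a ≠ 0 := fun h0 => hf0 (h0 ▸ ha)
  have hgm : g.Monic := ((monic_X_sub_C a).pow h).of_mul_monic_left (hg ▸ hf)
  have hdeg' : h + g.natDegree = n := by
    rw [← hdeg, hg, ((monic_X_sub_C a).pow h).natDegree_mul hgm, natDegree_pow, natDegree_X_sub_C,
      mul_one]
  have hgs : g.Splits := hsp.of_dvd hf.ne_zero ⟨(X - C a) ^ h, by rw [hg, mul_comm]⟩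
  have hval : f.eval 0 ^ 2 = (a ^ 2) ^ h * g.eval 0 ^ 2 := by
    rw [hg, eval_mul, eval_pow, eval_sub, eval_X, eval_C, zero_sub, mul_pow, ← pow_mul,
      mul_comm h 2, pow_mul, neg_sq]
  have hg0 : g.eval 0 ≠ 0 := fun h0 => hf0 (by rw [hg, eval_mul, h0, mul_zero])
  have hga' : g.eval a ≠ 0 := fun h0 => hga (dvd_iff_isRoot.2 h0)
  have hfg : ∀ b : K, ((X - C a) ^ h).eval b = 0 → g.eval b ≠ 0 := fun b hb => by
    rw [eval_pow, eval_sub, eval_X, eval_C, pow_eq_zero_iff (by omega), sub_eq_zero] at hb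
    exact hb ▸ hga'
  have hl0 : g.natDegree = 0 → S.det = (a ^ 2) ^ h := fun hl => by
    rw [hS, hval, show g = 1 from hgm.natDegree_eq_zero.1 hl]
    simp
  have hSd : S.det ≠ 0 := by rw [hS]; exact pow_ne_zero 2 hf0
  have hX0 : ∀ p : Peel S h g.natDegree, p.X₁.det = (a ^ 2) ^ h → p.S'.det = g.eval 0 ^ 2 := by
    intro p hX
    have h1 := p.det_eq
    rw [hX, hS, hval] at h1
    exact mul_left_cancel₀ (pow_ne_zero _ (pow_ne_zero _ ha0)) h1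
  have finish : ∀ (p : Peel S h g.natDegree) (L₁ U₁ : Matrix (Fin h) (Fin h) K),
      p.X₁.det = (a ^ 2) ^ h → p.X₁ = L₁ * U₁ → CS ((X - C a) ^ h) L₁ → CS ((X - C a) ^ h) U₁ →
      ((h = 1 ∨ (3 ≤ h ∧ 2 ≤ finrank K (img (S - a ^ 2 • (1 : Matrix (Fin n) (Fin n) K))))) →
        ∀ x, L₁ *ᵥ x = a • x → U₁ *ᵥ x = a • x → p.L *ᵥ (L₁ *ᵥ x) = 0 → x = 0) →
      ∃ L U, S = L * U ∧ CS f L ∧ CS f U ∧
      (∀ b, b ≠ a → ∀ y, L *ᵥ y = b • y → U *ᵥ y = a • y → y = 0) ∧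
      ((h = 1 ∨ (3 ≤ h ∧ 2 ≤ finrank K (img (S - a ^ 2 • (1 : Matrix (Fin n) (Fin n) K))))) →
        ∀ y, L *ᵥ y = a • y → U *ᵥ y = a • y → y = 0) := by
    intro p L₁ U₁ hX e1 hL₁ hU₁ hfree
    obtain ⟨L₂, U₂, e2, hL₂, hU₂⟩ :=
      two_factor_aux h4 g.natDegree g hgm rfl hgs hg0 p.S' (hX0 p hX) p.nsc
    obtain ⟨L, U, he, hL, hU, hprop⟩ := assemble p e1 e2 hL₁ hU₁ hL₂ hU₂
      ((Splits.X_sub_C a).pow h) hgs (by simp [ha0]) hfg hga'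
    refine ⟨L, U, he, hg ▸ hL, hg ▸ hU, fun b hb y hy hy' => ?_, fun hc y hy hy' => ?_⟩
    · by_contra hy0
      obtain ⟨x, hx0, hx1, -, -⟩ := hprop b y hy hy' hy0
      have h1 := hL₁.charpoly ▸ eval_charpoly_of_eigen hx0 hx1
      rw [eval_pow, eval_sub, eval_X, eval_C, pow_eq_zero_iff (by omega), sub_eq_zero] at h1
      exact hb h1
    · by_contra hy0
      obtain ⟨x, hx0, hx1, hx2, hx3⟩ := hprop a y hy hy' hy0
      exact hx0 (hfree hc x hx1 hx2 hx3)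
  by_cases hsharp : 3 ≤ h ∧ 2 ≤ finrank K (img (S - a ^ 2 • (1 : Matrix (Fin n) (Fin n) K)))
  · obtain ⟨p, hX, hXns, hXr⟩ := exists_peel_sharp h4 h g.natDegree n hsharp.1 hdeg' S hSd hns
      (pow_ne_zero 2 ha0) hsharp.2 hl0
    obtain ⟨L₁, U₁, e1, hL₁, hU₁, hfree⟩ := group_free h4 (by omega) ha0 p.X₁ hX hXns hXr
    exact finish p L₁ U₁ hX e1 hL₁ hU₁ (fun _ x h1 h2 _ => hfree x h1 h2)
  by_cases hone : h = 1 ∧ 2 ≤ n
  · obtain ⟨rfl, hn2⟩ := hone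
    obtain ⟨m, rfl⟩ : ∃ m, n = m + 1 := ⟨n - 1, by omega⟩
    obtain ⟨P, r, c, X', hS', hc, hsc⟩ := step h4 (by omega) hSd hns (pow_ne_zero 2 ha0)
    obtain ⟨p, r₁, c₁, r₂, c₂, hc', -, hX, hL, -, -, -⟩ := extend_peel (h := 0) (l := g.natDegree)
      (pow_ne_zero 2 ha0) hS'
      ((show g.natDegree = m by omega) ▸ peelZero (schur (a ^ 2) r c X') hsc)
    have hd : p.X₁.det = (a ^ 2) ^ 1 := by
      rw [hX, det_fin_one]; simp [SLComm.bord]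
    obtain ⟨L₁, U₁, e1, hL₁, hU₁⟩ := group_pair h4 le_rfl ha0 p.X₁ hd (fun h => absurd h (by omega))
    refine finish p L₁ U₁ hd e1 hL₁ hU₁ (fun _ x hx1 _ hx3 => ?_)
    rw [hx1, mulVec_smul, smul_eq_zero] at hx3
    have hx3' := hx3.resolve_left ha0
    by_contra hx0
    have hx : x 0 ≠ 0 := fun h => hx0 (funext fun i => by rw [Subsingleton.elim i 0]; exact h)
    have hc1 : c₁ = 0 := Subsingleton.elim _ _
    have hc2 : c₂ = 0 := by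
      funext j
      have := congrFun hx3' j
      rw [hL, mulVec, dotProduct, Fin.sum_univ_one] at this
      simpa [colL, hc1, hx, ha0] using this
    refine hc (SLComm.gl_mulVec_inj _ (hc'.trans ?_ |>.trans (mulVec_zero _).symm))
    rw [hc1, hc2, vpair_zero]
  obtain ⟨γ, hγd, hγ0, hγne⟩ : ∃ γ : Fin h → K, (∏ i, γ i) = (a ^ 2) ^ h ∧ (∀ i, γ i ≠ 0) ∧
      (2 ≤ h → ∀ κ : K, ¬ ∀ i, γ i = κ) := exists_gamma h4 ha0 h
  obtain ⟨p, hp, hpc⟩ := exists_peel h4 h g.natDegree n hdeg' S hSd (fun _ => hns) γ hγ0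
    (fun hl => by rw [hl0 hl, hγd])
  obtain ⟨L₁, U₁, e1, hL₁, hU₁⟩ := group_pair h4 hh0 ha0 p.X₁ (hp.trans hγd) (fun h2 ⟨κ, hκ⟩ =>
    hγne h2 κ (hpc κ hκ))
  refine finish p L₁ U₁ (hp.trans hγd) e1 hL₁ hU₁ (fun hc x hx1 _ _ => ?_)
  exfalso
  rcases hc with hc | hc
  · have : n = 1 := by
      by_contra hn1
      exact hone ⟨hc, by omega⟩
    subst this
    exact hns ⟨S 0 0, by ext i j; fin_cases i; fin_cases j; simp⟩
  · exact hsharp hc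

end Cfsg.Agent.LevCover
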