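/-
Covering number of PSL(n,q): the triangular product of two companion-like matrices.
-/
import Cfsg.Agent.Lib.LevCover.TwoFactor

set_option autoImplicit false

namespace Cfsg.Agent.LevCover

open Polynomial Matrix Module
open Cfsg.Agent.SLComm (Cyc bord img eigen)

variable {K : Type*} [Field K] {n : ℕ}

/-- lower triangular, two diagonals from the second column on, nonzero below the diagonal
from the second column on -/
structure Shaped (M : Matrix (Fin (n + 1)) (Fin (n + 1)) K) : Prop where
  low : ∀ i j, i < j → M i j = 0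
  band : ∀ i j : Fin (n + 1), 1 ≤ j.val → j.val + 1 < i.val → M i j = 0
  sub : ∀ i j : Fin (n + 1), 1 ≤ j.val → i.val = j.val + 1 → M i j ≠ 0

/-- companion shape -/
def Shift (C : Matrix (Fin (n + 1)) (Fin (n + 1)) K) : Prop :=
  ∀ i j : Fin (n + 1), j.val < n → C i j = if i.val = j.val + 1 then 1 else 0

theorem Shift.det_ne {C : Matrix (Fin (n + 1)) (Fin (n + 1)) K} (hC : Shift C) (hd : C.det ≠ 0) :
    C 0 (Fin.last n) ≠ 0 := by
  intro h
  refine hd (Matrix.det_eq_zero_of_row_eq_zero 0 fun j => ?_)
  by_cases hj : j.val < n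
  · rw [hC 0 j hj, if_neg (by simp)]
  · rwa [show j = Fin.last n from Fin.ext (by rw [Fin.val_last]; omega)]

theorem Shift.mulVec_zero_row {C : Matrix (Fin (n + 1)) (Fin (n + 1)) K} (hC : Shift C)
    (x : Fin (n + 1) → K) : (C *ᵥ x) 0 = C 0 (Fin.last n) * x (Fin.last n) := by
  rw [mulVec, dotProduct, Finset.sum_eq_single (Fin.last n)]
  · intro j _ hj
    rw [hC 0 j (Fin.val_lt_last hj), if_neg (by simp), zero_mul]
  · simp

theorem Shift.mulVec_succ_row {C : Matrix (Fin (n + 1)) (Fin (n + 1)) K} (hC : Shift C)
    (x : Fin (n + 1) → K) (i : Fin n) :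
    (C *ᵥ x) i.succ = x i.castSucc + C i.succ (Fin.last n) * x (Fin.last n) := by
  rw [mulVec, dotProduct, Fin.sum_univ_castSucc, Finset.sum_eq_single i]
  · rw [hC i.succ i.castSucc (by simp), if_pos (by simp), one_mul]
  · intro j _ hj
    rw [hC i.succ j.castSucc (by simp), if_neg (fun h => hj (Fin.ext (by simpa using h.symm))),
      zero_mul]
  · simp

/-- eigenvectors of a companion shape have nonzero first coordinate -/
theorem Shift.eigen_zero {C : Matrix (Fin (n + 1)) (Fin (n + 1)) K} (hC : Shift C)
    (hd : C.det ≠ 0) {ρ : K} {x : Fin (n + 1) → K} (hx : C *ᵥ x = ρ • x) (h0 : x 0 = 0) :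
    x = 0 := by
  have hl : x (Fin.last n) = 0 := by
    have h := congrFun hx 0
    rw [hC.mulVec_zero_row, Pi.smul_apply, h0, smul_zero, mul_eq_zero] at h
    exact h.resolve_left (hC.det_ne hd)
  have key : ∀ i : Fin (n + 1), x i = 0 := by
    intro i
    induction i using Fin.reverseInduction with
    | last => exact hl
    | cast i ih =>
      have h := congrFun hx i.succ
      rwa [hC.mulVec_succ_row, Pi.smul_apply, ih, hl, smul_zero, mul_zero, add_zero] at h
  exact funext key

/-- left eigenvectors of a companion shape have nonzero last coordinate -/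
theorem Shift.left_eigen_last {C : Matrix (Fin (n + 1)) (Fin (n + 1)) K} (hC : Shift C)
    (hd : C.det ≠ 0) {ρ : K} {f : Fin (n + 1) → K} (hf : f ᵥ* C = ρ • f)
    (h0 : f (Fin.last n) = 0) : f = 0 := by
  have hρ : ρ = 0 → f = 0 := by
    rintro rfl
    rw [zero_smul] at hf
    by_contra hne
    exact hd (Matrix.exists_vecMul_eq_zero_iff.1 ⟨f, hne, hf⟩)
  rcases eq_or_ne ρ 0 with h | hρ0
  · exact hρ h
  have key : ∀ i : Fin (n + 1), f i = 0 := by
    intro i
    induction i using Fin.reverseInduction with
    | last => exact h0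
    | cast i ih =>
      have h := congrFun hf i.castSucc
      rw [vecMul, dotProduct, Finset.sum_eq_single i.succ, hC i.succ i.castSucc (by simp),
        if_pos (by simp), mul_one, ih, Pi.smul_apply, smul_eq_mul, eq_comm, mul_eq_zero] at h
      · exact h.resolve_left hρ0
      · intro j _ hj
        rw [hC j i.castSucc (by simp), if_neg (fun h => hj (Fin.ext (by simpa using h))), mul_zero]
      · simp
  exact funext key

variable {M : Matrix (Fin (n + 1)) (Fin (n + 1)) K}

theorem Shaped.row_zero (hM : Shaped M) (x : Fin (n + 1) → K) : (M *ᵥ x) 0 = M 0 0 * x 0 := by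
  rw [mulVec, dotProduct, Finset.sum_eq_single 0]
  · intro j _ hj
    rw [hM.low 0 j (Fin.pos_iff_ne_zero.2 hj), zero_mul]
  · simp

theorem Shaped.charpoly (hM : Shaped M) : M.charpoly = ∏ i, (X - C (M i i)) := by
  rw [← charpoly_transpose, charpoly_of_isUpperTriangular Mᵀ (fun i j hij => hM.low j i hij)]
  simp

theorem Shaped.splits (hM : Shaped M) : M.charpoly.Splits :=
  hM.charpoly ▸ Splits.prod fun i _ => Splits.X_sub_C _

/-- the first coordinate of an eigenvector vanishes -/
theorem Shaped.eigen_zero (hM : Shaped M) {a : K} {x : Fin (n + 1) → K} (hx : M *ᵥ x = a • x)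
    (h : a ≠ M 0 0 ∨ ∃ k : Fin (n + 1), k.val = 1 ∧ M k k = a ∧ M k 0 ≠ 0) : x 0 = 0 := by
  rcases h with h | ⟨k, hk, hka, hk0⟩
  · have h0 := congrFun hx 0
    rw [hM.row_zero, Pi.smul_apply, smul_eq_mul, mul_eq_mul_right_iff] at h0
    exact h0.resolve_left (Ne.symm h)
  · have h0 := congrFun hx k
    rw [mulVec, dotProduct, Finset.sum_eq_add (0 : Fin (n + 1)) k
      (fun e => by rw [← e] at hk; simp at hk), Pi.smul_apply, smul_eq_mul, hka,
      add_eq_right, mul_eq_zero] at h0
    · exact h0.resolve_left hk0
    · intro j _ hj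
      rw [hM.low k j (by
        have h1 : j.val ≠ 0 := fun e => hj.1 (Fin.ext e)
        have h2 : j.val ≠ k.val := fun e => hj.2 (Fin.ext e)
        omega), zero_mul]
    · simp
    · simp

/-- eigenvectors with vanishing first coordinate are determined by the last coordinate -/
theorem Shaped.eigen_last (hM : Shaped M) {a : K} {x : Fin (n + 1) → K} (hx : M *ᵥ x = a • x)
    (h0 : x 0 = 0) (hl : x (Fin.last n) = 0) : x = 0 := by
  have key : ∀ i : Fin (n + 1), x i = 0 := by
    intro i
    induction i using Fin.reverseInduction with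
    | last => exact hl
    | cast i ih =>
      by_cases hi : i.val = 0
      · rw [show i.castSucc = 0 from Fin.ext (by simpa using hi)]
        exact h0
      have h := congrFun hx i.succ
      rw [mulVec, dotProduct, Finset.sum_eq_single i.castSucc, Pi.smul_apply, ih, smul_zero,
        mul_eq_zero] at h
      · exact h.resolve_left (hM.sub _ _ (by simpa using Nat.one_le_iff_ne_zero.2 hi) (by simp))
      · intro j _ hj
        rcases lt_trichotomy j.val i.val with h1 | h1 | h1
        · by_cases hj0 : j = 0
          · rw [hj0, h0, mul_zero]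
          · rw [hM.band _ _ (Nat.one_le_iff_ne_zero.2 fun e => hj0 (Fin.ext e)) (by simp; omega),
              zero_mul]
        · exact absurd (Fin.ext (by simpa using h1)) hj
        · by_cases h2 : j = i.succ
          · rw [h2, ih, mul_zero]
          · rw [hM.low _ _ (by
              have : j.val ≠ i.val + 1 := fun e => h2 (Fin.ext (by simpa using e))
              show i.succ.val < j.val
              simp
              omega), zero_mul]
      · simp
  exact funext key

/-- a left eigenvector vanishes at the last coordinate -/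
theorem Shaped.left_last (hM : Shaped M) {a : K} {f : Fin (n + 1) → K} (hf : f ᵥ* M = a • f)
    (h : a ≠ M (Fin.last n) (Fin.last n) ∨
      ∃ j : Fin (n + 1), 1 ≤ j.val ∧ j.val < n ∧ M j j = a) : f (Fin.last n) = 0 := by
  have hlast : (f ᵥ* M) (Fin.last n) = f (Fin.last n) * M (Fin.last n) (Fin.last n) := by
    rw [vecMul, dotProduct, Finset.sum_eq_single (Fin.last n)]
    · intro j _ hj
      rw [hM.low j _ (Fin.lt_last_iff_ne_last.2 hj), mul_zero]
    · simp
  rcases h with h | ⟨j, hj1, hjn, hja⟩
  · have h0 := congrFun hf (Fin.last n)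
    rw [hlast, Pi.smul_apply, smul_eq_mul, mul_comm, mul_eq_mul_right_iff] at h0
    exact h0.resolve_left (Ne.symm h)
  have step : ∀ i : Fin n, 1 ≤ i.val → (f ᵥ* M) i.castSucc =
      f i.castSucc * M i.castSucc i.castSucc + f i.succ * M i.succ i.castSucc := by
    intro i hi
    rw [vecMul, dotProduct, Finset.sum_eq_add i.castSucc i.succ (Fin.castSucc_lt_succ).ne]
    · intro k _ hk
      rcases lt_trichotomy k.val i.val with h1 | h1 | h1
      · rw [hM.low k _ (by show k.val < i.castSucc.val; simpa using h1), mul_zero]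
      · exact absurd (Fin.ext (by simpa using h1)) hk.1
      · rw [hM.band k _ (by simpa using hi) (by
          have : k.val ≠ i.val + 1 := fun e => hk.2 (Fin.ext (by simpa using e))
          simp; omega), mul_zero]
    · simp
    · simp
  obtain ⟨i, rfl⟩ : ∃ i : Fin n, j = i.castSucc := ⟨⟨j.val, hjn⟩, rfl⟩
  simp only [Fin.val_castSucc] at hj1
  have h1 := congrFun hf i.castSucc
  rw [step i hj1, hja, Pi.smul_apply, smul_eq_mul, mul_comm a, add_eq_left, mul_eq_zero] at h1
  have h2 : f i.succ = 0 := h1.resolve_right (hM.sub _ _ (by simpa using hj1) (by simp))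
  have key : ∀ k : Fin (n + 1), i.val + 1 ≤ k.val → f k = 0 := by
    intro k
    induction k using Fin.induction with
    | zero => intro h; simp at h
    | succ k ih =>
      intro hk
      by_cases he : k = i
      · rw [he]; exact h2
      have hk' : i.val + 1 ≤ k.val := by
        have : k.val ≠ i.val := fun e => he (Fin.ext e)
        simp at hk; omega
      have h3 := congrFun hf k.castSucc
      rw [step k (by omega), ih (by simpa using hk'), zero_mul, zero_add, Pi.smul_apply,
        ih (by simpa using hk'), smul_zero, mul_eq_zero] at h3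
      exact h3.resolve_right (hM.sub _ _ (by simp; omega) (by simp))
  exact key (Fin.last n) (by simp <;> omega)

theorem first_zero (hM : Shaped M) {a : K} {x : Fin (n + 1) → K} (hx : M *ᵥ x = a • x)
    (h0 : x 0 = 0) (h : ∀ k : Fin (n + 1), k ≠ 0 → M k k ≠ M 0 0) (ha : a = M 0 0)
    (i : Fin (n + 1)) : x i = 0 := by
  induction i using WellFoundedLT.induction with
  | _ i ih =>
    by_cases hi : i = 0
    · rw [hi, h0]
    have h1 := congrFun hx i
    rw [mulVec, dotProduct, Finset.sum_eq_single i, Pi.smul_apply, smul_eq_mul,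
      mul_eq_mul_right_iff] at h1
    · exact h1.resolve_left (ha ▸ h i hi)
    · intro j _ hj
      rcases lt_or_gt_of_ne hj with h2 | h2
      · rw [ih j h2, mul_zero]
      · rw [hM.low i j h2, zero_mul]
    · simp

/-- a shaped matrix is cyclic if the first diagonal entry is linked or simple -/
theorem Shaped.cs (hM : Shaped M)
    (h : (∃ k : Fin (n + 1), k.val = 1 ∧ M k k = M 0 0 ∧ M k 0 ≠ 0) ∨
      ∀ k : Fin (n + 1), k ≠ 0 → M k k ≠ M 0 0) :
    CS M.charpoly M := by
  refine cyc_of_geo hM.splits fun a x y hx hy hx0 => ?_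
  have hz : ∀ {s t : K}, M *ᵥ (s • y - t • x) = a • (s • y - t • x) := by
    intro s t
    rw [mulVec_sub, mulVec_smul, mulVec_smul, hx, hy]
    module
  by_cases hxz : x 0 = 0
  · -- the last coordinate of `x` is nonzero
    have hxl : x (Fin.last n) ≠ 0 := fun h => hx0 (hM.eigen_last hx hxz h)
    have hy0 : y 0 = 0 := by
      by_contra hy0
      rcases h with ⟨k, hk, hkk, hk0⟩ | h
      · refine hy0 (hM.eigen_zero hy ?_)
        by_cases ha : a = M 0 0
        · exact Or.inr ⟨k, hk, by rw [hkk, ha], hk0⟩
        · exact Or.inl ha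
      · have ha : a = M 0 0 := by
          have h0 := congrFun hy 0
          rw [hM.row_zero, Pi.smul_apply, smul_eq_mul, mul_eq_mul_right_iff] at h0
          exact (h0.resolve_right hy0).symm
        -- `x` is then zero
        have hx' : ∀ i : Fin (n + 1), x i = 0 := by
          intro i
          exact first_zero hM hx hxz h ha i
        exact hxl (hx' _)
    refine ⟨y (Fin.last n) / x (Fin.last n), ?_⟩
    have := hM.eigen_last (hz (s := 1) (t := y (Fin.last n) / x (Fin.last n)))
      (by simp [hy0, hxz]) (by simp [hxl])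
    rw [one_smul] at this
    exact sub_eq_zero.1 this
  · have ha : a = M 0 0 := by
      have h0 := congrFun hx 0
      rw [hM.row_zero, Pi.smul_apply, smul_eq_mul, mul_eq_mul_right_iff] at h0
      exact (h0.resolve_right hxz).symm
    rcases h with ⟨k, hk, hkk, hk0⟩ | h
    · exact absurd (hM.eigen_zero hx (Or.inr ⟨k, hk, by rw [hkk, ha], hk0⟩)) hxz
    · refine ⟨y 0 / x 0, ?_⟩
      have h1 : ((1 : K) • y - (y 0 / x 0) • x) 0 = 0 := by simp [hxz]
      have h2 := funext (first_zero hM hz h1 h ha)
      rw [one_smul] at h2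
      exact sub_eq_zero.1 h2

end Cfsg.Agent.LevCover
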