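/-
Covering number of PSL(n,q): a cyclic matrix times a conjugate of itself in triangular shape.
-/
import Cfsg.Agent.Lib.LevCover.Shape

set_option autoImplicit false

namespace Cfsg.Agent.LevCover

open Polynomial Matrix Module
open Cfsg.Agent.SLComm (Cyc bord img eigen)

variable {K : Type*} [Field K] {n : ℕ}

/-- invertible matrix from columns with full span -/
theorem exists_gl_of_span {m : ℕ} (B : Fin m → Fin m → K)
    (h : Submodule.span K (Set.range B) = ⊤) :
    ∃ G : GL (Fin m) K, ∀ j, G.1 *ᵥ Pi.single j 1 = B j := by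
  obtain ⟨G, hG⟩ : ∃ G : Matrix (Fin m) (Fin m) K, G = Matrix.of fun i j => B j i := ⟨_, rfl⟩
  have hcol : ∀ j, G *ᵥ Pi.single j 1 = B j := fun j => by
    rw [hG, mulVec_single_one]; rfl
  have hsurj : Function.Surjective G.mulVecLin := by
    rw [← LinearMap.range_eq_top, eq_top_iff, ← h, Submodule.span_le]
    rintro _ ⟨j, rfl⟩
    exact ⟨_, hcol j⟩
  have hu : IsUnit G := Matrix.mulVec_surjective_iff_isUnit.1 hsurj
  exact ⟨hu.unit, hcol⟩

theorem exists_krylov {f : K[X]} {A : Matrix (Fin (n + 1)) (Fin (n + 1)) K} (hA : CS f A) :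
    ∃ (w : Fin (n + 1) → K) (G : GL (Fin (n + 1)) K),
      (∀ j, G.1 *ᵥ Pi.single j 1 = A ^ (j : ℕ) *ᵥ w) ∧
      Submodule.span K (Set.range fun j : Fin (n + 1) => A ^ (j : ℕ) *ᵥ w) = ⊤ := by
  obtain ⟨w, hw⟩ := hA
  have h : Submodule.span K (Set.range fun j : Fin (n + 1) => A ^ (j : ℕ) *ᵥ w) = ⊤ := by
    refine Submodule.eq_top_iff'.2 fun y => ?_
    obtain ⟨p, rfl⟩ := hw.span y
    rw [← hw.reduce p]
    obtain ⟨r, hr⟩ : ∃ r, r = p %ₘ f := ⟨_, rfl⟩
    rw [← hr]
    have hd : r.natDegree < n + 1 := by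
      by_cases h0 : r = 0
      · simp [h0]
      · exact (natDegree_lt_iff_degree_lt h0).2 (hr ▸ hw.reduce_deg p)
    rw [aeval_eq_sum_range' hd, sum_mulVec]
    refine Submodule.sum_mem _ fun i hi => ?_
    rw [smul_mulVec]
    exact Submodule.smul_mem _ _ (Submodule.subset_span ⟨⟨i, Finset.mem_range.1 hi⟩, rfl⟩)
  obtain ⟨G, hG⟩ := exists_gl_of_span _ h
  exact ⟨w, G, hG, h⟩

/-- the descending chain of vectors -/
def descend (A : Matrix (Fin (n + 1)) (Fin (n + 1)) K) (ν : Fin (n + 1) → K)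
    (w : Fin (n + 1) → K) : Fin (n + 1) → Fin (n + 1) → K :=
  Fin.reverseInduction w fun j v => A *ᵥ v - ν j.succ • v

theorem descend_last (A : Matrix (Fin (n + 1)) (Fin (n + 1)) K) (ν w : Fin (n + 1) → K) :
    descend A ν w (Fin.last n) = w := by
  simp [descend]

theorem descend_step (A : Matrix (Fin (n + 1)) (Fin (n + 1)) K) (ν w : Fin (n + 1) → K)
    (j : Fin n) : descend A ν w j.castSucc =
      A *ᵥ descend A ν w j.succ - ν j.succ • descend A ν w j.succ := by
  simp [descend]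

theorem descend_span (A : Matrix (Fin (n + 1)) (Fin (n + 1)) K) (ν w : Fin (n + 1) → K)
    (h : Submodule.span K (Set.range fun j : Fin (n + 1) => A ^ (j : ℕ) *ᵥ w) = ⊤) :
    Submodule.span K (Set.range (descend A ν w)) = ⊤ := by
  have key : ∀ k : ℕ, k ≤ n → ∀ i : ℕ, i ≤ k → A ^ i *ᵥ w ∈
      Submodule.span K (descend A ν w '' {j : Fin (n + 1) | n ≤ j.val + k}) := by
    intro k
    induction k with
    | zero =>
      intro _ i hi
      obtain rfl : i = 0 := by omega
      rw [pow_zero, one_mulVec]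
      exact Submodule.subset_span ⟨Fin.last n, by simp, descend_last A ν w⟩
    | succ k ih =>
      intro hk i hi
      rcases Nat.eq_zero_or_pos i with rfl | hi0
      · rw [pow_zero, one_mulVec]
        exact Submodule.subset_span ⟨Fin.last n, by simp, descend_last A ν w⟩
      · obtain ⟨i, rfl⟩ : ∃ i', i = i' + 1 := ⟨i - 1, by omega⟩
        rw [pow_succ', ← mulVec_mulVec]
        have h1 := ih (by omega) i (by omega)
        have hle : Submodule.span K (descend A ν w '' {j : Fin (n + 1) | n ≤ j.val + k}) ≤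
            (Submodule.span K (descend A ν w '' {j : Fin (n + 1) | n ≤ j.val + (k + 1)})).comap
              A.mulVecLin := by
          rw [Submodule.span_le]
          rintro _ ⟨j, hj, rfl⟩
          show A *ᵥ descend A ν w j ∈
            Submodule.span K (descend A ν w '' {j : Fin (n + 1) | n ≤ j.val + (k + 1)})
          simp only [Set.mem_setOf_eq] at hj
          obtain ⟨j', rfl⟩ : ∃ j' : Fin n, j = j'.succ := Fin.eq_succ_of_ne_zero (by
            intro e; rw [e] at hj; simp at hj; omega)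
          rw [← sub_add_cancel (A *ᵥ descend A ν w j'.succ) (ν j'.succ • descend A ν w j'.succ),
            ← descend_step]
          simp only [Fin.val_succ] at hj
          refine Submodule.add_mem _ (Submodule.subset_span ⟨_, ?_, rfl⟩)
            (Submodule.smul_mem _ _ (Submodule.subset_span ⟨_, ?_, rfl⟩))
          · show n ≤ j'.castSucc.val + (k + 1)
            simp; omega
          · show n ≤ j'.succ.val + (k + 1)
            simp; omega
        exact hle h1
  rw [eq_top_iff, ← h, Submodule.span_le]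
  rintro _ ⟨i, rfl⟩
  exact Submodule.span_mono (Set.image_subset_range _ _) (key n le_rfl i.val (by omega))

/-- the diagonal change of coordinates -/
def diagGL (t : Fin (n + 1) → K) (ht : ∀ i, t i ≠ 0) : GL (Fin (n + 1)) K :=
  ⟨diagonal t, diagonal fun i => (t i)⁻¹,
    by rw [diagonal_mul_diagonal]; simp [ht],
    by rw [diagonal_mul_diagonal]; simp [ht]⟩

theorem prod_ratio (t : Fin (n + 1) → K) (ht : ∀ i, t i ≠ 0) :
    (∏ i : Fin n, t i.castSucc / t i.succ) * t (Fin.last n) = t 0 := by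
  rw [Finset.prod_div_distrib, div_mul_eq_mul_div, div_eq_iff
    (Finset.prod_ne_zero_iff.2 fun i _ => ht _), ← Fin.prod_univ_castSucc, ← Fin.prod_univ_succ]

/-- the triangular product -/
theorem chunk_data {f : K[X]} {A : Matrix (Fin (n + 1)) (Fin (n + 1)) K} (hA : CS f A)
    (hn : 1 ≤ n) (hd : A.det ≠ 0) (ν : Fin (n + 1) → K) (hνlast : ν (Fin.last n) = 0)
    (hν : ∀ i : Fin (n + 1), 1 ≤ i.val → i.val < n → ν i ≠ 0) :
    ∃ g₀ : K, g₀ ≠ 0 ∧ ∀ t : Fin (n + 1) → K, (∀ i, t i ≠ 0) →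
      ∃ (g P : GL (Fin (n + 1)) K) (M : Matrix (Fin (n + 1)) (Fin (n + 1)) K),
        g.1.det = g₀ * ∏ i, t i ∧ cj P (A * cj g A) = M ∧ Shift (cj P A) ∧ Shaped M ∧
        M 0 0 = A.det ^ 2 * t (Fin.last n) / t 0 ∧
        (∀ j : Fin n, M j.succ j.succ = t j.castSucc / t j.succ) ∧
        M 1 0 = A.trace - (∑ j : Fin n, ν j.succ) +
          (cj P A) 1 (Fin.last n) * M 0 0 / (cj P A) 0 (Fin.last n) := by
  obtain ⟨w, G₁, hG₁, hspan⟩ := exists_krylov hA
  obtain ⟨G₂, hG₂⟩ := exists_gl_of_span _ (descend_span A ν w hspan)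
  obtain ⟨C, hC⟩ : ∃ C, C = cj G₁⁻¹ A := ⟨_, rfl⟩
  obtain ⟨Y₁, hY₁⟩ : ∃ Y, Y = cj G₂⁻¹ A := ⟨_, rfl⟩
  have hshift : Shift C := by
    intro i j hj
    have h1 : C *ᵥ Pi.single j 1 = Pi.single (⟨j.val + 1, by omega⟩ : Fin (n + 1)) 1 := by
      conv_lhs => rw [hC, ← SLComm.gl_inv_mulVec G₁ (Pi.single j 1), cj_mulVec, hG₁,
        mulVec_mulVec _ A, ← pow_succ']
      rw [← hG₁ ⟨j.val + 1, by omega⟩, SLComm.gl_inv_mulVec]
    have h2 := congrFun h1 i
    rw [mulVec_single_one] at h2
    rw [show C i j = _ from h2, Pi.single_apply]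
    simp [Fin.ext_iff]
  have hY : ∀ j : Fin n, Y₁ *ᵥ Pi.single j.succ 1 =
      Pi.single j.castSucc 1 + ν j.succ • Pi.single j.succ 1 := by
    intro j
    conv_lhs => rw [hY₁, ← SLComm.gl_inv_mulVec G₂ (Pi.single j.succ 1), cj_mulVec, hG₂]
    rw [← sub_add_cancel (A *ᵥ descend A ν w j.succ) (ν j.succ • descend A ν w j.succ),
      ← descend_step, ← hG₂, ← hG₂, mulVec_add, mulVec_smul, SLComm.gl_inv_mulVec,
      SLComm.gl_inv_mulVec]
  have hg₂ : G₂⁻¹.1.det ≠ 0 := ((Matrix.isUnit_iff_isUnit_det _).1 G₂⁻¹.isUnit).ne_zero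
  have hg₁ : G₁.1.det ≠ 0 := ((Matrix.isUnit_iff_isUnit_det _).1 G₁.isUnit).ne_zero
  refine ⟨G₁.1.det * G₂⁻¹.1.det, mul_ne_zero hg₁ hg₂, fun t ht => ?_⟩
  obtain ⟨Y, hYdef⟩ : ∃ Y, Y = cj (diagGL t ht) Y₁ := ⟨_, rfl⟩
  have hYent : ∀ i j, Y i j = t i * Y₁ i j / t j := by
    intro i j
    rw [hYdef, cj]
    show (diagonal t * Y₁ * diagonal fun k => (t k)⁻¹) i j = _
    rw [mul_diagonal, diagonal_mul, div_eq_mul_inv]
  have hYcol : ∀ (j : Fin n) (i : Fin (n + 1)), Y i j.succ =
      (if i = j.castSucc then t j.castSucc / t j.succ else 0) +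
        (if i = j.succ then ν j.succ else 0) := by
    intro j i
    have h := congrFun (hY j) i
    rw [mulVec_single_one] at h
    rw [hYent, show Y₁ i j.succ = _ from h, Pi.add_apply, Pi.smul_apply, Pi.single_apply,
      Pi.single_apply, smul_eq_mul]
    by_cases h1 : i = j.castSucc
    · subst h1
      simp [(Fin.castSucc_lt_succ).ne]
    · by_cases h2 : i = j.succ
      · subst h2
        simp [Fin.castSucc_lt_succ.ne']
        field_simp [ht j.succ]
      · simp [h1, h2]
  obtain ⟨M, hM⟩ : ∃ M, M = C * Y := ⟨_, rfl⟩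
  have hMcol : ∀ (j : Fin n) (i : Fin (n + 1)), M i j.succ =
      (if i = j.succ then t j.castSucc / t j.succ else 0) +
        (if i.val = j.val + 2 then ν j.succ else 0) := by
    intro j i
    rw [hM, Matrix.mul_apply]
    simp only [hYcol, mul_add, mul_ite, mul_zero, Finset.sum_add_distrib, Finset.sum_ite_eq',
      Finset.mem_univ, if_true]
    rw [hshift i j.castSucc (by simp)]
    congr 1
    · simp [Fin.ext_iff]
    · by_cases hj : j.val + 1 < n
      · rw [hshift i j.succ (by simpa using hj)]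
        simp
      · have : j.succ = Fin.last n := Fin.ext (by simp; omega)
        rw [this, hνlast]
        simp
  have hlow : ∀ i j, i < j → M i j = 0 := by
    intro i j hij
    obtain ⟨j', rfl⟩ := Fin.eq_succ_of_ne_zero (Fin.ne_of_gt (lt_of_le_of_lt (Fin.zero_le i) hij))
    have h1 : i.val < j'.val + 1 := by simpa using (show i.val < j'.succ.val from hij)
    rw [hMcol, if_neg (fun e => (ne_of_lt hij) e), if_neg (by omega), add_zero]
  have hshaped : Shaped M := by
    refine ⟨hlow, ?_, ?_⟩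
    · intro i j hj hi
      obtain ⟨j', rfl⟩ := Fin.eq_succ_of_ne_zero (i := j) (fun e => by rw [e] at hj; simp at hj)
      simp only [Fin.val_succ] at hi
      rw [hMcol, if_neg (fun e => by rw [e] at hi; simp at hi), if_neg (by omega), add_zero]
    · intro i j hj hi
      obtain ⟨j', rfl⟩ := Fin.eq_succ_of_ne_zero (i := j) (fun e => by rw [e] at hj; simp at hj)
      simp only [Fin.val_succ] at hi
      rw [hMcol, if_neg (fun e => by rw [e] at hi; simp at hi), if_pos (by omega), zero_add]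
      exact hν _ (by simp) (by simp; omega)
  have hdiag : ∀ j : Fin n, M j.succ j.succ = t j.castSucc / t j.succ := by
    intro j
    rw [hMcol, if_pos rfl, if_neg (by simp), add_zero]
  have hdetY : Y.det = A.det := by rw [hYdef, det_cj, hY₁, det_cj]
  have h00 : M 0 0 = A.det ^ 2 * t (Fin.last n) / t 0 := by
    have h1 : M.det = A.det ^ 2 := by rw [hM, det_mul, hdetY, hC, det_cj]; ring
    have h2 : M.det = ∏ i, M i i := by
      rw [← det_transpose, det_of_isUpperTriangular (show Mᵀ.IsUpperTriangular from fun i j hij => hlow j i hij)]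
      rfl
    rw [Fin.prod_univ_succ] at h2
    simp only [hdiag] at h2
    have h3 := prod_ratio t ht
    rw [eq_div_iff (ht 0), ← h1, h2, ← h3]
    ring
  refine ⟨G₁ * (diagGL t ht * G₂⁻¹), G₁⁻¹, M, ?_, ?_, hC ▸ hshift, hshaped, h00, hdiag, ?_⟩
  · simp only [Units.val_mul, det_mul]
    show G₁.1.det * ((diagonal t).det * G₂⁻¹.1.det) = _
    rw [det_diagonal]
    ring
  · rw [cj_mul, ← hC, ← cj_cj, ← cj_cj, cj_inv_cj, ← hY₁, ← hYdef, hM]
  · rw [← hC]
    have hc0 := hshift.det_ne (by rw [hC, det_cj]; exact hd)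
    obtain ⟨m, rfl⟩ : ∃ m, n = m + 1 := ⟨n - 1, by omega⟩
    have hcol : ∀ i, M i 0 = (C *ᵥ fun k => Y k 0) i := fun i => by rw [hM]; rfl
    have e0 : M 0 0 = C 0 (Fin.last (m + 1)) * Y (Fin.last (m + 1)) 0 := by
      rw [hcol, hshift.mulVec_zero_row]
    have e1 : M 1 0 = Y 0 0 + C 1 (Fin.last (m + 1)) * Y (Fin.last (m + 1)) 0 := by
      rw [hcol, show (1 : Fin (m + 1 + 1)) = (0 : Fin (m + 1)).succ from rfl,
        hshift.mulVec_succ_row]
      rfl
    have htr : Y.trace = A.trace := by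
      rw [hYdef, hY₁, cj_cj]
      exact Matrix.trace_units_conj _ _
    rw [Matrix.trace, Fin.sum_univ_succ] at htr
    have hYd : ∀ j : Fin (m + 1), Y.diag j.succ = ν j.succ := fun j => by
      show Y j.succ j.succ = _
      rw [hYcol, if_neg Fin.castSucc_lt_succ.ne', if_pos rfl, zero_add]
    simp only [hYd] at htr
    have h5 : Y.diag 0 = Y 0 0 := rfl
    rw [e1, ← htr, h5, e0]
    field_simp
    ring

end Cfsg.Agent.LevCover
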