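/-
Covering number of PSL(n,q): products of conjugates, moving vectors, splitting off a factor.
-/
import Cfsg.Agent.Lib.LevCover.Chunk

set_option autoImplicit false

namespace Cfsg.Agent.LevCover

open Polynomial Matrix Module
open Cfsg.Agent.SLComm (Cyc bord img eigen)

variable {K : Type*} [Field K] {n k l : ℕ}

/-- the product of the conjugates of `A` by `g` -/
def prodC (A : Matrix (Fin n) (Fin n) K) (g : Fin k → GL (Fin n) K) : Matrix (Fin n) (Fin n) K :=
  (List.ofFn fun i => cj (g i) A).prod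

/-- no common eigenvector for the value `μ` -/
def Free (A : Matrix (Fin n) (Fin n) K) (g : Fin k → GL (Fin n) K) (μ : K) : Prop :=
  ∀ y : Fin n → K, (∀ i, cj (g i) A *ᵥ y = μ • y) → y = 0

/-- `B` is a product of `k` conjugates, free for the values in `P` -/
def CP (A : Matrix (Fin n) (Fin n) K) (k : ℕ) (B : Matrix (Fin n) (Fin n) K) (P : K → Prop) :
    Prop :=
  ∃ g : Fin k → GL (Fin n) K, prodC A g = B ∧ ∀ μ, P μ → Free A g μ

/-- `B` is a product of `k` conjugates by matrices of determinant one, free for the values in `P` -/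
def SP (A : Matrix (Fin n) (Fin n) K) (k : ℕ) (B : Matrix (Fin n) (Fin n) K) (P : K → Prop) :
    Prop :=
  ∃ g : Fin k → GL (Fin n) K, (∀ i, (g i).1.det = 1) ∧ prodC A g = B ∧ ∀ μ, P μ → Free A g μ

/-- the empty set of values -/
abbrev noV : K → Prop := fun _ => False

theorem SP.toCP {A B : Matrix (Fin n) (Fin n) K} {P : K → Prop} (h : SP A k B P) : CP A k B P :=
  let ⟨g, _, h1, h2⟩ := h; ⟨g, h1, h2⟩

theorem SP.mono {A B : Matrix (Fin n) (Fin n) K} {P Q : K → Prop} (h : SP A k B P)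
    (hQ : ∀ μ, Q μ → P μ) : SP A k B Q :=
  let ⟨g, h0, h1, h2⟩ := h; ⟨g, h0, h1, fun μ hμ => h2 μ (hQ μ hμ)⟩

theorem CP.mono {A B : Matrix (Fin n) (Fin n) K} {P Q : K → Prop} (h : CP A k B P)
    (hQ : ∀ μ, Q μ → P μ) : CP A k B Q :=
  let ⟨g, h1, h2⟩ := h; ⟨g, h1, fun μ hμ => h2 μ (hQ μ hμ)⟩

theorem prodC_zero (A : Matrix (Fin n) (Fin n) K) (g : Fin 0 → GL (Fin n) K) : prodC A g = 1 := by
  simp [prodC]

theorem prodC_cons (A : Matrix (Fin n) (Fin n) K) (g₀ : GL (Fin n) K) (g : Fin k → GL (Fin n) K) :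
    prodC A (Fin.cons g₀ g) = cj g₀ A * prodC A g := by
  simp [prodC, List.ofFn_succ]

theorem prodC_append (A : Matrix (Fin n) (Fin n) K) (g : Fin k → GL (Fin n) K)
    (g' : Fin l → GL (Fin n) K) : prodC A (Fin.append g g') = prodC A g * prodC A g' := by
  rw [prodC, prodC, prodC, ← List.prod_append, ← List.ofFn_fin_append]
  congr 2
  funext i
  refine Fin.addCases (fun i => ?_) (fun i => ?_) i <;> simp

theorem cj_prod (P : GL (Fin n) K) (L : List (Matrix (Fin n) (Fin n) K)) :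
    cj P L.prod = (L.map (cj P)).prod := by
  induction L with
  | nil => simp [cj]
  | cons a L ih => simp [cj_mul, ih]

theorem cj_prodC (P : GL (Fin n) K) (A : Matrix (Fin n) (Fin n) K) (g : Fin k → GL (Fin n) K) :
    cj P (prodC A g) = prodC A fun i => P * g i := by
  rw [prodC, cj_prod, List.map_ofFn, prodC]
  simp only [Function.comp_def, cj_cj]

theorem det_prodC (A : Matrix (Fin n) (Fin n) K) (g : Fin k → GL (Fin n) K) :
    (prodC A g).det = A.det ^ k := by
  induction k with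
  | zero => simp [prodC_zero]
  | succ k ih =>
    rw [← Fin.cons_self_tail g, prodC_cons, det_mul, det_cj, ih, pow_succ']

theorem CP.det_eq {A B : Matrix (Fin n) (Fin n) K} {P : K → Prop} (h : CP A k B P) :
    B.det = A.det ^ k :=
  let ⟨g, h1, _⟩ := h; h1 ▸ det_prodC A g

theorem det_mul_gl (g h : GL (Fin n) K) : (g * h).1.det = g.1.det * h.1.det := by
  rw [Units.val_mul, det_mul]

theorem gl_det_ne (g : GL (Fin n) K) : g.1.det ≠ 0 :=
  ((Matrix.isUnit_iff_isUnit_det _).1 g.isUnit).ne_zero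

theorem det_gl_inv (g : GL (Fin n) K) : g⁻¹.1.det = g.1.det⁻¹ := by
  refine eq_inv_of_mul_eq_one_left ?_
  rw [← det_mul_gl, inv_mul_cancel, Units.val_one, det_one]

/-- the inverse of a conjugate -/
theorem isUnit_det_cj {A : Matrix (Fin n) (Fin n) K} (hA : A.det ≠ 0) (g : GL (Fin n) K) :
    IsUnit (cj g A).det := by
  rw [det_cj]; exact isUnit_iff_ne_zero.2 hA

/-! ### Moving independent vectors -/

theorem exists_gl_extend : ∀ (j k : ℕ), k + j = n → ∀ u : Fin k → Fin n → K,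
    LinearIndependent K u →
    ∃ (G : GL (Fin n) K) (h : k ≤ n), ∀ i : Fin k, G.1 *ᵥ Pi.single (Fin.castLE h i) 1 = u i := by
  intro j
  induction j with
  | zero =>
    intro k hk u hu
    obtain rfl : k = n := by omega
    obtain ⟨G, hG⟩ := exists_gl_of_span u (by
      refine Submodule.eq_top_of_finrank_eq ?_
      rw [finrank_span_eq_card hu, Fintype.card_fin, finrank_fin_fun])
    exact ⟨G, le_rfl, fun i => by simpa using hG i⟩
  | succ j ih =>
    intro k hk u hu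
    obtain ⟨x, -, hx⟩ := SetLike.exists_of_lt (SLComm.ne_top_of_finrank
      (p := Submodule.span K (Set.range u)) (by
        rw [finrank_span_eq_card hu, Fintype.card_fin]; omega)).lt_top
    obtain ⟨G, h, hG⟩ := ih (k + 1) (by omega) (Fin.snoc u x)
      (linearIndependent_finSnoc.2 ⟨hu, hx⟩)
    refine ⟨G, by omega, fun i => ?_⟩
    have := hG i.castSucc
    simpa [Fin.castLE] using this

theorem exists_gl_det_one {u : Fin k → Fin n → K} (hu : LinearIndependent K u) (hk : k < n) :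
    ∃ (G : GL (Fin n) K), G.1.det = 1 ∧ ∀ i : Fin k, G.1 *ᵥ Pi.single (Fin.castLE hk.le i) 1 = u i := by
  obtain ⟨G, h, hG⟩ := exists_gl_extend (n - k) k (by omega) u hu
  obtain ⟨m, rfl⟩ : ∃ m, n = m + 1 := ⟨n - 1, by omega⟩
  obtain ⟨t, ht⟩ : ∃ t : Fin (m + 1) → K, t = Function.update (1 : Fin (m + 1) → K) (Fin.last m) G.1.det⁻¹ := ⟨_, rfl⟩
  have ht0 : ∀ i, t i ≠ 0 := fun i => by
    rw [ht]
    by_cases hi : i = Fin.last m
    · rw [hi, Function.update_self]; exact inv_ne_zero (gl_det_ne G)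
    · rw [Function.update_of_ne hi]; exact one_ne_zero
  refine ⟨G * diagGL t ht0, ?_, fun i => ?_⟩
  · rw [det_mul_gl]
    show G.1.det * (diagonal t).det = 1
    rw [det_diagonal, ht, Finset.prod_update_of_mem (Finset.mem_univ _)]
    simp [mul_inv_cancel₀ (gl_det_ne G)]
  · rw [Units.val_mul, ← mulVec_mulVec, ← hG i]
    congr 1
    show diagonal t *ᵥ _ = _
    rw [diagonal_mulVec_single, mul_one, ht, Function.update_of_ne, Pi.one_apply]
    intro he
    have := congrArg Fin.val he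
    simp at this
    omega

/-- determinant one maps move independent families -/
theorem exists_move {u u' : Fin k → Fin n → K} (hu : LinearIndependent K u)
    (hu' : LinearIndependent K u') (hk : k < n) :
    ∃ g : GL (Fin n) K, g.1.det = 1 ∧ ∀ i, g.1 *ᵥ u i = u' i := by
  obtain ⟨G, hG, hGi⟩ := exists_gl_det_one hu hk
  obtain ⟨G', hG', hGi'⟩ := exists_gl_det_one hu' hk
  refine ⟨G' * G⁻¹, by rw [det_mul_gl, det_gl_inv, hG, hG', inv_one, mul_one], fun i => ?_⟩
  rw [Units.val_mul, ← mulVec_mulVec, ← hGi, SLComm.gl_inv_mulVec, hGi']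

theorem indep_pair {v w : Fin n → K} (hv : v ≠ 0) (hw : ∀ a : K, w ≠ a • v) :
    LinearIndependent K ![v, w] :=
  (LinearIndependent.pair_iff' hv).2 fun a h => hw a h.symm

/-- conjugates with prescribed value at a vector -/
theorem exists_cj_map (hn : 3 ≤ n) {A : Matrix (Fin n) (Fin n) K} {v' v w : Fin n → K}
    (hv' : v' ≠ 0) (hA : ∀ a : K, A *ᵥ v' ≠ a • v') (hv : v ≠ 0) (hw : ∀ a : K, w ≠ a • v) :
    ∃ g : GL (Fin n) K, g.1.det = 1 ∧ g.1 *ᵥ v' = v ∧ cj g A *ᵥ v = w := by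
  obtain ⟨g, hg, hgi⟩ := exists_move (indep_pair hv' hA) (indep_pair hv hw) (by omega)
  have h0 : g.1 *ᵥ v' = v := hgi 0
  have h1 : g.1 *ᵥ (A *ᵥ v') = w := hgi 1
  exact ⟨g, hg, h0, by rw [← h0, cj_mulVec, h1]⟩

variable [Fintype K]

theorem exists_noneig' (h4 : 4 ≤ Fintype.card K) (hn : 2 ≤ n) {A : Matrix (Fin n) (Fin n) K}
    (hA : ¬ IsSc A) : ∃ v, v ≠ 0 ∧ ∀ a : K, A *ᵥ v ≠ a • v := by
  obtain ⟨v, -, h⟩ := exists_noneig hA Finset.univ [] (by simp [Finset.card_univ]; omega) (by simp) hn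
  exact ⟨v, h⟩

/-- splitting off a factor leaving a non-scalar matrix -/
theorem split_off (h4 : 4 ≤ Fintype.card K) (hn : 3 ≤ n) {A B : Matrix (Fin n) (Fin n) K}
    (hA : ¬ IsSc A) (hAd : A.det ≠ 0) (hB : B.det ≠ 0) :
    ∃ g : GL (Fin n) K, g.1.det = 1 ∧ ¬ IsSc ((cj g A)⁻¹ * B) := by
  obtain ⟨v', hv', hAv⟩ := exists_noneig' h4 (by omega) hA
  obtain ⟨v, hv⟩ : ∃ v : Fin n → K, v ≠ 0 :=
    ⟨Pi.single ⟨0, by omega⟩ 1, by simp⟩
  obtain ⟨w, -, hw⟩ := SetLike.exists_of_lt (SLComm.ne_top_of_finrank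
    (p := Submodule.span K {v} ⊔ Submodule.span K {B *ᵥ v})
    (lt_of_le_of_lt (SLComm.finrank_pair_le v (B *ᵥ v)) (by omega))).lt_top
  obtain ⟨g, hg, -, hgw⟩ := exists_cj_map hn hv' hAv hv (w := w) fun a h => hw (h ▸
    Submodule.mem_sup_left (Submodule.smul_mem _ a (Submodule.mem_span_singleton_self v)))
  refine ⟨g, hg, fun ⟨c, hc⟩ => ?_⟩
  have h1 : B *ᵥ v = c • w := by
    have h2 := congrArg (fun M => cj g A *ᵥ (M *ᵥ v)) hc
    simp only [mulVec_mulVec] at h2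
    rw [← Matrix.mul_assoc, Matrix.mul_nonsing_inv _ (isUnit_det_cj hAd g), Matrix.one_mul,
      Matrix.mul_smul, Matrix.mul_one, smul_mulVec, hgw] at h2
    exact h2
  rcases eq_or_ne c 0 with hc0 | hc0
  · refine hB (Matrix.exists_mulVec_eq_zero_iff.1 ⟨v, hv, by rw [h1, hc0, zero_smul]⟩)
  · refine hw (Submodule.mem_sup_right (Submodule.mem_span_singleton.2 ⟨c⁻¹, ?_⟩))
    rw [h1, smul_smul, inv_mul_cancel₀ hc0, one_smul]

theorem SP.succ (h4 : 4 ≤ Fintype.card K) (hn : 3 ≤ n) {A B : Matrix (Fin n) (Fin n) K}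
    (hA : ¬ IsSc A) (hAd : A.det ≠ 0) (hB : B.det = A.det ^ (k + 1))
    (h : ∀ B' : Matrix (Fin n) (Fin n) K, B'.det = A.det ^ k → ¬ IsSc B' → SP A k B' noV) :
    SP A (k + 1) B noV := by
  obtain ⟨g, hg, hns⟩ := split_off h4 hn hA hAd (B := B) (hB ▸ pow_ne_zero _ hAd)
  obtain ⟨g', hg', hp, -⟩ := h _ (by
    rw [det_mul, det_nonsing_inv, Ring.inverse_eq_inv', det_cj, hB, pow_succ', ← mul_assoc,
      inv_mul_cancel₀ hAd, one_mul]) hns
  refine ⟨Fin.cons g g', Fin.cases hg hg', ?_, fun μ h => h.elim⟩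
  rw [prodC_cons, hp, ← Matrix.mul_assoc, Matrix.mul_nonsing_inv _ (isUnit_det_cj hAd g),
    Matrix.one_mul]

end Cfsg.Agent.LevCover
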