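/-
Covering number of PSL(n,q): one dimension is peeled off by one factor.
-/
import Cfsg.Agent.Lib.LevCover.Prod

set_option autoImplicit false

namespace Cfsg.Agent.LevCover

open Polynomial Matrix Module
open Cfsg.Agent.SLComm (Cyc bord img eigen)

variable {K : Type*} [Field K] {n k : ℕ}

/-- a frame at an eigenvector -/
theorem exists_quot (hn : 1 ≤ n) {T : Matrix (Fin (n + 1)) (Fin (n + 1)) K} {ρ : K}
    {v : Fin (n + 1) → K} (hv : v ≠ 0) (hT : T *ᵥ v = ρ • v) :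
    ∃ (Q : GL (Fin (n + 1)) K) (r : Fin n → K) (Φ : Matrix (Fin n) (Fin n) K),
      Q.1.det = 1 ∧ Q.1 *ᵥ vecCons 1 0 = v ∧ cj Q⁻¹ T = bord ρ r 0 Φ := by
  obtain ⟨Q, hQ, hQi⟩ := exists_gl_det_one (u := fun _ : Fin 1 => v)
    (linearIndependent_unique_iff.2 hv) (by omega)
  have e0 : (Pi.single (0 : Fin (n + 1)) 1 : Fin (n + 1) → K) = vecCons 1 0 := by
    funext i
    refine Fin.cases ?_ (fun i => ?_) i <;> simp
  have h0 : Q.1 *ᵥ vecCons 1 0 = v := by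
    rw [← e0]
    simpa using hQi 0
  obtain ⟨M, hM⟩ : ∃ M, M = cj Q⁻¹ T := ⟨_, rfl⟩
  refine ⟨Q, fun j => M 0 j.succ, fun i j => M i.succ j.succ, hQ, h0, ?_⟩
  have h1 : M *ᵥ vecCons 1 0 = ρ • vecCons 1 0 := by
    rw [hM, ← SLComm.gl_inv_mulVec Q (vecCons 1 0), cj_mulVec, h0, hT, mulVec_smul]
  rw [← e0, mulVec_single_one] at h1
  rw [← hM]
  ext i j
  refine Fin.cases ?_ (fun j => ?_) j <;> refine Fin.cases ?_ (fun i => ?_) i
  · simpa [bord] using congrFun h1 0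
  · simpa [bord] using congrFun h1 i.succ
  · simp [bord]
  · simp [bord]

theorem det_bord_upper (a : K) (r : Fin n → K) (X : Matrix (Fin n) (Fin n) K) :
    (bord a r 0 X).det = a * X.det := by
  rw [← det_transpose, SLComm.bord_transpose, SLComm.det_bord_lower, det_transpose]

theorem trace_bord (a : K) (r c : Fin n → K) (X : Matrix (Fin n) (Fin n) K) :
    (bord a r c X).trace = a + X.trace := by
  simp [Matrix.trace, Fin.sum_univ_succ, bord]

theorem trace_cj (P : GL (Fin n) K) (A : Matrix (Fin n) (Fin n) K) : (cj P A).trace = A.trace :=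
  Matrix.trace_units_conj _ _

theorem bord_upper_mul (a a' : K) (r r' : Fin n → K) (X X' : Matrix (Fin n) (Fin n) K) :
    bord a r 0 X * bord a' r' 0 X' = bord (a * a') (a • r' + r ᵥ* X') 0 (X * X') := by
  rw [SLComm.bord_mul]; simp

theorem quot_det {T : Matrix (Fin (n + 1)) (Fin (n + 1)) K} {Q : GL (Fin (n + 1)) K} {ρ : K}
    {r : Fin n → K} {Φ : Matrix (Fin n) (Fin n) K} (h : cj Q⁻¹ T = bord ρ r 0 Φ) :
    ρ * Φ.det = T.det := by
  rw [← det_bord_upper ρ r, ← h, det_cj]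

theorem quot_trace {T : Matrix (Fin (n + 1)) (Fin (n + 1)) K} {Q : GL (Fin (n + 1)) K} {ρ : K}
    {r : Fin n → K} {Φ : Matrix (Fin n) (Fin n) K} (h : cj Q⁻¹ T = bord ρ r 0 Φ) :
    Φ.trace = T.trace - ρ := by
  rw [← trace_cj Q⁻¹ T, h, trace_bord, add_sub_cancel_left]

/-- the action on the quotient -/
theorem quot_apply {T : Matrix (Fin (n + 1)) (Fin (n + 1)) K} {Q : GL (Fin (n + 1)) K} {ρ : K}
    {r : Fin n → K} {Φ : Matrix (Fin n) (Fin n) K} (h : cj Q⁻¹ T = bord ρ r 0 Φ)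
    (x : Fin (n + 1) → K) :
    vecTail (Q⁻¹.1 *ᵥ (T *ᵥ x)) = Φ *ᵥ vecTail (Q⁻¹.1 *ᵥ x) := by
  rw [← cj_mulVec, h]
  conv_lhs => rw [← cons_head_tail (Q⁻¹.1 *ᵥ x), SLComm.bord_mulVec]
  simp

/-- a vector with vanishing tail lies on the line -/
theorem of_tail_zero {Q : GL (Fin (n + 1)) K} {v : Fin (n + 1) → K}
    (h0 : Q.1 *ᵥ vecCons 1 0 = v) {x : Fin (n + 1) → K} (hx : vecTail (Q⁻¹.1 *ᵥ x) = 0) :
    x = vecHead (Q⁻¹.1 *ᵥ x) • v := by
  conv_lhs => rw [← gl_mulVec_inv Q x, ← cons_head_tail (Q⁻¹.1 *ᵥ x), hx]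
  rw [← h0, ← mulVec_smul]
  congr 1
  ext i
  refine Fin.cases ?_ (fun i => ?_) i <;> simp

theorem tail_of_mem {Q : GL (Fin (n + 1)) K} {v : Fin (n + 1) → K}
    (h0 : Q.1 *ᵥ vecCons 1 0 = v) (a : K) : vecTail (Q⁻¹.1 *ᵥ (a • v)) = 0 := by
  rw [← h0, mulVec_smul, SLComm.gl_inv_mulVec]
  ext i
  simp [vecTail]

theorem quot_scalar {T : Matrix (Fin (n + 1)) (Fin (n + 1)) K} {Q : GL (Fin (n + 1)) K} {ρ : K}
    {r : Fin n → K} {Φ : Matrix (Fin n) (Fin n) K} (h : cj Q⁻¹ T = bord ρ r 0 Φ)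
    {v : Fin (n + 1) → K} (h0 : Q.1 *ᵥ vecCons 1 0 = v) {c : K} (hΦ : Φ = c • 1)
    (x : Fin (n + 1) → K) : ∃ a : K, T *ᵥ x = c • x + a • v := by
  refine ⟨vecHead (Q⁻¹.1 *ᵥ (T *ᵥ x - c • x)), ?_⟩
  rw [← of_tail_zero h0 (x := T *ᵥ x - c • x), add_sub_cancel]
  have h1 := quot_apply h x
  rw [hΦ, smul_mulVec, one_mulVec] at h1
  rw [mulVec_sub, mulVec_smul]
  ext i
  have := congrFun h1 i
  simp only [vecTail, Function.comp_apply, Pi.sub_apply, Pi.smul_apply, Pi.zero_apply] at this ⊢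
  rw [this, sub_self]

/-- conjugating by a triangular matrix -/
def uppGL (s : Fin n → K) : GL (Fin (n + 1)) K :=
  ⟨bord 1 s 0 1, bord 1 (-s) 0 1, by rw [bord_upper_mul, SLComm.bord_one]; simp,
    by rw [bord_upper_mul, SLComm.bord_one]; simp⟩

/-- conjugating by the first diagonal entry -/
def headGL (t : K) (ht : t ≠ 0) : GL (Fin (n + 1)) K :=
  ⟨bord t 0 0 1, bord t⁻¹ 0 0 1, by rw [bord_upper_mul, SLComm.bord_one]; simp [ht],
    by rw [bord_upper_mul, SLComm.bord_one]; simp [ht]⟩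

theorem cj_uppGL (s : Fin n → K) (μ : K) (r : Fin n → K) (X : Matrix (Fin n) (Fin n) K) :
    cj (uppGL s) (bord μ r 0 X) = bord μ (r + s ᵥ* (X - μ • 1)) 0 X := by
  show bord 1 s 0 1 * bord μ r 0 X * bord 1 (-s) 0 1 = _
  rw [bord_upper_mul, bord_upper_mul]
  simp only [one_mul, mul_one, one_smul, vecMul_one, Matrix.one_mul, Matrix.mul_one]
  rw [vecMul_sub, vecMul_smul, vecMul_one]
  congr 1
  module

theorem cj_headGL (t : K) (ht : t ≠ 0) (μ : K) (r : Fin n → K) (X : Matrix (Fin n) (Fin n) K) :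
    cj (headGL t ht) (bord μ r 0 X) = bord μ (t • r) 0 X := by
  show bord t 0 0 1 * bord μ r 0 X * bord t⁻¹ 0 0 1 = _
  rw [bord_upper_mul, bord_upper_mul, mul_comm t μ, mul_inv_cancel_right₀ ht]
  simp

theorem det_uppGL (s : Fin n → K) : (uppGL s).1.det = 1 := by
  show (bord 1 s 0 (1 : Matrix (Fin n) (Fin n) K)).det = 1
  rw [det_bord_upper, det_one, mul_one]

theorem det_headGL (t : K) (ht : t ≠ 0) : (headGL (n := n) t ht).1.det = t := by
  show (bord t 0 0 (1 : Matrix (Fin n) (Fin n) K)).det = t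
  rw [det_bord_upper, det_one, mul_one]

/-- rows of products of triangular matrices without a common eigenvector -/
theorem reach_aux {μ : K} (hμ : μ ≠ 0) :
    ∀ (k : ℕ) (φ : Fin k → Matrix (Fin n) (Fin n) K) (o : Fin k → Fin n → K),
    ∃ (off : Fin n → K) (W : Submodule K (Fin n → K)),
      (∀ r : Fin n → K, r - off ∈ W → ∃ s : Fin k → Fin n → K,
        (List.ofFn fun i => bord μ (o i + s i ᵥ* (φ i - μ • 1)) 0 (φ i)).prod =
          bord (μ ^ k) r 0 (List.ofFn φ).prod) ∧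
      ∀ y, (∀ w ∈ W, w ⬝ᵥ y = 0) →
        (∀ i, φ i *ᵥ y = μ • y) ∧ (List.ofFn φ).prod *ᵥ y = μ ^ k • y := by
  intro k
  induction k with
  | zero =>
    intro φ o
    refine ⟨0, ⊥, fun r hr => ⟨0, ?_⟩, fun y _ => ⟨fun i => i.elim0, by simp⟩⟩
    rw [Submodule.mem_bot, sub_zero] at hr
    subst hr
    simp [SLComm.bord_one]
  | succ k ih =>
    intro φ o
    obtain ⟨off, W, hW, hann⟩ := ih (fun i => φ i.succ) (fun i => o i.succ)
    obtain ⟨Φ, hΦ⟩ : ∃ Φ, Φ = (List.ofFn fun i => φ i.succ).prod := ⟨_, rfl⟩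
    rw [← hΦ] at hW hann
    have hprod : (List.ofFn φ).prod = φ 0 * Φ := by rw [hΦ, List.ofFn_succ, List.prod_cons]
    refine ⟨μ • off + o 0 ᵥ* Φ,
      W.map (μ • LinearMap.id) ⊔ LinearMap.range ((φ 0 - μ • 1) * Φ).vecMulLinear,
      fun r hr => ?_, fun y hy => ?_⟩
    · obtain ⟨a, ⟨w, hw, rfl⟩, b, ⟨s₀, rfl⟩, hab⟩ := Submodule.mem_sup.1 hr
      obtain ⟨s, hs⟩ := hW (off + w) (by rwa [add_sub_cancel_left])
      refine ⟨Fin.cons s₀ s, ?_⟩
      rw [List.ofFn_succ, List.prod_cons]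
      simp only [Fin.cons_zero, Fin.cons_succ]
      rw [hs, bord_upper_mul, hprod, pow_succ']
      congr 1
      rw [eq_sub_iff_add_eq] at hab
      rw [← hab]
      simp only [LinearMap.smul_apply, LinearMap.id_coe, id_eq, vecMulLinear_apply,
        add_vecMul, vecMul_vecMul, smul_add]
      abel
    · have h1 : ∀ w ∈ W, w ⬝ᵥ y = 0 := by
        intro w hw
        have := hy (μ • w) (Submodule.mem_sup_left ⟨w, hw, rfl⟩)
        rw [smul_dotProduct, smul_eq_zero] at this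
        exact this.resolve_left hμ
      obtain ⟨h2, h3⟩ := hann y h1
      have h4 : φ 0 *ᵥ y = μ • y := by
        have h5 : ((φ 0 - μ • 1) * Φ) *ᵥ y = 0 := by
          refine dotProduct_eq_zero _ fun z => ?_
          rw [dotProduct_comm, dotProduct_mulVec]
          exact hy _ (Submodule.mem_sup_right ⟨z, rfl⟩)
        rw [← mulVec_mulVec, h3, mulVec_smul, sub_mulVec, smul_mulVec, one_mulVec, smul_eq_zero,
          sub_eq_zero] at h5
        exact h5.resolve_left (pow_ne_zero k hμ)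
      refine ⟨Fin.cases h4 h2, ?_⟩
      rw [hprod, ← mulVec_mulVec, h3, mulVec_smul, h4, smul_smul, pow_succ]

/-- products of conjugates of a matrix with an eigenvector, in triangular form -/
theorem tail_prod {A : Matrix (Fin (n + 1)) (Fin (n + 1)) K} {P₀ : GL (Fin (n + 1)) K} {μ : K}
    {a₀ : Fin n → K} {A' : Matrix (Fin n) (Fin n) K} (hA : cj P₀ A = bord μ a₀ 0 A') (hμ : μ ≠ 0)
    (h : Fin k → GL (Fin n) K) (hfree : Free A' h μ) (r : Fin n → K) :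
    ∃ g : Fin k → GL (Fin (n + 1)) K, (∀ i, (g i).1.det = 1) ∧
      prodC A g = bord (μ ^ k) r 0 (prodC A' h) ∧
      ∀ i, ∃ s, cj (g i) A = bord μ s 0 (cj (h i) A') := by
  have ht : ∀ i, ((h i).1.det * P₀.1.det)⁻¹ ≠ 0 := fun i =>
    inv_ne_zero (mul_ne_zero (gl_det_ne _) (gl_det_ne _))
  let o : Fin k → Fin n → K := fun i => ((h i).1.det * P₀.1.det)⁻¹ • (a₀ ᵥ* (h i)⁻¹.1)
  obtain ⟨off, W, hW, hann⟩ := reach_aux hμ k (fun i => cj (h i) A') o
  obtain ⟨s, hs⟩ := hW r (by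
    by_contra hr
    obtain ⟨d, hd, hd'⟩ := SLComm.exists_functional hr
    refine hd' ?_
    rw [hfree d (hann d fun w hw => by rw [dotProduct_comm]; exact hd w hw).1, zero_dotProduct])
  refine ⟨fun i => uppGL (s i) * (headGL _ (ht i) * (liftP (h i) * P₀)), fun i => ?_, ?_,
    fun i => ⟨o i + s i ᵥ* (cj (h i) A' - μ • 1), ?_⟩⟩
  · rw [det_mul_gl, det_mul_gl, det_mul_gl, det_uppGL, det_headGL, det_liftP, one_mul]
    field_simp [gl_det_ne]
  · rw [show prodC A' h = (List.ofFn fun i => cj (h i) A').prod from rfl, ← hs, prodC]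
    congr 2
    funext i
    rw [← cj_cj, ← cj_cj, ← cj_cj, hA, cj_liftP, mulVec_zero, cj_headGL, cj_uppGL]
  · rw [← cj_cj, ← cj_cj, ← cj_cj, hA, cj_liftP, mulVec_zero, cj_headGL, cj_uppGL]

/-- one factor peels off one dimension -/
theorem peel_one {A B : Matrix (Fin (n + 1)) (Fin (n + 1)) K} {P₀ : GL (Fin (n + 1)) K} {μ : K}
    {a₀ : Fin n → K} {A' : Matrix (Fin n) (Fin n) K} (hA : cj P₀ A = bord μ a₀ 0 A') (hμ : μ ≠ 0)
    (hAd : A.det ≠ 0)
    {gX : GL (Fin (n + 1)) K} (hgX : gX.1.det = 1) {v : Fin (n + 1) → K}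
    (hXv : ∀ t : K, cj gX A *ᵥ v ≠ t • v)
    {Q : GL (Fin (n + 1)) K} {r : Fin n → K} {Φ : Matrix (Fin n) (Fin n) K} (hQ : Q.1.det = 1)
    (hQ0 : Q.1 *ᵥ vecCons 1 0 = v) (hT : cj Q⁻¹ ((cj gX A)⁻¹ * B) = bord (μ ^ k) r 0 Φ)
    {P P' : K → Prop} (hP' : P' μ) (hPP : ∀ τ, P τ → P' τ) (h : CP A' k Φ P') :
    SP A (k + 1) B P := by
  obtain ⟨g', hg'p, hg'f⟩ := h
  obtain ⟨g, hg, hgp, hgform⟩ := tail_prod hA hμ g' (hg'f μ hP') r
  refine ⟨Fin.cons gX fun i => Q * g i, fun i => ?_, ?_, fun τ hτ y hy => ?_⟩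
  · refine Fin.cases ?_ (fun i => ?_) i
    · exact hgX
    · rw [Fin.cons_succ, det_mul_gl, hQ, hg, one_mul]
  · rw [prodC_cons, ← cj_prodC, hgp, hg'p, ← hT, cj_cj_inv, ← Matrix.mul_assoc,
      Matrix.mul_nonsing_inv _ (isUnit_det_cj hAd gX), Matrix.one_mul]
  · have hX : cj gX A *ᵥ y = τ • y := by simpa using hy 0
    have h1 : ∀ i, cj (g' i) A' *ᵥ vecTail (Q⁻¹.1 *ᵥ y) = τ • vecTail (Q⁻¹.1 *ᵥ y) := by
      intro i
      obtain ⟨s, hs⟩ := hgform i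
      have h2 := hy i.succ
      rw [Fin.cons_succ] at h2
      have h3 : cj Q⁻¹ (cj (Q * g i) A) = bord μ s 0 (cj (g' i) A') := by
        rw [← cj_cj, cj_inv_cj, hs]
      rw [← quot_apply h3 y, h2, mulVec_smul]
      rfl
    have h4 := of_tail_zero hQ0 (hg'f τ (hPP τ hτ) _ h1)
    by_contra hy0
    have hne : vecHead (Q⁻¹.1 *ᵥ y) ≠ 0 := fun e => hy0 (by rw [h4, e, zero_smul])
    rw [h4, mulVec_smul, smul_comm] at hX
    exact hXv τ (smul_right_injective _ hne hX)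

end Cfsg.Agent.LevCover
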