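/-
Covering number of PSL(n,q): varying the factor that peels off a dimension.
-/
import Cfsg.Agent.Lib.LevCover.Tail

set_option autoImplicit false

namespace Cfsg.Agent.LevCover

open Polynomial Matrix Module
open Cfsg.Agent.SLComm (Cyc bord img eigen)

variable {K : Type*} [Field K] {n : ℕ}

theorem one_add_vecMulVec_mulVec (t h x : Fin n → K) :
    (1 + vecMulVec t h) *ᵥ x = x + (h ⬝ᵥ x) • t := by
  rw [add_mulVec, one_mulVec, vecMulVec_mulVec, op_smul_eq_smul]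

/-- a transvection -/
def tvGL (t h : Fin n → K) (hth : h ⬝ᵥ t = 0) : GL (Fin n) K :=
  ⟨1 + vecMulVec t h, 1 + vecMulVec (-t) h,
    by simp [neg_vecMulVec, mul_add, add_mul, vecMulVec_mul_vecMulVec, hth],
    by simp [neg_vecMulVec, mul_add, add_mul, vecMulVec_mul_vecMulVec, hth]⟩

theorem det_tvGL (t h : Fin n → K) (hth : h ⬝ᵥ t = 0) : (tvGL t h hth).1.det = 1 := by
  show (1 + vecMulVec t h).det = 1
  rw [vecMulVec_eq Unit, det_one_add_replicateCol_mul_replicateRow, hth, add_zero]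

theorem tvGL_mulVec (t h : Fin n → K) (hth : h ⬝ᵥ t = 0) (x : Fin n → K) :
    (tvGL t h hth).1 *ᵥ x = x + (h ⬝ᵥ x) • t := one_add_vecMulVec_mulVec t h x

theorem tvGL_inv_mulVec (t h : Fin n → K) (hth : h ⬝ᵥ t = 0) (x : Fin n → K) :
    (tvGL t h hth)⁻¹.1 *ᵥ x = x - (h ⬝ᵥ x) • t := by
  show (1 + vecMulVec (-t) h) *ᵥ x = _
  rw [one_add_vecMulVec_mulVec, smul_neg, sub_eq_add_neg]

theorem cj_nonsing_inv {X : Matrix (Fin n) (Fin n) K} (hX : X.det ≠ 0) (g : GL (Fin n) K) :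
    (cj g X)⁻¹ = cj g X⁻¹ := by
  refine Matrix.inv_eq_right_inv ?_
  rw [← cj_mul, Matrix.mul_nonsing_inv _ (isUnit_iff_ne_zero.2 hX), show cj g 1 = 1 by simp [cj]]

theorem inv_mulVec_eq {X : Matrix (Fin n) (Fin n) K} (hX : X.det ≠ 0) {x y : Fin n → K}
    (h : X *ᵥ x = y) : X⁻¹ *ᵥ y = x := by
  rw [← h, mulVec_mulVec, Matrix.nonsing_inv_mul _ (isUnit_iff_ne_zero.2 hX), one_mulVec]

theorem trace_mul_vecMulVec (M : Matrix (Fin n) (Fin n) K) (a b : Fin n → K) :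
    (M * vecMulVec a b).trace = b ⬝ᵥ (M *ᵥ a) := by
  rw [mul_vecMulVec, trace_vecMulVec, dotProduct_comm]

/-- the data of a peeling step -/
structure Step (A B : Matrix (Fin (n + 1)) (Fin (n + 1)) K) (ρ : K)
    (Φ : Matrix (Fin n) (Fin n) K) where
  gX : GL (Fin (n + 1)) K
  hgX : gX.1.det = 1
  v : Fin (n + 1) → K
  noneig : ∀ t : K, cj gX A *ᵥ v ≠ t • v
  Q : GL (Fin (n + 1)) K
  r : Fin n → K
  hQ : Q.1.det = 1
  hQ0 : Q.1 *ᵥ vecCons 1 0 = v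
  hT : cj Q⁻¹ ((cj gX A)⁻¹ * B) = bord ρ r 0 Φ

theorem Step.prod {A B : Matrix (Fin (n + 1)) (Fin (n + 1)) K} {μ : K} {k : ℕ}
    {Φ : Matrix (Fin n) (Fin n) K} (s : Step A B (μ ^ k) Φ)
    {P₀ : GL (Fin (n + 1)) K} {a₀ : Fin n → K} {A' : Matrix (Fin n) (Fin n) K}
    (hA : cj P₀ A = bord μ a₀ 0 A') (hμ : μ ≠ 0) (hAd : A.det ≠ 0)
    {P P' : K → Prop} (hP' : P' μ) (hPP : ∀ τ, P τ → P' τ) (h : CP A' k Φ P') :
    SP A (k + 1) B P :=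
  peel_one hA hμ hAd s.hgX s.noneig s.hQ s.hQ0 s.hT hP' hPP h

theorem Step.det_eq {A B : Matrix (Fin (n + 1)) (Fin (n + 1)) K} {ρ : K}
    {Φ : Matrix (Fin n) (Fin n) K} (s : Step A B ρ Φ) : ρ * Φ.det = A.det⁻¹ * B.det := by
  rw [quot_det s.hT, det_mul, det_nonsing_inv, Ring.inverse_eq_inv', det_cj]

/-- a step from a conjugate with the right value at `v` -/
theorem exists_step_of {A B : Matrix (Fin (n + 1)) (Fin (n + 1)) K} (hn : 1 ≤ n)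
    (hAd : A.det ≠ 0) {ρ : K} (hρ : ρ ≠ 0) {gX : GL (Fin (n + 1)) K} (hgX : gX.1.det = 1)
    {v w : Fin (n + 1) → K} (hv : v ≠ 0) (hw : ∀ a : K, w ≠ a • v) (hBv : B *ᵥ v = ρ • w)
    (hXv : cj gX A *ᵥ v = w) :
    ∃ Φ : Matrix (Fin n) (Fin n) K, ∃ s : Step A B ρ Φ,
      s.gX = gX ∧ s.v = v ∧ Φ.trace = ((cj gX A)⁻¹ * B).trace - ρ := by
  obtain ⟨Q, r, Φ, hQ, hQ0, hT⟩ := exists_quot hn hv (T := (cj gX A)⁻¹ * B) (ρ := ρ) (by
    rw [← mulVec_mulVec, hBv, mulVec_smul, inv_mulVec_eq (by rw [det_cj]; exact hAd) hXv])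
  exact ⟨Φ, ⟨gX, hgX, v, fun t => by rw [hXv]; exact hw t, Q, r, hQ, hQ0, hT⟩, rfl, rfl,
    quot_trace hT⟩

/-- scalar quotient -/
theorem Step.scalar {A B : Matrix (Fin (n + 1)) (Fin (n + 1)) K} (hAd : A.det ≠ 0) {ρ c : K}
    {Φ : Matrix (Fin n) (Fin n) K} (s : Step A B ρ Φ) (hΦ : Φ = c • 1) (x : Fin (n + 1) → K) :
    ∃ a : K, B *ᵥ x = c • (cj s.gX A *ᵥ x) + a • (cj s.gX A *ᵥ s.v) := by
  obtain ⟨a, ha⟩ := quot_scalar s.hT s.hQ0 hΦ x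
  refine ⟨a, ?_⟩
  have h1 := congrArg (fun y => cj s.gX A *ᵥ y) ha
  simp only [mulVec_mulVec] at h1
  rw [← Matrix.mul_assoc, Matrix.mul_nonsing_inv _ (isUnit_det_cj hAd s.gX), Matrix.one_mul,
    mulVec_add, mulVec_smul, mulVec_smul] at h1
  exact h1

variable [Fintype K]

/-- a step with non-scalar quotient -/
theorem exists_step_nsc (h4 : 4 ≤ Fintype.card K) (hn : 2 ≤ n)
    {A B : Matrix (Fin (n + 1)) (Fin (n + 1)) K} (hA : ¬ IsSc A) (hAd : A.det ≠ 0)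
    (hB : ¬ IsSc B) (hBd : B.det ≠ 0) {ρ : K} (hρ : ρ ≠ 0) :
    ∃ Φ : Matrix (Fin n) (Fin n) K, ¬ IsSc Φ ∧ Nonempty (Step A B ρ Φ) := by
  obtain ⟨v', hv', hAv⟩ := exists_noneig' h4 (by omega) hA
  obtain ⟨v, hv, hBv⟩ := exists_noneig' h4 (by omega) hB
  obtain ⟨w, hw'⟩ : ∃ w, w = ρ⁻¹ • (B *ᵥ v) := ⟨_, rfl⟩
  have hBw : B *ᵥ v = ρ • w := by rw [hw', smul_smul, mul_inv_cancel₀ hρ, one_smul]
  have hw : ∀ a : K, w ≠ a • v := fun a ha => hBv (ρ * a) (by rw [hBw, ha, smul_smul])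
  obtain ⟨g, hg, -, hgw⟩ := exists_cj_map (by omega) hv' hAv hv hw
  obtain ⟨Φ, s, hsg, hsv, -⟩ := exists_step_of (by omega) hAd hρ hg hv hw hBw hgw
  by_cases hns : IsSc Φ
  swap
  · exact ⟨Φ, hns, ⟨s⟩⟩
  obtain ⟨d, hd, hdv, hdw⟩ := exists_perp (v := v) (w := w) (n := n + 1) (by omega)
  have hg' : (tvGL v d hdv * g).1.det = 1 := by rw [det_mul_gl, det_tvGL, hg, one_mul]
  have hX' : ∀ x, cj (tvGL v d hdv * g) A *ᵥ x =
      cj g A *ᵥ x - (d ⬝ᵥ x) • w + (d ⬝ᵥ (cj g A *ᵥ x)) • v := by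
    intro x
    have e : x = (tvGL v d hdv).1 *ᵥ ((tvGL v d hdv)⁻¹.1 *ᵥ x) := (gl_mulVec_inv _ x).symm
    conv_lhs => rw [← cj_cj, e, cj_mulVec, tvGL_inv_mulVec, tvGL_mulVec, mulVec_sub, mulVec_smul,
      hgw, dotProduct_sub, dotProduct_smul, hdw, smul_zero, sub_zero]
  obtain ⟨Φ', s', hsg', hsv', -⟩ := exists_step_of (by omega) hAd hρ hg' hv hw hBw (by
    rw [hX', hdv, zero_smul, sub_zero, hgw, hdw, zero_smul, add_zero])
  refine ⟨Φ', fun hns' => ?_, ⟨s'⟩⟩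
  obtain ⟨c, hc⟩ := hns
  obtain ⟨c', hc'⟩ := hns'
  have key : ∀ x, ∃ a : K, (c - c') • (cj g A *ᵥ x) -
      (c' * (d ⬝ᵥ (cj g A *ᵥ x))) • v = a • w := by
    intro x
    obtain ⟨a, ha⟩ := s.scalar hAd hc x
    obtain ⟨a', ha'⟩ := s'.scalar hAd hc' x
    rw [hsg, hsv, hgw] at ha
    rw [hsg', hsv', hX' x, hX' v, hdv, zero_smul, sub_zero, hgw, hdw, zero_smul, add_zero, ha] at ha'
    refine ⟨a' - a - c' * (d ⬝ᵥ x), ?_⟩
    linear_combination (norm := module) ha'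
  have hinj : ∀ y : Fin (n + 1) → K, ∃ x, cj g A *ᵥ x = y := fun y =>
    ⟨(cj g A)⁻¹ *ᵥ y, by
      rw [mulVec_mulVec, Matrix.mul_nonsing_inv _ (isUnit_det_cj hAd g), one_mulVec]⟩
  obtain ⟨u, -, hu⟩ := SetLike.exists_of_lt (SLComm.ne_top_of_finrank
    (p := Submodule.span K {v} ⊔ Submodule.span K {w})
    (lt_of_le_of_lt (SLComm.finrank_pair_le v w) (by omega))).lt_top
  have hcc : c = c' := by
    by_contra hcc
    obtain ⟨x, hx⟩ := hinj u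
    obtain ⟨a, ha⟩ := key x
    rw [hx, sub_eq_iff_eq_add] at ha
    refine hu (Submodule.mem_sup.2 ⟨((c - c')⁻¹ * (c' * (d ⬝ᵥ u))) • v,
      Submodule.smul_mem _ _ (Submodule.mem_span_singleton_self v), ((c - c')⁻¹ * a) • w,
      Submodule.smul_mem _ _ (Submodule.mem_span_singleton_self w), ?_⟩)
    have h1 := congrArg (fun z => (c - c')⁻¹ • z) ha
    simp only [smul_add, smul_smul, inv_mul_cancel₀ (sub_ne_zero.2 hcc), one_smul] at h1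
    exact (add_comm _ _).trans h1.symm
  subst hcc
  have hc0 : c ≠ 0 := by
    rintro rfl
    have h1 := s'.det_eq
    haveI : Nonempty (Fin n) := ⟨⟨0, by omega⟩⟩
    rw [hc', zero_smul, det_zero, mul_zero, eq_comm, mul_eq_zero] at h1
    exact h1.elim (inv_ne_zero hAd) hBd
  obtain ⟨y, hy⟩ : ∃ y : Fin (n + 1) → K, d ⬝ᵥ y ≠ 0 := by
    by_contra hall
    push Not at hall
    exact hd (dotProduct_eq_zero _ fun z => by rw [hall])
  obtain ⟨x, hx⟩ := hinj y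
  obtain ⟨a, ha⟩ := key x
  rw [sub_self, zero_smul, zero_sub, hx, ← neg_smul] at ha
  by_cases ha0 : a = 0
  · rw [ha0, zero_smul, smul_eq_zero, neg_eq_zero, mul_eq_zero] at ha
    exact ha.elim (fun h => h.elim hc0 hy) hv
  · refine hw (a⁻¹ * -(c * (d ⬝ᵥ y))) ?_
    rw [← smul_smul, ha, smul_smul, inv_mul_cancel₀ ha0, one_smul]

end Cfsg.Agent.LevCover
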