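/-
Covering number of PSL(n,q): prescribing the trace of the quotient in a peeling step.
-/
import Cfsg.Agent.Lib.LevCover.Vary

set_option autoImplicit false

namespace Cfsg.Agent.LevCover

open Polynomial Matrix Module
open Cfsg.Agent.SLComm (Cyc bord img eigen)

variable {K : Type*} [Field K] {n : ℕ}

/-- some vector has three independent iterates -/
def Deg3 (A : Matrix (Fin n) (Fin n) K) : Prop :=
  ∃ u : Fin n → K, u ≠ 0 ∧ (∀ a : K, A *ᵥ u ≠ a • u) ∧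
    A *ᵥ (A *ᵥ u) ∉ Submodule.span K {u, A *ᵥ u}

theorem Deg3.not_isSc {A : Matrix (Fin n) (Fin n) K} (h : Deg3 A) : ¬ IsSc A := by
  rintro ⟨a, rfl⟩
  obtain ⟨u, -, hu, -⟩ := h
  exact hu a (by rw [smul_mulVec, one_mulVec])

/-- the preimage vector of a cyclic triple -/
theorem Deg3.exists_base {A : Matrix (Fin n) (Fin n) K} (h : Deg3 A) :
    ∃ u : Fin n → K, A *ᵥ u ≠ 0 ∧ (∀ a : K, A *ᵥ (A *ᵥ u) ≠ a • (A *ᵥ u)) ∧
      u ∉ Submodule.span K {A *ᵥ u, A *ᵥ (A *ᵥ u)} := by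
  obtain ⟨u, hu0, hu, h3⟩ := h
  refine ⟨u, fun h0 => hu 0 (by rw [h0, zero_smul]), fun a ha => h3 ?_, fun hm => ?_⟩
  · exact Submodule.mem_span_pair.2 ⟨0, a, by rw [zero_smul, zero_add, ha]⟩
  · obtain ⟨a, b, hab⟩ := Submodule.mem_span_pair.1 hm
    rcases eq_or_ne b 0 with rfl | hb
    · rw [zero_smul, add_zero] at hab
      rcases eq_or_ne a 0 with rfl | ha
      · exact hu0 (by rw [← hab, zero_smul])
      · refine hu a⁻¹ ?_
        calc A *ᵥ u = a⁻¹ • (a • (A *ᵥ u)) := by rw [smul_smul, inv_mul_cancel₀ ha, one_smul]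
          _ = a⁻¹ • u := by rw [hab]
    · refine h3 (Submodule.mem_span_pair.2 ⟨b⁻¹, -(b⁻¹ * a), ?_⟩)
      calc b⁻¹ • u + -(b⁻¹ * a) • (A *ᵥ u)
          = b⁻¹ • (a • (A *ᵥ u) + b • (A *ᵥ (A *ᵥ u))) + -(b⁻¹ * a) • (A *ᵥ u) := by rw [hab]
        _ = A *ᵥ (A *ᵥ u) := by
          rw [smul_add, smul_smul, smul_smul, inv_mul_cancel₀ hb, one_smul]; module

/-- a conjugate moving a triple off the plane -/
theorem exists_cj_off (hn : 3 ≤ n) {A : Matrix (Fin n) (Fin n) K} (hAd : A.det ≠ 0)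
    (hA : Deg3 A) {v w : Fin n → K} (hv : v ≠ 0) (hw : ∀ a : K, w ≠ a • v) :
    ∃ g : GL (Fin n) K, g.1.det = 1 ∧ cj g A *ᵥ v = w ∧
      (cj g A)⁻¹ *ᵥ v ∉ Submodule.span K {v, w} := by
  obtain ⟨u, hu1, hu2, hu3⟩ := hA.exists_base
  obtain ⟨g, hg, hgv, hgw⟩ := exists_cj_map hn hu1 hu2 hv hw
  refine ⟨g, hg, hgw, fun hm => hu3 ?_⟩
  have h1 : (cj g A)⁻¹ *ᵥ v = g.1 *ᵥ u := by
    refine inv_mulVec_eq (by rw [det_cj]; exact hAd) ?_
    rw [cj_mulVec, hgv]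
  rw [h1] at hm
  obtain ⟨a, b, hab⟩ := Submodule.mem_span_pair.1 hm
  refine Submodule.mem_span_pair.2 ⟨a, b, SLComm.gl_mulVec_inj g ?_⟩
  rw [mulVec_add, mulVec_smul, mulVec_smul, ← cj_mulVec g A (A *ᵥ u), hgv, hgw, hab]

variable [Fintype K]

/-- steps with prescribed trace of the quotient -/
theorem exists_step_trace (hn : 2 ≤ n)
    {A B : Matrix (Fin (n + 1)) (Fin (n + 1)) K} (hAd : A.det ≠ 0) (hBd : B.det ≠ 0)
    {ρ : K} (hρ : ρ ≠ 0) {gX : GL (Fin (n + 1)) K} (hgX : gX.1.det = 1)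
    {v w : Fin (n + 1) → K} (hv : v ≠ 0) (hw : ∀ a : K, w ≠ a • v) (hBv : B *ᵥ v = ρ • w)
    (hXv : cj gX A *ᵥ v = w)
    (hoff : (cj gX A)⁻¹ *ᵥ v ∉ Submodule.span K {v, w} ∨
      B *ᵥ w ∉ Submodule.span K {v, w}) (τ : K) :
    ∃ Φ : Matrix (Fin n) (Fin n) K, Nonempty (Step A B ρ Φ) ∧ Φ.trace = τ := by
  classical
  have hXd : ∀ g : GL (Fin (n + 1)) K, (cj g A).det ≠ 0 := fun g => by rw [det_cj]; exact hAd
  have hvP : v ∈ Submodule.span K {v, w} := Submodule.subset_span (by simp)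
  have hwP : w ∈ Submodule.span K {v, w} := Submodule.subset_span (by simp)
  obtain ⟨g, hg, hgv, hu⟩ : ∃ g : GL (Fin (n + 1)) K, g.1.det = 1 ∧ cj g A *ᵥ v = w ∧
      B *ᵥ ((cj g A)⁻¹ *ᵥ v) ∉ Submodule.span K {v, w} := by
    obtain ⟨z, hz⟩ : ∃ z, z = (cj gX A)⁻¹ *ᵥ v := ⟨_, rfl⟩
    by_cases hBz : B *ᵥ z ∈ Submodule.span K {v, w}
    swap
    · exact ⟨gX, hgX, hXv, hz ▸ hBz⟩
    by_cases hzP : z ∈ Submodule.span K {v, w}
    · exfalso
      have hBw := hoff.resolve_left (fun h => h (hz ▸ hzP))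
      obtain ⟨β, α, hab⟩ := Submodule.mem_span_pair.1 hzP
      rcases eq_or_ne α 0 with rfl | hα
      · rw [zero_smul, add_zero] at hab
        have h1 := congrArg (fun x => cj gX A *ᵥ x) hab
        simp only [hz, mulVec_smul, hXv, mulVec_mulVec] at h1
        rw [Matrix.mul_nonsing_inv _ (isUnit_det_cj hAd gX), one_mulVec] at h1
        rcases eq_or_ne β 0 with rfl | hβ
        · exact hv (by rw [← h1, zero_smul])
        · refine hw β⁻¹ ?_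
          rw [← h1, smul_smul, inv_mul_cancel₀ hβ, one_smul]
      · refine hBw ?_
        have h1 : B *ᵥ w = α⁻¹ • (B *ᵥ z - β • (ρ • w)) := by
          rw [← hab, mulVec_add, mulVec_smul, mulVec_smul, hBv, add_sub_cancel_left, smul_smul,
            inv_mul_cancel₀ hα, one_smul]
        rw [h1]
        exact Submodule.smul_mem _ _ (Submodule.sub_mem _ hBz
          (Submodule.smul_mem _ _ (Submodule.smul_mem _ _ hwP)))
    obtain ⟨d, hd, hd'⟩ := SLComm.exists_functional hzP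
    have hdv := hd v hvP
    have hdw := hd w hwP
    obtain ⟨h, hh, hhv, hhw⟩ : ∃ h : Fin (n + 1) → K, h ⬝ᵥ z = 1 ∧ h ⬝ᵥ v = 0 ∧ h ⬝ᵥ w = 0 :=
      ⟨(d ⬝ᵥ z)⁻¹ • d, by rw [smul_dotProduct, smul_eq_mul, inv_mul_cancel₀ hd'],
        by rw [smul_dotProduct, hdv, smul_zero], by rw [smul_dotProduct, hdw, smul_zero]⟩
    have hfix : ∀ x, h ⬝ᵥ x = 0 → (tvGL w h hhw).1 *ᵥ x = x := fun x hx => by
      rw [tvGL_mulVec, hx, zero_smul, add_zero]
    have hgX' : cj (tvGL w h hhw * gX) A *ᵥ v = w := by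
      conv_lhs => rw [← cj_cj, ← hfix v hhv, cj_mulVec, hXv, hfix w hhw]
    refine ⟨tvGL w h hhw * gX, by rw [det_mul_gl, det_tvGL, hgX, one_mul], hgX', fun hm => hzP ?_⟩
    have h2 : (cj (tvGL w h hhw * gX) A)⁻¹ *ᵥ v = z + w := by
      refine inv_mulVec_eq (hXd _) ?_
      have : z + w = (tvGL w h hhw).1 *ᵥ z := by rw [tvGL_mulVec, hh, one_smul]
      rw [this, ← cj_cj, cj_mulVec, hz, mulVec_mulVec v (cj gX A),
        Matrix.mul_nonsing_inv _ (isUnit_det_cj hAd gX), one_mulVec, hfix v hhv]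
    rw [h2, mulVec_add] at hm
    have hBw := (Submodule.add_mem_iff_right _ hBz).1 hm
    obtain ⟨α, β, hab⟩ := Submodule.mem_span_pair.1 hBw
    have hinj := Matrix.mulVec_injective_iff_isUnit.2
      ((Matrix.isUnit_iff_isUnit_det _).2 (isUnit_iff_ne_zero.2 hBd))
    have hα : α ≠ 0 := by
      rintro rfl
      rw [zero_smul, zero_add] at hab
      have h5 : β • v = ρ • w := hinj (by rw [mulVec_smul, mulVec_smul, hBv, ← hab]; module)
      refine hw (ρ⁻¹ * β) ?_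
      rw [← smul_smul, h5, smul_smul, inv_mul_cancel₀ hρ, one_smul]
    obtain ⟨a, b, hzc⟩ := Submodule.mem_span_pair.1 hBz
    -- a preimage inside the plane
    have h6 : z = (a / α) • (w - (β / ρ) • v) + (b / ρ) • v := hinj (by
      rw [mulVec_add, mulVec_smul, mulVec_smul, mulVec_sub, mulVec_smul, hBv, ← hab, ← hzc,
        smul_smul, smul_smul, div_mul_cancel₀ _ hρ, div_mul_cancel₀ _ hρ, add_sub_cancel_right,
        smul_smul, div_mul_cancel₀ _ hα])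
    rw [h6]
    exact Submodule.add_mem _ (Submodule.smul_mem _ _ (Submodule.sub_mem _ hwP
      (Submodule.smul_mem _ _ hvP))) (Submodule.smul_mem _ _ hvP)
  obtain ⟨d, hd, hd'⟩ := SLComm.exists_functional hu
  obtain ⟨s, hs⟩ : ∃ s : K, s = ((cj g A)⁻¹ * B).trace - ρ - τ := ⟨_, rfl⟩
  obtain ⟨h, hh⟩ : ∃ h, h = (d ⬝ᵥ (B *ᵥ ((cj g A)⁻¹ *ᵥ v)))⁻¹ • d := ⟨_, rfl⟩
  have hhv : h ⬝ᵥ v = 0 := by rw [hh, smul_dotProduct, hd v hvP, smul_zero]
  have hhw : h ⬝ᵥ w = 0 := by rw [hh, smul_dotProduct, hd w hwP, smul_zero]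
  have hhu : h ⬝ᵥ (B *ᵥ ((cj g A)⁻¹ *ᵥ v)) = 1 := by
    rw [hh, smul_dotProduct, smul_eq_mul, inv_mul_cancel₀ hd']
  have hsv : h ⬝ᵥ (s • v) = 0 := by rw [dotProduct_smul, hhv, smul_zero]
  have hg1 : (tvGL (s • v) h hsv * g).1.det = 1 := by rw [det_mul_gl, det_tvGL, hg, one_mul]
  have hfix : ∀ x, h ⬝ᵥ x = 0 → (tvGL (s • v) h hsv).1 *ᵥ x = x := fun x hx => by
    rw [tvGL_mulVec, hx, zero_smul, add_zero]
  obtain ⟨Φ, st, -, -, htr⟩ := exists_step_of (by omega) hAd hρ hg1 hv hw hBv (by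
    calc cj (tvGL (s • v) h hsv * g) A *ᵥ v
        = cj (tvGL (s • v) h hsv * g) A *ᵥ ((tvGL (s • v) h hsv).1 *ᵥ v) := by rw [hfix v hhv]
      _ = w := by rw [← cj_cj, cj_mulVec, hgv, hfix w hhw])
  refine ⟨Φ, ⟨st⟩, ?_⟩
  rw [htr, ← cj_cj, cj_nonsing_inv (hXd g)]
  obtain ⟨X, hX⟩ : ∃ X, X = (cj g A)⁻¹ := ⟨_, rfl⟩
  obtain ⟨N, hN⟩ : ∃ N, N = vecMulVec (s • v) h := ⟨_, rfl⟩
  have hval : cj (tvGL (s • v) h hsv) X * B = (1 + N) * X * (1 - N) * B := by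
    rw [hN, sub_eq_add_neg, ← neg_vecMulVec]; rfl
  rw [← hX, hval, Matrix.mul_assoc, Matrix.mul_assoc, Matrix.trace_mul_comm (1 + N),
    Matrix.mul_assoc]
  have e1 : (X * (B * N)).trace = 0 := by
    rw [← Matrix.mul_assoc, hN, trace_mul_vecMulVec, ← mulVec_mulVec, mulVec_smul, hBv,
      mulVec_smul, mulVec_smul, hX, inv_mulVec_eq (hXd g) hgv, dotProduct_smul, dotProduct_smul,
      hhv, smul_zero, smul_zero]
  have e2 : (X * (N * B)).trace = s := by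
    rw [hN, vecMulVec_mul, trace_mul_vecMulVec, ← dotProduct_mulVec, mulVec_smul, mulVec_smul,
      dotProduct_smul, hX, hhu, smul_eq_mul, mul_one]
  have e3 : N * B * N = 0 := by
    rw [hN, vecMulVec_mul, vecMulVec_mul_vecMulVec, ← dotProduct_mulVec, mulVec_smul, hBv,
      dotProduct_smul, dotProduct_smul, hhw, smul_zero, smul_zero, zero_smul, vecMulVec_zero]
  have e4 : X * ((1 - N) * B * (1 + N)) = X * B + X * (B * N) - X * (N * B) - X * (N * B * N) := by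
    noncomm_ring
  rw [e4, e3, Matrix.mul_zero, sub_zero, Matrix.trace_sub, Matrix.trace_add, e1, e2, add_zero, hs, hX]
  ring

end Cfsg.Agent.LevCover
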