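/-
Covering number of PSL(n,q): products of two conjugates in dimension two.
-/
import Cfsg.Agent.Lib.LevCover.Trace

set_option autoImplicit false

namespace Cfsg.Agent.LevCover

open Polynomial Matrix Module
open Cfsg.Agent.SLComm (Cyc bord img eigen)

variable {K : Type*} [Field K]

/-- non-scalar two by two matrices are determined by trace and determinant -/
theorem sim_two [Fintype K] (h4 : 4 ≤ Fintype.card K) {A B : Matrix (Fin 2) (Fin 2) K}
    (hA : ¬ IsSc A) (hB : ¬ IsSc B) (ht : A.trace = B.trace) (hd : A.det = B.det) : Sim A B := by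
  have key : ∀ M : Matrix (Fin 2) (Fin 2) K, ¬ IsSc M → CS M.charpoly M := by
    intro M hM
    obtain ⟨v, hv, hMv⟩ := exists_noneig' h4 le_rfl hM
    refine ⟨v, M.charpoly_monic, by rw [charpoly_natDegree_eq_dim, Fintype.card_fin],
      aeval_self_charpoly M, fun p hp h0 => ?_⟩
    obtain ⟨a, b, rfl⟩ := exists_eq_X_add_C_of_natDegree_le_one (p := p) (by
      by_cases hp0 : p = 0
      · simp [hp0]
      · exact Nat.lt_succ_iff.1 ((natDegree_lt_iff_degree_lt hp0).2 hp))
    rw [map_add, map_mul, aeval_C, aeval_C, aeval_X, Algebra.algebraMap_eq_smul_one,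
      Algebra.algebraMap_eq_smul_one, smul_one_mul, add_mulVec, smul_mulVec, smul_mulVec,
      one_mulVec] at h0
    have ha : a = 0 := by
      by_contra ha
      refine hMv (-(a⁻¹ * b)) ?_
      rw [neg_smul, ← smul_smul, eq_neg_of_add_eq_zero_right h0, smul_neg, neg_neg, smul_smul,
        inv_mul_cancel₀ ha, one_smul]
    rw [ha, zero_smul, zero_add, smul_eq_zero] at h0
    simp [ha, h0.resolve_right hv]
  exact CS.sim (key A hA) (by
    have h : B.charpoly = A.charpoly := by rw [charpoly_fin_two, charpoly_fin_two, ht, hd]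
    exact h ▸ key B hB)

theorem prodC_two {n : ℕ} (A : Matrix (Fin n) (Fin n) K) (g₁ g₂ : GL (Fin n) K) :
    prodC A ![g₁, g₂] = cj g₁ A * cj g₂ A := by
  simp [prodC, List.ofFn_succ]

/-- two factors without common eigenvector, from the trace -/
theorem free_of_trace {A B : Matrix (Fin 2) (Fin 2) K} {μ ν : K} (hd : A.det = μ * ν)
    (ht : A.trace = μ + ν) (hν : A.det ≠ 0) {g : Fin 2 → GL (Fin 2) K} (hg : prodC A g = B)
    (hB : B.trace ≠ μ ^ 2 + ν ^ 2) (τ : K) : Free A g τ := by
  intro y hy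
  by_contra hy0
  have hcp : A.charpoly.eval τ = 0 := by
    refine eval_charpoly_of_eigen (gl_mulVec_ne (g 0)⁻¹ hy0) ?_
    rw [← mulVec_smul, ← hy 0, ← cj_mulVec, cj_inv_cj]
  have hBy : B *ᵥ y = τ ^ 2 • y := by
    rw [← hg, show g = ![g 0, g 1] by ext i : 1; fin_cases i <;> rfl, prodC_two, ← mulVec_mulVec,
      hy 1, mulVec_smul, hy 0, smul_smul, sq]
  have hB' := eval_charpoly_of_eigen hy0 hBy
  rw [charpoly_fin_two] at hB' hcp
  simp only [eval_add, eval_sub, eval_pow, eval_X, eval_mul, eval_C] at hB' hcp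
  rw [hd, ht] at hcp
  have hBd : B.det = (μ * ν) ^ 2 := by rw [← hg, det_prodC, hd]
  rw [hBd] at hB'
  have hτ : τ ≠ 0 := by
    rintro rfl
    rw [hd] at hν
    simp [hν] at hcp
  have h1 : (τ - μ) * (τ - ν) = 0 := by linear_combination hcp
  refine hB (mul_right_cancel₀ (pow_ne_zero 2 hτ) ?_)
  rcases mul_eq_zero.1 h1 with h | h <;> rw [sub_eq_zero] at h <;> subst h <;>
    linear_combination -hB'

variable [Fintype K]

/-- two conjugates in dimension two -/
theorem two_eig (h4 : 4 ≤ Fintype.card K) {A B : Matrix (Fin 2) (Fin 2) K} (hA : ¬ IsSc A)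
    (hB : ¬ IsSc B) {μ ν : K} (hμ : μ ≠ 0) (hν : ν ≠ 0) (hd : A.det = μ * ν)
    (ht : A.trace = μ + ν) (hBd : B.det = A.det ^ 2) :
    ∃ g : Fin 2 → GL (Fin 2) K, prodC A g = B ∧
      (μ ≠ ν ∨ B.trace ≠ μ ^ 2 + ν ^ 2 → Free A g μ) := by
  obtain ⟨v, hv, hBv⟩ := exists_noneig' h4 le_rfl hB
  obtain ⟨v', hv', hAv⟩ := exists_noneig' h4 le_rfl hA
  obtain ⟨w, hw'⟩ : ∃ w, w = μ⁻¹ • (B *ᵥ v) := ⟨_, rfl⟩
  have hBw : B *ᵥ v = μ • w := by rw [hw', smul_smul, mul_inv_cancel₀ hμ, one_smul]
  have hw : ∀ a : K, w ≠ a • v := fun a ha => hBv (μ * a) (by rw [hBw, ha, smul_smul])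
  obtain ⟨G, _, hG⟩ := exists_gl_extend (n := 2) 0 2 rfl _ (indep_pair hv' hAv)
  obtain ⟨G', _, hG'⟩ := exists_gl_extend (n := 2) 0 2 rfl _ (indep_pair hv hw)
  obtain ⟨g, hgdef⟩ : ∃ g, g = G' * G⁻¹ := ⟨_, rfl⟩
  have hmove : ∀ i, g.1 *ᵥ (![v', A *ᵥ v'] i) = ![v, w] i := fun i => by
    rw [hgdef, Units.val_mul, ← mulVec_mulVec, ← hG, SLComm.gl_inv_mulVec, hG']
  have hX : cj g A *ᵥ v = w := by
    have h0 : g.1 *ᵥ v' = v := hmove 0
    have h1 : g.1 *ᵥ (A *ᵥ v') = w := hmove 1
    rw [← h0, cj_mulVec, h1]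
  have hAd : A.det ≠ 0 := by rw [hd]; exact mul_ne_zero hμ hν
  obtain ⟨T, hT⟩ : ∃ T, T = (cj g A)⁻¹ * B := ⟨_, rfl⟩
  have hTv : T *ᵥ v = μ • v := by
    rw [hT, ← mulVec_mulVec, hBw, mulVec_smul, inv_mulVec_eq (by rw [det_cj]; exact hAd) hX]
  have hTd : T.det = A.det := by
    rw [hT, det_mul, det_nonsing_inv, Ring.inverse_eq_inv', det_cj, hBd, sq, ← mul_assoc,
      inv_mul_cancel₀ hAd, one_mul]
  have hTt : T.trace = μ + ν := by
    have h := eval_charpoly_of_eigen hv hTv
    rw [charpoly_fin_two, hTd, hd] at h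
    simp only [eval_add, eval_sub, eval_pow, eval_X, eval_mul, eval_C] at h
    exact mul_right_cancel₀ hμ (by linear_combination -h)
  have hXT : cj g A * T = B := by
    rw [hT, ← Matrix.mul_assoc, Matrix.mul_nonsing_inv _ (isUnit_det_cj hAd g), Matrix.one_mul]
  by_cases hTs : IsSc T
  · obtain ⟨c, hc⟩ := hTs
    have hcμ : c = μ := by
      rw [hc, smul_mulVec, one_mulVec] at hTv
      exact smul_left_injective K hv hTv
    subst c
    have hμν : μ = ν := by
      rw [hc, trace_smul, trace_one, Fintype.card_fin, smul_eq_mul] at hTt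
      push_cast at hTt
      linear_combination hTt
    subst ν
    obtain ⟨N, hN⟩ : ∃ N, N = cj g A - μ • 1 := ⟨_, rfl⟩
    have hXN : cj g A = μ • 1 + N := by rw [hN, add_sub_cancel]
    have hN2 : N * N = 0 := by
      have h := aeval_self_charpoly (cj g A)
      rw [charpoly_fin_two, trace_cj, det_cj, ht, hd] at h
      simp only [map_add, map_sub, map_mul, map_pow, aeval_X, aeval_C,
        Algebra.algebraMap_eq_smul_one, smul_one_mul] at h
      rw [hN, ← h]
      simp only [sub_mul, mul_sub, add_mul, smul_mul_assoc, mul_smul_comm, one_mul, mul_one, sq, smul_sub,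
        smul_smul, add_smul]
      module
    have hXs : ¬ IsSc (cj g A) := fun h => hA ((isSc_cj_iff g).1 h)
    have hNtr : N.trace = 0 := by
      rw [hN, trace_sub, trace_cj, ht, trace_smul, trace_one, Fintype.card_fin, smul_eq_mul]
      push_cast
      ring
    have hfac : ∀ z : K, z ≠ 0 → Sim A (μ • 1 + z • N) := fun z hz => by
      refine sim_two h4 hA (fun ⟨a, ha⟩ => hXs ⟨μ + z⁻¹ * (a - μ), ?_⟩) ?_ ?_
      · rw [hXN, show N = z⁻¹ • (z • N) by rw [smul_smul, inv_mul_cancel₀ hz, one_smul],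
          show z • N = (a - μ) • 1 by rw [sub_smul, ← ha, add_sub_cancel_left], smul_smul, ← add_smul]
      · rw [ht, trace_add, trace_smul, trace_smul, hNtr, smul_zero, add_zero, trace_one,
          Fintype.card_fin, smul_eq_mul]
        push_cast
        ring
      · rw [hd]
        have h1 : (μ • (1 : Matrix (Fin 2) (Fin 2) K) + z • N).det =
            μ ^ 2 + μ * z * N.trace + z ^ 2 * N.det := by
          simp [det_fin_two, trace_fin_two]
          ring
        have h2 : N.det = 0 := by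
          have := congrArg Matrix.det hN2
          simpa [det_mul] using this
        rw [h1, hNtr, h2]
        ring
    obtain ⟨a, ha0, ha1, -⟩ := exists_avoid_two h4 1 1
    obtain ⟨g₁, hg₁⟩ := hfac a ha0
    obtain ⟨g₂, hg₂⟩ := hfac (1 - a) (sub_ne_zero.2 (Ne.symm ha1))
    refine ⟨![g₁, g₂], ?_, fun h => h.elim (fun h => absurd rfl h) fun h => absurd ?_ h⟩
    · rw [prodC_two, ← hg₁, ← hg₂, ← hXT, hc, hXN]
      simp only [add_mul, mul_add, smul_mul_assoc, mul_smul_comm, one_mul, mul_one, hN2, smul_zero,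
        smul_smul, add_zero]
      module
    · rw [← hXT, hc, Matrix.mul_smul, Matrix.mul_one, trace_smul, trace_cj, ht, smul_eq_mul]
      ring
  · obtain ⟨g', hg'⟩ := sim_two h4 hA hTs (ht.trans hTt.symm) hTd.symm
    refine ⟨![g, g'], by rw [prodC_two, ← hg', hXT], fun _ y hy => ?_⟩
    have h0 : cj g A *ᵥ y = μ • y := hy 0
    have h1 : T *ᵥ y = μ • y := hg' ▸ hy 1
    obtain ⟨t, rfl⟩ : ∃ t : K, y = t • v := by
      by_contra hall
      push Not at hall
      obtain ⟨H, _, hH⟩ := exists_gl_extend (n := 2) 0 2 rfl _ (indep_pair hv hall)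
      refine hTs ⟨μ, ?_⟩
      have hcol : (T - μ • 1) * H.1 = 0 := by
        refine ext_of_mulVec_single fun i => ?_
        rw [← mulVec_mulVec, zero_mulVec]
        have h2 : H.1 *ᵥ Pi.single i 1 = ![v, y] i := by
          have := hH i
          simpa using this
        rw [h2, sub_mulVec, smul_mulVec, one_mulVec, sub_eq_zero]
        fin_cases i
        · exact hTv
        · exact h1
      have h3 := congrArg (fun M => M * H⁻¹.1) hcol
      simp only [Matrix.mul_assoc, Units.mul_inv, Matrix.mul_one, Matrix.zero_mul] at h3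
      exact sub_eq_zero.1 h3
    by_contra hne
    have ht0 : t ≠ 0 := fun e => hne (by rw [e, zero_smul])
    rw [mulVec_smul, hX, smul_comm] at h0
    exact hw μ (smul_right_injective _ ht0 h0)

end Cfsg.Agent.LevCover
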