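/-
Covering number of PSL(n,q): conjugates of a matrix which is scalar plus rank one.
-/
import Cfsg.Agent.Lib.LevCover.Two

set_option autoImplicit false

namespace Cfsg.Agent.LevCover

open Polynomial Matrix Module
open Cfsg.Agent.SLComm (Cyc bord img eigen)

variable {K : Type*} [Field K] {n : ℕ}

/-- scalar plus rank at most one -/
def ro (σ : K) (a φ : Fin n → K) : Matrix (Fin n) (Fin n) K := σ • 1 + vecMulVec a φ

/-- scalar `κ` plus rank at most one -/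
def Low (κ : K) (B : Matrix (Fin n) (Fin n) K) : Prop := ∃ b ψ : Fin n → K, B = ro κ b ψ

theorem ro_mulVec (σ : K) (a φ x : Fin n → K) : ro σ a φ *ᵥ x = σ • x + (φ ⬝ᵥ x) • a := by
  rw [ro, add_mulVec, smul_mulVec, one_mulVec, vecMulVec_mulVec, op_smul_eq_smul]

theorem cj_ro (g : GL (Fin n) K) (σ : K) (a φ : Fin n → K) :
    cj g (ro σ a φ) = ro σ (g.1 *ᵥ a) (φ ᵥ* g⁻¹.1) := by
  have : cj g (vecMulVec a φ) = vecMulVec (g.1 *ᵥ a) (φ ᵥ* g⁻¹.1) := by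
    rw [cj, mul_vecMulVec, vecMulVec_mul]
  rw [ro, ro, ← this, cj, cj, Matrix.mul_add, Matrix.add_mul]
  congr 1
  exact cj_scalar g σ

theorem low_iff {κ : K} {B : Matrix (Fin n) (Fin n) K} :
    Low κ B ↔ finrank K (img (B - κ • (1 : Matrix (Fin n) (Fin n) K))) ≤ 1 := by
  constructor
  · rintro ⟨b, ψ, rfl⟩
    refine le_trans (Submodule.finrank_mono ?_) (SLComm.finrank_span_singleton_le b)
    rintro _ ⟨x, rfl⟩
    exact Submodule.mem_span_singleton.2 ⟨ψ ⬝ᵥ x, by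
      rw [mulVecLin_apply, sub_mulVec, ro_mulVec, smul_mulVec, one_mulVec, add_sub_cancel_left]⟩
  · intro h
    obtain ⟨b, ψ, hb⟩ := SLComm.exists_vecMulVec h
    exact ⟨b, ψ, by rw [ro, ← hb, add_sub_cancel]⟩

/-- a functional with prescribed values on two independent vectors -/
theorem exists_dual_two {v z : Fin n → K} (hv : v ≠ 0) (hz : ∀ a : K, z ≠ a • v) (c d : K) :
    ∃ φ : Fin n → K, φ ⬝ᵥ v = c ∧ φ ⬝ᵥ z = d := by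
  obtain ⟨p, hp, hp'⟩ := SLComm.exists_functional (p := Submodule.span K {v}) (x := z) fun h => by
    obtain ⟨a, ha⟩ := Submodule.mem_span_singleton.1 h
    exact hz a ha.symm
  obtain ⟨q, hq, hq'⟩ := SLComm.exists_functional (p := Submodule.span K {z}) (x := v) fun h => by
    obtain ⟨a, ha⟩ := Submodule.mem_span_singleton.1 h
    rcases eq_or_ne a 0 with rfl | ha0
    · exact hv (by rw [← ha, zero_smul])
    · exact hz a⁻¹ (by rw [← ha, smul_smul, inv_mul_cancel₀ ha0, one_smul])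
  have hpv := hp v (Submodule.mem_span_singleton_self v)
  have hqz := hq z (Submodule.mem_span_singleton_self z)
  refine ⟨(c / (q ⬝ᵥ v)) • q + (d / (p ⬝ᵥ z)) • p, ?_, ?_⟩
  · rw [add_dotProduct, smul_dotProduct, smul_dotProduct, hpv, smul_zero, add_zero, smul_eq_mul,
      div_mul_cancel₀ _ hq']
  · rw [add_dotProduct, smul_dotProduct, smul_dotProduct, hqz, smul_zero, zero_add, smul_eq_mul,
      div_mul_cancel₀ _ hp']

theorem vecMul_tvGL_inv {t h : Fin n → K} (hth : h ⬝ᵥ t = 0) (φ : Fin n → K) :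
    φ ᵥ* (tvGL t h hth)⁻¹.1 = φ - (φ ⬝ᵥ t) • h := by
  show φ ᵥ* (1 + vecMulVec (-t) h) = _
  rw [vecMul_add, vecMul_one, vecMul_vecMulVec, dotProduct_neg, neg_smul, sub_eq_add_neg]

/-- all rank one perturbations with the same value are conjugate by determinant one -/
theorem conj_ro (hn : 3 ≤ n) (σ : K) {a φ b φ' : Fin n → K} (ha : a ≠ 0) (hφ : φ ≠ 0)
    (hb : b ≠ 0) (hφ' : φ' ≠ 0) (he : φ ⬝ᵥ a = φ' ⬝ᵥ b) :
    ∃ g : GL (Fin n) K, g.1.det = 1 ∧ cj g (ro σ a φ) = ro σ b φ' := by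
  classical
  obtain ⟨g₁, hg₁, hg₁i⟩ := exists_move (u := fun _ : Fin 1 => a) (u' := fun _ : Fin 1 => b)
    (linearIndependent_unique_iff.2 ha) (linearIndependent_unique_iff.2 hb) (by omega)
  obtain ⟨ψ, hψ⟩ : ∃ ψ, ψ = φ ᵥ* g₁⁻¹.1 := ⟨_, rfl⟩
  have hψ0 : ψ ≠ 0 := hψ ▸ vecMul_inv_zero g₁⁻¹ φ hφ
  have hψb : ψ ⬝ᵥ b = φ' ⬝ᵥ b := by
    rw [← he, hψ, ← dotProduct_mulVec, ← hg₁i 0, SLComm.gl_inv_mulVec]
  have step : ∀ χ χ' : Fin n → K, χ ⬝ᵥ b = χ' ⬝ᵥ b →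
      (∃ t, χ ⬝ᵥ t ≠ 0 ∧ χ' ⬝ᵥ t = χ ⬝ᵥ t) →
      ∃ h : GL (Fin n) K, h.1.det = 1 ∧ h.1 *ᵥ b = b ∧ χ ᵥ* h⁻¹.1 = χ' := by
    rintro χ χ' hb' ⟨t, ht, ht'⟩
    have hη : ((χ ⬝ᵥ t)⁻¹ • (χ - χ')) ⬝ᵥ t = 0 := by
      rw [smul_dotProduct, sub_dotProduct, ht', sub_self, smul_zero]
    refine ⟨tvGL t _ hη, det_tvGL _ _ _, ?_, ?_⟩
    · rw [tvGL_mulVec, smul_dotProduct, sub_dotProduct, hb', sub_self, smul_zero, zero_smul, add_zero]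
    · rw [vecMul_tvGL_inv, smul_smul, mul_inv_cancel₀ ht, one_smul, sub_sub_cancel]
  have indep : ∀ χ χ' : Fin n → K, χ ≠ 0 → (∀ s : K, χ' ≠ s • χ) →
      ∃ t, χ ⬝ᵥ t ≠ 0 ∧ χ' ⬝ᵥ t = χ ⬝ᵥ t := by
    intro χ χ' h0 hi
    obtain ⟨t, h1, h2⟩ := exists_dual_two h0 hi (1 : K) 1
    exact ⟨t, by rw [dotProduct_comm, h1]; exact one_ne_zero, by
      rw [dotProduct_comm, h2, dotProduct_comm, h1]⟩
  obtain ⟨h, hh, hhb, hhψ⟩ : ∃ h : GL (Fin n) K, h.1.det = 1 ∧ h.1 *ᵥ b = b ∧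
      ψ ᵥ* h⁻¹.1 = φ' := by
    by_cases hi : ∀ s : K, φ' ≠ s • ψ
    · exact step ψ φ' hψb (indep ψ φ' hψ0 hi)
    push Not at hi
    obtain ⟨s, rfl⟩ := hi
    by_cases hs : s = 1
    · subst hs
      exact ⟨1, by simp, by simp, by simp⟩
    have h0 : ψ ⬝ᵥ b = 0 := by
      rw [smul_dotProduct, smul_eq_mul] at hψb
      by_contra h0
      exact hs ((mul_eq_right₀ h0).1 hψb.symm)
    obtain ⟨χ, hχ, hχ'⟩ : ∃ χ : Fin n → K, χ ⬝ᵥ b = 0 ∧ χ ∉ Submodule.span K {ψ} := by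
      by_contra hall
      push Not at hall
      have hle : LinearMap.ker (SLComm.dotL b) ≤ Submodule.span K {ψ} := fun χ hχ =>
        hall χ (by rw [dotProduct_comm]; exact SLComm.mem_ker_dotL.1 hχ)
      have h1 := le_trans (Submodule.finrank_mono hle) (SLComm.finrank_span_singleton_le ψ)
      have h2 := LinearMap.finrank_range_add_finrank_ker (SLComm.dotL b)
      rw [finrank_fin_fun] at h2
      have h3 : finrank K (LinearMap.range (SLComm.dotL b)) ≤ 1 :=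
        le_trans (Submodule.finrank_le _) (by rw [finrank_self])
      omega
    have hχψ : ∀ s : K, χ ≠ s • ψ := fun s e => hχ' (Submodule.mem_span_singleton.2 ⟨s, e.symm⟩)
    have hχ0 : χ ≠ 0 := fun e => hχψ 0 (by rw [e, zero_smul])
    obtain ⟨h₁, e₁, e₁b, e₁ψ⟩ := step ψ χ (by rw [h0, hχ]) (indep ψ χ hψ0 hχψ)
    obtain ⟨h₂, e₂, e₂b, e₂ψ⟩ := step χ (s • ψ) (by rw [hχ, smul_dotProduct, h0, smul_zero])
      (indep χ (s • ψ) hχ0 fun t e => by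
        rcases eq_or_ne t 0 with rfl | ht
        · exact hφ' (by rw [e, zero_smul])
        · exact hχψ (t⁻¹ * s) (by rw [← smul_smul, e, smul_smul, inv_mul_cancel₀ ht, one_smul]))
    refine ⟨h₂ * h₁, by rw [det_mul_gl, e₁, e₂, mul_one],
      by rw [Units.val_mul, ← mulVec_mulVec, e₁b, e₂b], ?_⟩
    rw [_root_.mul_inv_rev, Units.val_mul, ← vecMul_vecMul, e₁ψ, e₂ψ]
  refine ⟨h * g₁, by rw [det_mul_gl, hh, hg₁, mul_one], ?_⟩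
  rw [← cj_cj, cj_ro, cj_ro, hg₁i 0, hhb, ← hψ, hhψ]

theorem ro_mul_ro (σ κ : K) (b φ Ψ : Fin n → K) :
    ro σ b φ * ro κ b Ψ = ro (σ * κ) b (κ • φ + (σ + φ ⬝ᵥ b) • Ψ) := by
  simp only [ro, Matrix.add_mul, Matrix.mul_add, smul_mul_assoc, mul_smul_comm, Matrix.one_mul,
    Matrix.mul_one, vecMulVec_mul_vecMulVec, vecMulVec_add, smul_smul, vecMulVec_smul,
    Matrix.smul_mul, Matrix.mul_smul]
  module

theorem det_ro (σ : K) (hσ : σ ≠ 0) (a φ : Fin n → K) :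
    (ro σ a φ).det = σ ^ n * (1 + σ⁻¹ * (φ ⬝ᵥ a)) := by
  have : ro σ a φ = σ • (1 + vecMulVec (σ⁻¹ • a) φ) := by
    rw [ro, smul_add, smul_vecMulVec, smul_smul, mul_inv_cancel₀ hσ, one_smul]
  rw [this, det_smul, Fintype.card_fin, vecMulVec_eq Unit, det_one_add_replicateCol_mul_replicateRow,
    dotProduct_smul, smul_eq_mul]

theorem ro_value {σ κ : K} (hn : 1 ≤ n) (hσ : σ ≠ 0) {a φ b Ψ : Fin n → K} {k : ℕ}
    (hκ : κ = σ ^ k) (h : (ro κ b Ψ).det = (ro σ a φ).det ^ k) :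
    Ψ ⬝ᵥ b = (σ + φ ⬝ᵥ a) ^ k - σ ^ k := by
  rw [det_ro κ (hκ ▸ pow_ne_zero _ hσ), det_ro σ hσ, mul_pow] at h
  rw [show (σ ^ n) ^ k = κ ^ n by rw [hκ, ← pow_mul, ← pow_mul, mul_comm]] at h
  have h1 := mul_left_cancel₀ (pow_ne_zero n (hκ ▸ pow_ne_zero k hσ : κ ≠ 0)) h
  have h3 : (σ + φ ⬝ᵥ a) ^ k = κ * (1 + σ⁻¹ * (φ ⬝ᵥ a)) ^ k := by
    rw [hκ, ← mul_pow]
    field_simp
  rw [h3, ← h1, ← hκ]
  field_simp [hκ, hσ]
  ring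

variable [Fintype K]

theorem ro_prod_aux (hn : 3 ≤ n) (h4 : 4 ≤ Fintype.card K) {σ : K} (hσ : σ ≠ 0)
    {a φ : Fin n → K} (ha : a ≠ 0) (hφ : φ ≠ 0) (hl : σ + φ ⬝ᵥ a ≠ 0) {b : Fin n → K} (hb : b ≠ 0) :
    ∀ (k : ℕ) (Ψ : Fin n → K), 1 ≤ k → Ψ ⬝ᵥ b = (σ + φ ⬝ᵥ a) ^ k - σ ^ k → (k = 1 → Ψ ≠ 0) →
      SP (ro σ a φ) k (ro (σ ^ k) b Ψ) noV := by
  intro k
  induction k with
  | zero => intro Ψ h; exact absurd h (by omega)
  | succ k ih =>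
    intro Ψ _ hΨ hne
    rcases Nat.eq_zero_or_pos k with rfl | hk
    · obtain ⟨g, hg, hgc⟩ := conj_ro hn σ ha hφ hb (hne rfl) (by simp [hΨ])
      exact ⟨fun _ => g, fun _ => hg, by simp [prodC, hgc], fun _ h => h.elim⟩
    obtain ⟨ℓ, hℓ⟩ : ∃ ℓ, ℓ = σ + φ ⬝ᵥ a := ⟨_, rfl⟩
    obtain ⟨φ₀, hφ₀, hφ₀ne, hφ₀'⟩ : ∃ φ₀ : Fin n → K, φ₀ ⬝ᵥ b = φ ⬝ᵥ a ∧ φ₀ ≠ 0 ∧
        σ ^ k • φ₀ ≠ Ψ := by
      obtain ⟨z, -, hz⟩ := SetLike.exists_of_lt (SLComm.ne_top_of_finrank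
        (p := Submodule.span K {b})
        (lt_of_le_of_lt (SLComm.finrank_span_singleton_le b) (by omega))).lt_top
      have hzb : ∀ a : K, z ≠ a • b := fun t e => hz (Submodule.mem_span_singleton.2 ⟨t, e.symm⟩)
      obtain ⟨t, ht0, ht1, -⟩ := exists_avoid_two h4 ((σ ^ k)⁻¹ * (Ψ ⬝ᵥ z)) 0
      obtain ⟨φ₀, h1, h2⟩ := exists_dual_two hb hzb (φ ⬝ᵥ a) t
      refine ⟨φ₀, h1, fun e => ht0 (by rw [← h2, e, zero_dotProduct]), fun e => ht1 ?_⟩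
      rw [← h2, ← e, smul_dotProduct, smul_eq_mul, ← mul_assoc,
        inv_mul_cancel₀ (pow_ne_zero k hσ), one_mul]
    obtain ⟨Ψ', hΨ'⟩ : ∃ Ψ', Ψ' = ℓ⁻¹ • (Ψ - σ ^ k • φ₀) := ⟨_, rfl⟩
    obtain ⟨g', hg', hp', -⟩ := ih Ψ' hk (by
      rw [hΨ', smul_dotProduct, sub_dotProduct, smul_dotProduct, hΨ, hφ₀, smul_eq_mul, smul_eq_mul,
        inv_mul_eq_iff_eq_mul₀ (hℓ ▸ hl), hℓ]
      ring) fun _ => by
      rw [hΨ']
      exact smul_ne_zero (inv_ne_zero (hℓ ▸ hl)) (sub_ne_zero.2 (Ne.symm hφ₀'))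
    obtain ⟨g, hg, hgc⟩ := conj_ro hn σ ha hφ hb hφ₀ne hφ₀.symm
    refine ⟨Fin.cons g g', Fin.cases hg hg', ?_, fun _ h => h.elim⟩
    rw [prodC_cons, hp', hgc, ro_mul_ro, pow_succ', hφ₀, ← hℓ, hΨ', smul_smul,
      mul_inv_cancel₀ (hℓ ▸ hl), one_smul, add_sub_cancel]

/-- rank one times rank one -/
theorem ro_prod (hn : 3 ≤ n) (h4 : 4 ≤ Fintype.card K) {σ : K} (hσ : σ ≠ 0)
    {a φ : Fin n → K} (ha : a ≠ 0) (hφ : φ ≠ 0) (hl : σ + φ ⬝ᵥ a ≠ 0) {b Ψ : Fin n → K} (hb : b ≠ 0)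
    {k : ℕ} (hk : 2 ≤ k) (hd : (ro (σ ^ k) b Ψ).det = (ro σ a φ).det ^ k) :
    SP (ro σ a φ) k (ro (σ ^ k) b Ψ) noV :=
  ro_prod_aux hn h4 hσ ha hφ hl hb k Ψ (by omega) (ro_value (by omega) hσ rfl hd) (by omega)

end Cfsg.Agent.LevCover
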