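/-
Covering number of PSL(n,q): the step from dimension four to dimension three.
-/
import Cfsg.Agent.Lib.LevCover.RankOne

set_option autoImplicit false

namespace Cfsg.Agent.LevCover

open Polynomial Matrix Module
open Cfsg.Agent.SLComm (Cyc bord img eigen)

variable {K : Type*} [Field K] {n : ℕ}

/-- no scalar plus rank one -/
def Rich (A : Matrix (Fin n) (Fin n) K) : Prop := ∀ κ : K, ¬ Low κ A

theorem Rich.not_isSc {A : Matrix (Fin n) (Fin n) K} (h : Rich A) : ¬ IsSc A := fun ⟨a, ha⟩ =>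
  h a ⟨0, 0, by rw [ro, vecMulVec_zero, add_zero, ha]⟩

/-- three independent iterates in the quotient -/
theorem deg3_of_quot {T : Matrix (Fin (n + 1)) (Fin (n + 1)) K} {Q : GL (Fin (n + 1)) K} {ρ : K}
    {r : Fin n → K} {Φ : Matrix (Fin n) (Fin n) K} (h : cj Q⁻¹ T = bord ρ r 0 Φ)
    {v : Fin (n + 1) → K} (h0 : Q.1 *ᵥ vecCons 1 0 = v) {y : Fin (n + 1) → K}
    (hy : y ∉ Submodule.span K {v}) (h1 : T *ᵥ y ∉ Submodule.span K {v, y})
    (h2 : T *ᵥ (T *ᵥ y) ∉ Submodule.span K {v, y, T *ᵥ y}) : Deg3 Φ := by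
  refine ⟨vecTail (Q⁻¹.1 *ᵥ y), fun e => hy ?_, fun a ha => h1 ?_, fun hm => h2 ?_⟩
  · exact Submodule.mem_span_singleton.2 ⟨_, (of_tail_zero h0 e).symm⟩
  · rw [← quot_apply h] at ha
    have e : vecTail (Q⁻¹.1 *ᵥ (T *ᵥ y - a • y)) = 0 := by
      rw [mulVec_sub, mulVec_smul]
      ext i
      have := congrFun ha i
      simp only [vecTail, Function.comp_apply, Pi.sub_apply, Pi.smul_apply, Pi.zero_apply] at this ⊢
      rw [this, sub_self]
    refine Submodule.mem_span_pair.2 ⟨vecHead (Q⁻¹.1 *ᵥ (T *ᵥ y - a • y)), a, ?_⟩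
    rw [← of_tail_zero h0 e, sub_add_cancel]
  · rw [← quot_apply h, ← quot_apply h] at hm
    obtain ⟨p, q, hpq⟩ := Submodule.mem_span_pair.1 hm
    have e : vecTail (Q⁻¹.1 *ᵥ (T *ᵥ (T *ᵥ y) - p • y - q • (T *ᵥ y))) = 0 := by
      rw [mulVec_sub, mulVec_sub, mulVec_smul, mulVec_smul]
      ext i
      have := congrFun hpq i
      simp only [vecTail, Function.comp_apply, Pi.sub_apply, Pi.add_apply, Pi.smul_apply,
        Pi.zero_apply] at this ⊢
      rw [← this]; ring
    have e' := of_tail_zero h0 e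
    refine Submodule.mem_span_triple.2
      ⟨vecHead (Q⁻¹.1 *ᵥ (T *ᵥ (T *ᵥ y) - p • y - q • (T *ᵥ y))), p, q, ?_⟩
    rw [← e']
    abel

theorem finrank_triple_le (x y z : Fin n → K) :
    finrank K (Submodule.span K ({x, y, z} : Set (Fin n → K))) ≤ 3 := by
  rw [Submodule.span_insert, Submodule.span_insert]
  exact le_trans (SLComm.finrank_sup_le _ _)
    (add_le_add (SLComm.finrank_span_singleton_le x) (SLComm.finrank_pair_le y z))

variable [Fintype K]

/-- rank two images do not contain the chosen vector -/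
theorem exists_noneig_off (h4 : 4 ≤ Fintype.card K) {A : Matrix (Fin 4) (Fin 4) K}
    (hA : ¬ IsSc A) :
    ∃ v : Fin 4 → K, v ≠ 0 ∧ (∀ a : K, A *ᵥ v ≠ a • v) ∧
      ∀ σ : K, finrank K (img (A - σ • (1 : Matrix (Fin 4) (Fin 4) K))) = 2 →
        v ∉ img (A - σ • (1 : Matrix (Fin 4) (Fin 4) K)) := by
  classical
  obtain ⟨S, hS⟩ : ∃ S : Finset K, S = Finset.univ.filter fun σ =>
      finrank K (img (A - σ • (1 : Matrix (Fin 4) (Fin 4) K))) = 2 := ⟨_, rfl⟩
  have hker : ∀ σ ∈ S, finrank K (eigen A σ) = 2 := by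
    intro σ hσ
    rw [hS, Finset.mem_filter] at hσ
    have h := LinearMap.finrank_range_add_finrank_ker (A - σ • (1 : Matrix (Fin 4) (Fin 4) K)).mulVecLin
    rw [finrank_fin_fun] at h
    change finrank K (img (A - σ • (1 : Matrix (Fin 4) (Fin 4) K))) + finrank K (eigen A σ) = 4 at h
    omega
  have hcard : S.card ≤ 2 := by
    by_contra hlt
    obtain ⟨a, b, c, ha, hb, hc, hab, hac, hbc⟩ := Finset.two_lt_card_iff.1 (Nat.lt_of_not_le hlt)
    have d1 := SLComm.eigen_disjoint (N := A) hab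
    have h1 : eigen A a ⊔ eigen A b = ⊤ := by
      refine Submodule.eq_top_of_finrank_eq ?_
      have h := Submodule.finrank_sup_add_finrank_inf_eq (eigen A a) (eigen A b)
      rw [d1, finrank_bot, hker a ha, hker b hb] at h
      rw [finrank_fin_fun]
      omega
    have h2 : eigen A c = ⊥ := by
      refine (Submodule.eq_bot_iff _).2 fun x hx => ?_
      obtain ⟨p, hp, q, hq, rfl⟩ := Submodule.mem_sup.1 (h1.symm ▸ Submodule.mem_top :
        x ∈ eigen A a ⊔ eigen A b)
      have hx' := SLComm.mem_eigen.1 hx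
      have hp' := SLComm.mem_eigen.1 hp
      have hq' := SLComm.mem_eigen.1 hq
      rw [mulVec_add, hp', hq'] at hx'
      have h3 : (a - c) • p = (c - b) • q := by linear_combination (norm := module) hx'
      have hp0 : (a - c) • p = 0 := by
        have hm : (a - c) • p ∈ eigen A a ⊓ eigen A b :=
          ⟨Submodule.smul_mem _ _ hp, h3 ▸ Submodule.smul_mem _ _ hq⟩
        rw [d1] at hm
        exact (Submodule.mem_bot K).1 hm
      rw [hp0, eq_comm, smul_eq_zero, sub_eq_zero] at h3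
      rw [smul_eq_zero, sub_eq_zero] at hp0
      rw [hp0.resolve_left hac, h3.resolve_left (Ne.symm hbc), add_zero]
    have := hker c hc
    rw [h2, finrank_bot] at this
    omega
  obtain ⟨v, hvL, hv, hAv⟩ := exists_noneig hA Finset.univ
    (S.toList.map fun σ => img (A - σ • (1 : Matrix (Fin 4) (Fin 4) K)))
    (by simp [Finset.card_univ]; omega)
    (fun p hp => by
      obtain ⟨σ, hσ, rfl⟩ := List.mem_map.1 hp
      rw [Finset.mem_toList, hS, Finset.mem_filter] at hσ
      intro h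
      rw [h, finrank_top, finrank_fin_fun] at hσ
      omega) (by omega)
  refine ⟨v, hv, hAv, fun σ hσ => hvL _ (List.mem_map.2 ⟨σ, ?_, rfl⟩)⟩
  rw [Finset.mem_toList, hS, Finset.mem_filter]
  exact ⟨Finset.mem_univ _, hσ⟩

/-- the second vector of a pair, off the plane -/
theorem exists_second (A : Matrix (Fin 4) (Fin 4) K)
    {v : Fin 4 → K} (hv : v ≠ 0) (hAv : ∀ a : K, A *ᵥ v ≠ a • v)
    (hvoff : ∀ σ : K, finrank K (img (A - σ • (1 : Matrix (Fin 4) (Fin 4) K))) = 2 →
      v ∉ img (A - σ • (1 : Matrix (Fin 4) (Fin 4) K))) (hA : Rich A) :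
    ∃ z, z ∉ Submodule.span K {v, A *ᵥ v} ∧ A *ᵥ z ∉ Submodule.span K {v, A *ᵥ v, z} := by
  obtain ⟨W, hW⟩ : ∃ W, W = Submodule.span K {v, A *ᵥ v} := ⟨_, rfl⟩
  by_contra hall
  push Not at hall
  rw [← hW] at hall
  have hdW : finrank K W = 2 := by
    rw [hW, show ({v, A *ᵥ v} : Set (Fin 4 → K)) = Set.range ![v, A *ᵥ v] by simp [Set.pair_comm],
      finrank_span_eq_card (indep_pair hv hAv), Fintype.card_fin]
  -- every vector is an eigenvector modulo `W`
  have h1 : ∀ z ∉ W, ∃ s : K, A *ᵥ z - s • z ∈ W := fun z hz => by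
    obtain ⟨a, b, c, h⟩ := Submodule.mem_span_triple.1 (hall z hz)
    refine ⟨c, ?_⟩
    rw [← h, add_sub_cancel_right, hW]
    exact Submodule.mem_span_pair.2 ⟨a, b, rfl⟩
  obtain ⟨z₀, -, hz₀⟩ := SetLike.exists_of_lt (SLComm.ne_top_of_finrank (p := W) (by omega)).lt_top
  obtain ⟨σ, hσ⟩ := h1 z₀ hz₀
  have hWz : W ⊔ Submodule.span K {z₀} ≠ ⊤ := SLComm.ne_top_of_finrank (by
    have := SLComm.finrank_sup_le W (Submodule.span K {z₀})
    have := SLComm.finrank_span_singleton_le (K := K) z₀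
    omega)
  have hout : ∀ z, z ∉ W ⊔ Submodule.span K {z₀} → A *ᵥ z - σ • z ∈ W := by
    intro z hz
    have hzW : z ∉ W := fun h => hz (Submodule.mem_sup_left h)
    obtain ⟨s, hs⟩ := h1 z hzW
    have hzz : z + z₀ ∉ W := fun h => hz (by
      rw [← add_sub_cancel_right z z₀]
      exact Submodule.sub_mem _ (Submodule.mem_sup_left h)
        (Submodule.mem_sup_right (Submodule.mem_span_singleton_self z₀)))
    obtain ⟨t, ht⟩ := h1 (z + z₀) hzz
    have h3 : (t - s) • z + (t - σ) • z₀ ∈ W := by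
      have := Submodule.sub_mem _ (Submodule.add_mem _ hs hσ) ht
      rw [mulVec_add] at this
      convert this using 1
      module
    have h4' : t = s := by
      by_contra hts
      refine hz ((Submodule.smul_mem_iff _ (sub_ne_zero.2 hts)).1 ?_)
      rw [← add_sub_cancel_right ((t - s) • z) ((t - σ) • z₀)]
      exact Submodule.sub_mem _ (Submodule.mem_sup_left h3)
        (Submodule.mem_sup_right (Submodule.smul_mem _ _ (Submodule.mem_span_singleton_self z₀)))
    rw [h4', sub_self, zero_smul, zero_add] at h3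
    have h5 : s = σ := by
      by_contra hsσ
      exact hz₀ ((Submodule.smul_mem_iff _ (sub_ne_zero.2 hsσ)).1 h3)
    rwa [h5] at hs
  obtain ⟨z₁, -, hz₁⟩ := SetLike.exists_of_lt hWz.lt_top
  have hin : img (A - σ • (1 : Matrix (Fin 4) (Fin 4) K)) ≤ W := by
    rintro _ ⟨x, rfl⟩
    rw [mulVecLin_apply, sub_mulVec, smul_mulVec, one_mulVec]
    by_cases hx : x ∈ W ⊔ Submodule.span K {z₀}
    · have hx' : x + z₁ ∉ W ⊔ Submodule.span K {z₀} := fun h =>
        hz₁ ((Submodule.add_mem_iff_right _ hx).1 h)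
      have := Submodule.sub_mem _ (hout _ hx') (hout _ hz₁)
      rw [mulVec_add] at this
      convert this using 1
      module
    · exact hout x hx
  have hrk : finrank K (img (A - σ • (1 : Matrix (Fin 4) (Fin 4) K))) = 2 := by
    have h1' := hA σ
    rw [low_iff] at h1'
    have h2' := Submodule.finrank_mono hin
    omega
  refine hvoff σ hrk ?_
  rw [Submodule.eq_of_le_of_finrank_eq hin (by rw [hrk, hdW]), hW]
  exact Submodule.subset_span (by simp)

theorem indep_four {v w z u : Fin 4 → K} (hv : v ≠ 0) (hw : ∀ a : K, w ≠ a • v)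
    (hz : z ∉ Submodule.span K {v, w}) (hu : u ∉ Submodule.span K {v, w, z}) :
    LinearIndependent K ![v, w, z, u] := by
  have h3 : LinearIndependent K ![v, w, z] := by
    have : (![v, w, z] : Fin 3 → Fin 4 → K) = Fin.snoc ![v, w] z := by
      funext i; fin_cases i <;> rfl
    rw [this]
    refine linearIndependent_finSnoc.2 ⟨indep_pair hv hw, ?_⟩
    rwa [show Set.range ![v, w] = {v, w} by simp [Set.pair_comm]]
  have : (![v, w, z, u] : Fin 4 → Fin 4 → K) = Fin.snoc ![v, w, z] u := by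
    funext i; fin_cases i <;> rfl
  rw [this]
  refine linearIndependent_finSnoc.2 ⟨h3, ?_⟩
  rwa [show Set.range ![v, w, z] = {v, w, z} by
    ext x; simp [Matrix.range_cons]; tauto]

/-- a frame through four vectors -/
theorem exists_frame_four {v w z u : Fin 4 → K} (h : LinearIndependent K ![v, w, z, u]) :
    ∃ G : GL (Fin 4) K, ∀ x : Fin 4 → K,
      G.1 *ᵥ x = x 0 • v + x 1 • w + x 2 • z + x 3 • u := by
  obtain ⟨G, _, hG⟩ := exists_gl_extend (n := 4) 0 4 rfl _ h
  refine ⟨G, fun x => ?_⟩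
  have hx : x = ∑ i, x i • (Pi.single i (1 : K) : Fin 4 → K) := by
    funext j; simp [Finset.sum_apply, Pi.single_apply]
  conv_lhs => rw [hx, mulVec_sum, Fin.sum_univ_four, mulVec_smul, mulVec_smul, mulVec_smul, mulVec_smul]
  have e : ∀ i : Fin 4, G.1 *ᵥ Pi.single i 1 = ![v, w, z, u] i := fun i => by simpa using hG i
  simp [e]

/-- from four to three: a quotient with three independent iterates -/
theorem exists_step_deg3 (h4 : 4 ≤ Fintype.card K) {A B : Matrix (Fin 4) (Fin 4) K}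
    (hA : Rich A) (hAd : A.det ≠ 0) (hB : ¬ IsSc B) (hBd : B.det ≠ 0) {ρ : K} (hρ : ρ ≠ 0) :
    ∃ Φ : Matrix (Fin 3) (Fin 3) K, Nonempty (Step A B ρ Φ) ∧ Deg3 Φ := by
  -- the model side
  obtain ⟨v', hv', hAv, hoffA⟩ := exists_noneig_off h4 hA.not_isSc
  obtain ⟨z', hz', hAz⟩ := exists_second A hv' hAv hoffA hA
  obtain ⟨G', hG'⟩ := exists_frame_four (indep_four hv' hAv hz' hAz)
  obtain ⟨α, hα⟩ : ∃ α : Fin 4 → K, α = G'⁻¹.1 *ᵥ (A⁻¹ *ᵥ z') := ⟨_, rfl⟩
  have hAA : ∀ x, A *ᵥ (A⁻¹ *ᵥ x) = x := fun x => by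
    rw [mulVec_mulVec, Matrix.mul_nonsing_inv _ (isUnit_iff_ne_zero.2 hAd), one_mulVec]
  have hα24 : α 3 = 0 → α 1 ≠ 0 := by
    intro h3 h1
    have e : A⁻¹ *ᵥ z' = α 0 • v' + α 2 • z' := by
      rw [← gl_mulVec_inv G' (A⁻¹ *ᵥ z'), ← hα, hG', h1, h3]
      module
    have e' := congrArg (fun x => A *ᵥ x) e
    simp only [hAA, mulVec_add, mulVec_smul] at e'
    rcases eq_or_ne (α 2) 0 with h2 | h2
    · rw [h2, zero_smul, add_zero] at e'
      exact hz' (Submodule.mem_span_pair.2 ⟨0, α 0, by rw [e', zero_smul, zero_add]⟩)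
    · refine hAz (Submodule.mem_span_triple.2 ⟨0, -((α 2)⁻¹ * α 0), (α 2)⁻¹, ?_⟩)
      conv_lhs => rw [e']
      rw [smul_add, smul_smul, smul_smul, inv_mul_cancel₀ h2]
      module
  -- the target side
  obtain ⟨v, hv, hBv, hoffB⟩ := exists_noneig_off h4 hB
  obtain ⟨w, hw'⟩ : ∃ w, w = ρ⁻¹ • (B *ᵥ v) := ⟨_, rfl⟩
  have hBw : B *ᵥ v = ρ • w := by rw [hw', smul_smul, mul_inv_cancel₀ hρ, one_smul]
  have hw : ∀ t : K, w ≠ t • v := fun t ht => hBv (ρ * t) (by rw [hBw, ht, smul_smul])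
  have hspan : Submodule.span K {v, B *ᵥ v} = Submodule.span K {v, w} := by
    apply le_antisymm <;> rw [Submodule.span_le, Set.insert_subset_iff, Set.singleton_subset_iff]
    · exact ⟨Submodule.subset_span (by simp), Submodule.mem_span_pair.2 ⟨0, ρ, by rw [hBw]; simp⟩⟩
    · exact ⟨Submodule.subset_span (by simp), Submodule.mem_span_pair.2 ⟨0, ρ⁻¹, by rw [hw']; simp⟩⟩
  -- it suffices to give a suitable frame
  suffices hsuff : ∃ (G : GL (Fin 4) K) (z u y : Fin 4 → K), G.1.det = G'.1.det ∧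
      (∀ x : Fin 4 → K, G.1 *ᵥ x = x 0 • v + x 1 • w + x 2 • z + x 3 • u) ∧
      B *ᵥ y = u ∧ y ∉ Submodule.span K {v} ∧ z ∉ Submodule.span K {v, y} ∧
      ∀ X : Matrix (Fin 4) (Fin 4) K, X.det ≠ 0 → X *ᵥ v = w → X *ᵥ z = u →
        X⁻¹ *ᵥ z = G.1 *ᵥ α → X⁻¹ *ᵥ (B *ᵥ z) ∉ Submodule.span K {v, y, z} by
    obtain ⟨G, z, u, y, hdet, hG, hBy, hy1, hy2, hy3⟩ := hsuff
    obtain ⟨g, hg⟩ : ∃ g, g = G * G'⁻¹ := ⟨_, rfl⟩
    have hgd : g.1.det = 1 := by
      rw [hg, det_mul_gl, det_gl_inv, hdet, mul_inv_cancel₀ (gl_det_ne G')]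
    have hgG : ∀ x, g.1 *ᵥ (G'.1 *ᵥ x) = G.1 *ᵥ x := fun x => by
      rw [hg, Units.val_mul, ← mulVec_mulVec, SLComm.gl_inv_mulVec]
    have f0 : g.1 *ᵥ v' = v := by simpa [hG, hG'] using hgG (Pi.single 0 1)
    have f1 : g.1 *ᵥ (A *ᵥ v') = w := by simpa [hG, hG'] using hgG (Pi.single 1 1)
    have f2 : g.1 *ᵥ z' = z := by simpa [hG, hG'] using hgG (Pi.single 2 1)
    have f3 : g.1 *ᵥ (A *ᵥ z') = u := by simpa [hG, hG'] using hgG (Pi.single 3 1)
    have hXd : (cj g A).det ≠ 0 := by rw [det_cj]; exact hAd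
    have hXv : cj g A *ᵥ v = w := by rw [← f0, cj_mulVec, f1]
    have hXz : cj g A *ᵥ z = u := by rw [← f2, cj_mulVec, f3]
    have hXiz : (cj g A)⁻¹ *ᵥ z = G.1 *ᵥ α := by
      refine inv_mulVec_eq hXd ?_
      rw [← hgG α, cj_mulVec, hα, gl_mulVec_inv, hAA, f2]
    obtain ⟨Φ, s, hsg, hsv, -⟩ := exists_step_of (by omega) hAd hρ hgd hv hw hBw hXv
    have hTy : ((cj s.gX A)⁻¹ * B) *ᵥ y = z := by
      rw [hsg, ← mulVec_mulVec, hBy, inv_mulVec_eq hXd hXz]
    refine ⟨Φ, ⟨s⟩, deg3_of_quot s.hT s.hQ0 (hsv ▸ hy1) ?_ ?_⟩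
    · rw [hTy, hsv]; exact hy2
    · rw [hTy, hsv, hsg, ← mulVec_mulVec]
      exact hy3 _ hXd hXv hXz hXiz
  by_cases hlow : ∃ κ : K, Low κ B
  · obtain ⟨σ, b, ψ, rfl⟩ := hlow
    have hψv : ψ ⬝ᵥ v ≠ 0 := fun h => hBv σ (by rw [ro_mulVec, h, zero_smul, add_zero])
    have hσ : σ ≠ 0 := by
      rintro rfl
      obtain ⟨x, hx, hx1, -⟩ := exists_perp (v := ψ) (w := ψ) (n := 4) (by omega)
      refine hBd (Matrix.exists_mulVec_eq_zero_iff.1 ⟨x, hx, ?_⟩)
      rw [ro_mulVec, dotProduct_comm, hx1]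
      simp
    obtain ⟨z₀, hz₀ψ, hz₀⟩ : ∃ z, ψ ⬝ᵥ z = 0 ∧ z ∉ Submodule.span K {v, w} := by
      by_contra hall
      push Not at hall
      have hle : LinearMap.ker (SLComm.dotL ψ) ≤ Submodule.span K {v} ⊔ Submodule.span K {w} :=
        fun x hx => by
          rw [← Submodule.span_union, Set.singleton_union]
          exact hall x (SLComm.mem_ker_dotL.1 hx)
      have h1 := le_trans (Submodule.finrank_mono hle) (SLComm.finrank_pair_le v w)
      have h2 := LinearMap.finrank_range_add_finrank_ker (SLComm.dotL ψ)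
      rw [finrank_fin_fun] at h2
      have h3 : finrank K (LinearMap.range (SLComm.dotL ψ)) ≤ 1 :=
        le_trans (Submodule.finrank_le _) (by rw [finrank_self])
      omega
    obtain ⟨l, hl⟩ : ∃ l : K, α 1 + l * α 3 ≠ 0 := by
      by_cases h1 : α 1 = 0
      · exact ⟨1, by rw [h1, zero_add, one_mul]; exact fun h3 => hα24 h3 h1⟩
      · exact ⟨0, by simpa using h1⟩
    obtain ⟨y, hy, hyψ⟩ : ∃ y, y ∉ Submodule.span K {v, w, z₀} ∧
        ψ ⬝ᵥ y = l * (ψ ⬝ᵥ v) / ρ := by
      obtain ⟨x, -, hx⟩ := SetLike.exists_of_lt (SLComm.ne_top_of_finrank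
        (p := Submodule.span K {v, w, z₀}) (by
          exact lt_of_le_of_lt (finrank_triple_le v w _) (by omega))).lt_top
      refine ⟨x + (((l * (ψ ⬝ᵥ v) / ρ) - ψ ⬝ᵥ x) / (ψ ⬝ᵥ v)) • v, fun h => hx ?_, ?_⟩
      · have := Submodule.sub_mem _ h (Submodule.smul_mem _
          (((l * (ψ ⬝ᵥ v) / ρ) - ψ ⬝ᵥ x) / (ψ ⬝ᵥ v))
          (Submodule.subset_span (show v ∈ ({v, w, z₀} : Set (Fin 4 → K)) by simp)))
        rwa [add_sub_cancel_right] at this
      · rw [dotProduct_add, dotProduct_smul, smul_eq_mul, div_mul_cancel₀ _ hψv]; ring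
    have hb : (ψ ⬝ᵥ v) • b = ρ • w - σ • v := by
      rw [← hBw, ro_mulVec, add_sub_cancel_left]
    have hb' : b = (ψ ⬝ᵥ v)⁻¹ • (ρ • w - σ • v) := by
      rw [← hb, smul_smul, inv_mul_cancel₀ hψv, one_smul]
    obtain ⟨u, hu'⟩ : ∃ u, u = ro σ b ψ *ᵥ y := ⟨_, rfl⟩
    have hu : u = σ • y + l • w - (l * σ / ρ) • v := by
      rw [hu', ro_mulVec, hb', hyψ, smul_smul, smul_sub, smul_smul, smul_smul]
      rw [show l * (ψ ⬝ᵥ v) / ρ * (ψ ⬝ᵥ v)⁻¹ * ρ = l by field_simp,
        show l * (ψ ⬝ᵥ v) / ρ * (ψ ⬝ᵥ v)⁻¹ * σ = l * σ / ρ by field_simp]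
      abel
    have hu4 : u ∉ Submodule.span K {v, w, z₀} := fun h => hy (by
      refine (Submodule.smul_mem_iff _ hσ).1 ?_
      rw [show σ • y = u - l • w + (l * σ / ρ) • v by rw [hu]; abel]
      exact Submodule.add_mem _ (Submodule.sub_mem _ h
        (Submodule.smul_mem _ _ (Submodule.subset_span (by simp))))
        (Submodule.smul_mem _ _ (Submodule.subset_span (by simp))))
    obtain ⟨G₁, hG₁⟩ := exists_frame_four (indep_four hv hw hz₀ hu4)
    obtain ⟨c, hc⟩ : ∃ c, c = G'.1.det / G₁.1.det := ⟨_, rfl⟩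
    have hc0 : c ≠ 0 := hc ▸ div_ne_zero (gl_det_ne _) (gl_det_ne _)
    have ht : ∀ i, (![1, 1, c, 1] : Fin 4 → K) i ≠ 0 := by intro i; fin_cases i <;> simp [hc0]
    have hG : ∀ x : Fin 4 → K, (G₁ * diagGL ![1, 1, c, 1] ht).1 *ᵥ x =
        x 0 • v + x 1 • w + x 2 • (c • z₀) + x 3 • u := fun x => by
      rw [Units.val_mul, ← mulVec_mulVec, hG₁,
        show (diagGL ![1, 1, c, 1] ht).1 = diagonal ![1, 1, c, 1] from rfl]
      simp [mulVec_diagonal, smul_smul, mul_comm c]
    refine ⟨G₁ * diagGL ![1, 1, c, 1] ht, c • z₀, u, y, ?_, hG, hu'.symm, ?_, ?_,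
      fun X hXd hXv hXz hXiz => ?_⟩
    · rw [det_mul_gl, show (diagGL ![1, 1, c, 1] ht).1 = diagonal ![1, 1, c, 1] from rfl,
        det_diagonal, Fin.prod_univ_four, hc]
      simp [mul_div_cancel₀ _ (gl_det_ne G₁)]
    · exact fun h => hy (Submodule.span_mono (by simp) h)
    · intro h
      obtain ⟨p, q, hpq⟩ := Submodule.mem_span_pair.1 h
      rcases eq_or_ne q 0 with rfl | hq
      · rw [zero_smul, add_zero] at hpq
        exact hz₀ ((Submodule.smul_mem_iff _ hc0).1 (hpq ▸
          Submodule.smul_mem _ _ (Submodule.subset_span (by simp))))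
      · refine hy ((Submodule.smul_mem_iff _ hq).1 ?_)
        rw [show q • y = c • z₀ - p • v by rw [← hpq]; abel]
        exact Submodule.sub_mem _ (Submodule.smul_mem _ _ (Submodule.subset_span (by simp)))
          (Submodule.smul_mem _ _ (Submodule.subset_span (by simp)))
    · rw [ro_mulVec, dotProduct_smul, hz₀ψ, smul_zero, zero_smul, add_zero, mulVec_smul, hXiz, hG]
      intro h
      obtain ⟨p, q, r, hpqr⟩ := Submodule.mem_span_triple.1 h
      have hcomb : (σ * (α 1 + l * α 3)) • w =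
          (p - σ * α 0 + σ * α 3 * (l * σ / ρ)) • v + (q - σ * σ * α 3) • y +
            (r * c - σ * (α 2 * c)) • z₀ := by
        rw [hu] at hpqr
        linear_combination (norm := module) -hpqr
      rcases eq_or_ne (q - σ * σ * α 3) 0 with h0 | h0
      · rw [h0, zero_smul, add_zero] at hcomb
        rcases eq_or_ne (r * c - σ * (α 2 * c)) 0 with h1 | h1
        · rw [h1, zero_smul, add_zero] at hcomb
          refine hw ((σ * (α 1 + l * α 3))⁻¹ * (p - σ * α 0 + σ * α 3 * (l * σ / ρ))) ?_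
          rw [← smul_smul, ← hcomb, smul_smul, inv_mul_cancel₀ (mul_ne_zero hσ hl), one_smul]
        · exact hz₀ ((Submodule.smul_mem_iff _ h1).1 (Submodule.mem_span_pair.2
            ⟨-(p - σ * α 0 + σ * α 3 * (l * σ / ρ)), σ * (α 1 + l * α 3), by rw [hcomb]; module⟩))
      · exact hy ((Submodule.smul_mem_iff _ h0).1 (Submodule.mem_span_triple.2
          ⟨-(p - σ * α 0 + σ * α 3 * (l * σ / ρ)), σ * (α 1 + l * α 3),
            -(r * c - σ * (α 2 * c)), by rw [hcomb]; module⟩))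
  · push Not at hlow
    obtain ⟨z, hz, hBz, hH⟩ : ∃ z, z ∉ Submodule.span K {v, w} ∧
        B *ᵥ z ∉ Submodule.span K {v, w, z} ∧ B *ᵥ w ∉ Submodule.span K {w, z, B *ᵥ z} := by
      by_cases hP : B *ᵥ w ∈ Submodule.span K {v, w}
      · obtain ⟨z, hz, hBz⟩ := exists_second B hv hBv hoffB hlow
        have hBz' : B *ᵥ z ∉ Submodule.span K {v, w, z} := fun h => hBz (by
          obtain ⟨a, b, c, e⟩ := Submodule.mem_span_triple.1 h
          exact Submodule.mem_span_triple.2 ⟨a, b * ρ⁻¹, c, by rw [← e, hw', smul_smul]⟩)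
        refine ⟨z, hspan ▸ hz, hBz', fun h => ?_⟩
        obtain ⟨a, b, hab⟩ := Submodule.mem_span_pair.1 hP
        have ha : a ≠ 0 := by
          rintro rfl
          rw [zero_smul, zero_add] at hab
          have h1 : B *ᵥ (b • v - ρ • w) = 0 := by
            rw [mulVec_sub, mulVec_smul, mulVec_smul, hBw, ← hab]; module
          by_contra
          refine hBd (Matrix.exists_mulVec_eq_zero_iff.1 ⟨_, ?_, h1⟩)
          rw [sub_ne_zero]
          intro e
          exact hw (ρ⁻¹ * b) (by rw [← smul_smul, e, smul_smul, inv_mul_cancel₀ hρ, one_smul])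
        obtain ⟨p, q, r, hpqr⟩ := Submodule.mem_span_triple.1 h
        rcases eq_or_ne r 0 with hr | hr
        · rw [hr, zero_smul, add_zero] at hpqr
          rcases eq_or_ne q 0 with hq | hq
          · rw [hq, zero_smul, add_zero, ← hab] at hpqr
            have : (p - b) • w = a • v := by linear_combination (norm := module) hpqr
            rcases eq_or_ne (p - b) 0 with h0 | h0
            · rw [h0, zero_smul, eq_comm, smul_eq_zero] at this
              exact this.elim ha hv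
            · exact hw ((p - b)⁻¹ * a)
                (by rw [← smul_smul, ← this, smul_smul, inv_mul_cancel₀ h0, one_smul])
          · refine hspan ▸ hz <| (Submodule.smul_mem_iff _ hq).1 ?_
            rw [show q • z = B *ᵥ w - p • w by rw [← hpqr]; abel]
            exact Submodule.sub_mem _ hP (Submodule.smul_mem _ _ (Submodule.subset_span (by simp)))
        · refine hBz' ((Submodule.smul_mem_iff _ hr).1 ?_)
          rw [show r • (B *ᵥ z) = B *ᵥ w - p • w - q • z by rw [← hpqr]; abel]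
          refine Submodule.sub_mem _ (Submodule.sub_mem _ ?_ (Submodule.smul_mem _ _
            (Submodule.subset_span (by simp)))) (Submodule.smul_mem _ _ (Submodule.subset_span (by simp)))
          exact Submodule.span_mono (Set.insert_subset_insert (by simp)) hP
      · have hwP : w ∉ Submodule.span K {v} := fun h => by
          obtain ⟨t, ht⟩ := Submodule.mem_span_singleton.1 h
          exact hw t ht.symm
        obtain ⟨z₀, -, hz₀⟩ := SetLike.exists_of_lt (SLComm.ne_top_of_finrank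
          (p := Submodule.span K {v, w, B *ᵥ w}) (by
            exact lt_of_le_of_lt (finrank_triple_le v w _) (by omega))).lt_top
        obtain ⟨G, hG⟩ := exists_frame_four (indep_four hv hw hP hz₀)
        obtain ⟨x, hx⟩ : ∃ x, x = G⁻¹.1 *ᵥ (B *ᵥ z₀) := ⟨_, rfl⟩
        have hBz₀ : B *ᵥ z₀ = x 0 • v + x 1 • w + x 2 • (B *ᵥ w) + x 3 • z₀ := by
          rw [← hG, hx, gl_mulVec_inv]
        obtain ⟨a, ha⟩ : ∃ a : K, x 0 - x 3 * a ≠ 0 := by
          by_cases h0 : x 0 = 0
          · refine ⟨1, fun h => ?_⟩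
            have h3 : x 3 = 0 := by linear_combination h0 - h
            have h1 : B *ᵥ (z₀ - (x 1 / ρ) • v - x 2 • w) = 0 := by
              rw [mulVec_sub, mulVec_sub, mulVec_smul, mulVec_smul, hBw, smul_smul,
                div_mul_cancel₀ _ hρ, hBz₀, h0, h3]
              module
            refine hBd (Matrix.exists_mulVec_eq_zero_iff.1 ⟨_, ?_, h1⟩)
            intro e
            refine hz₀ ?_
            rw [sub_sub, sub_eq_zero] at e
            rw [e]
            exact Submodule.add_mem _ (Submodule.smul_mem _ _ (Submodule.subset_span (by simp)))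
              (Submodule.smul_mem _ _ (Submodule.subset_span (by simp)))
          · exact ⟨0, by simpa using h0⟩
        obtain ⟨b, hb⟩ : ∃ b : K, x 2 + b ≠ 0 := ⟨1 - x 2, by simp⟩
        obtain ⟨z, hzdef⟩ : ∃ z, z = z₀ + a • v + b • w := ⟨_, rfl⟩
        have hBz : B *ᵥ z = (x 0 - x 3 * a) • v + (x 1 + a * ρ - x 3 * b) • w +
            (x 2 + b) • (B *ᵥ w) + x 3 • z := by
          rw [hzdef, mulVec_add, mulVec_add, mulVec_smul, mulVec_smul, hBz₀, hBw]
          module
        obtain ⟨M, hM⟩ : ∃ M, M = Submodule.span K {v, w, B *ᵥ w} := ⟨_, rfl⟩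
        have hvM : v ∈ M := hM ▸ Submodule.subset_span (by simp)
        have hwM : w ∈ M := hM ▸ Submodule.subset_span (by simp)
        have hzM : z ∉ M := fun h => hz₀ (by
          rw [← hM, show z₀ = z - a • v - b • w by rw [hzdef]; abel]
          exact Submodule.sub_mem _ (Submodule.sub_mem _ h (Submodule.smul_mem _ _ hvM))
            (Submodule.smul_mem _ _ hwM))
        have hBwM : B *ᵥ w ∈ M := hM ▸ Submodule.subset_span (by simp)
        refine ⟨z, fun h => hzM (hM ▸ Submodule.span_mono (Set.insert_subset_insert (by simp)) h),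
          fun h => ?_, fun h => ?_⟩
        · refine hP ?_
          obtain ⟨p, q, r, hpqr⟩ := Submodule.mem_span_triple.1 h
          rw [hBz] at hpqr
          rcases eq_or_ne (r - x 3) 0 with h0 | h0
          · refine Submodule.mem_span_pair.2 ⟨(x 2 + b)⁻¹ * (p - (x 0 - x 3 * a)),
              (x 2 + b)⁻¹ * (q - (x 1 + a * ρ - x 3 * b)), ?_⟩
            rw [← smul_smul, ← smul_smul, ← smul_add]
            refine (inv_smul_eq_iff₀ hb).2 ?_
            rw [sub_eq_zero] at h0
            rw [h0] at hpqr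
            linear_combination (norm := module) hpqr
          · refine absurd ((Submodule.smul_mem_iff _ h0).1 ?_) hzM
            rw [show (r - x 3) • z = (x 0 - x 3 * a - p) • v + (x 1 + a * ρ - x 3 * b - q) • w +
              (x 2 + b) • (B *ᵥ w) by linear_combination (norm := module) hpqr]
            exact Submodule.add_mem _ (Submodule.add_mem _ (Submodule.smul_mem _ _ hvM)
              (Submodule.smul_mem _ _ hwM)) (Submodule.smul_mem _ _ hBwM)
        · obtain ⟨p, q, r, hpqr⟩ := Submodule.mem_span_triple.1 h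
          rw [hBz] at hpqr
          have hq : q + r * x 3 = 0 := by
            by_contra h0
            refine hzM ((Submodule.smul_mem_iff _ h0).1 ?_)
            rw [show (q + r * x 3) • z = (-r * (x 0 - x 3 * a)) • v +
              (-p - r * (x 1 + a * ρ - x 3 * b)) • w + (1 - r * (x 2 + b)) • (B *ᵥ w) by
              linear_combination (norm := module) hpqr]
            exact Submodule.add_mem _ (Submodule.add_mem _ (Submodule.smul_mem _ _ hvM)
              (Submodule.smul_mem _ _ hwM)) (Submodule.smul_mem _ _ hBwM)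
          have e : (r * (x 0 - x 3 * a)) • v + (p + r * (x 1 + a * ρ - x 3 * b)) • w +
              (r * (x 2 + b) - 1) • (B *ᵥ w) = 0 := by
            have h0 : (q + r * x 3) • z = 0 := by rw [hq, zero_smul]
            linear_combination (norm := module) hpqr - h0
          have h1 : r * (x 2 + b) - 1 = 0 := by
            by_contra h0
            refine hP ((Submodule.smul_mem_iff _ h0).1 ?_)
            rw [eq_neg_of_add_eq_zero_right e]
            exact Submodule.neg_mem _ (Submodule.mem_span_pair.2 ⟨_, _, rfl⟩)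
          rw [h1, zero_smul, add_zero] at e
          obtain ⟨e1, -⟩ := LinearIndependent.pair_iff.1 (indep_pair hv hw) _ _ e
          rcases mul_eq_zero.1 e1 with hr | hr
          · rw [hr, zero_mul, zero_sub, neg_eq_zero] at h1
            exact one_ne_zero h1
          · exact ha hr
    obtain ⟨G₁, hG₁⟩ := exists_frame_four (indep_four hv hw hz hBz)
    obtain ⟨c, hc⟩ : ∃ c, c = G'.1.det / G₁.1.det := ⟨_, rfl⟩
    have hc0 : c ≠ 0 := hc ▸ div_ne_zero (gl_det_ne _) (gl_det_ne _)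
    -- choose the parameter
    obtain ⟨H, hH'⟩ : ∃ H, H = Submodule.span K {w, z, B *ᵥ z} := ⟨_, rfl⟩
    rw [← hH'] at hH
    obtain ⟨t, ht⟩ : ∃ t : K,
        (α 1 - t * α 3) • (B *ᵥ w) + (α 3 * c) • (B *ᵥ (B *ᵥ z)) ∉ H := by
      by_contra hall
      push Not at hall
      by_cases h3 : α 3 = 0
      · have h := hall 0
        rw [h3, zero_mul, zero_mul, zero_smul, add_zero, sub_zero] at h
        exact hH ((Submodule.smul_mem_iff _ (hα24 h3)).1 h)
      · have h := Submodule.sub_mem _ (hall 0) (hall 1)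
        rw [add_sub_add_right_eq_sub, ← sub_smul] at h
        exact hH ((Submodule.smul_mem_iff _ (by simpa using h3)).1 h)
    obtain ⟨u, hu⟩ : ∃ u, u = c • (B *ᵥ z) - z - t • w := ⟨_, rfl⟩
    obtain ⟨E, hE⟩ : ∃ E : Matrix (Fin 4) (Fin 4) K,
        E = !![1, 0, 0, 0; 0, 1, 0, -t; 0, 0, 1, -1; 0, 0, 0, c] := ⟨_, rfl⟩
    have hEd : E.det = c := by
      rw [hE, Matrix.det_of_isUpperTriangular (show Matrix.IsUpperTriangular
        (!![1, 0, 0, 0; 0, 1, 0, -t; 0, 0, 1, -1; 0, 0, 0, c] : Matrix (Fin 4) (Fin 4) K) by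
          intro i j hij; fin_cases i <;> fin_cases j <;> simp at hij ⊢), Fin.prod_univ_four]
      simp
    obtain ⟨GE, hGE⟩ : ∃ GE : GL (Fin 4) K, GE.1 = E :=
      ⟨((Matrix.isUnit_iff_isUnit_det _).2 (isUnit_iff_ne_zero.2 (hEd ▸ hc0))).unit, rfl⟩
    have hG : ∀ x : Fin 4 → K, (G₁ * GE).1 *ᵥ x = x 0 • v + x 1 • w + x 2 • z + x 3 • u := fun x => by
      rw [Units.val_mul, ← mulVec_mulVec, hG₁, hGE, hE, hu]
      simp [mulVec, dotProduct, Fin.sum_univ_four]
      module
    have hBinj : Function.Injective (B *ᵥ ·) := Matrix.mulVec_injective_iff_isUnit.2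
      ((Matrix.isUnit_iff_isUnit_det _).2 (isUnit_iff_ne_zero.2 hBd))
    obtain ⟨y, hy⟩ : ∃ y, B *ᵥ y = u := ⟨B⁻¹ *ᵥ u, by
      rw [mulVec_mulVec, Matrix.mul_nonsing_inv _ (isUnit_iff_ne_zero.2 hBd), one_mulVec]⟩
    have hzH : z ∈ H := hH' ▸ Submodule.subset_span (by simp)
    have hwH : w ∈ H := hH' ▸ Submodule.subset_span (by simp)
    have hBzH : B *ᵥ z ∈ H := hH' ▸ Submodule.subset_span (by simp)
    have hu4 : u ∉ Submodule.span K {v, w, z} := fun h => hBz (by
      refine (Submodule.smul_mem_iff _ hc0).1 ?_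
      rw [show c • (B *ᵥ z) = u + z + t • w by rw [hu]; abel]
      exact Submodule.add_mem _ (Submodule.add_mem _ h (Submodule.subset_span (by simp)))
        (Submodule.smul_mem _ _ (Submodule.subset_span (by simp))))
    refine ⟨G₁ * GE, z, u, y, ?_, hG, hy, fun h => ?_, fun h => ?_, fun X hXd hXv hXz hXiz => ?_⟩
    · rw [det_mul_gl, hGE, hEd, hc, mul_div_cancel₀ _ (gl_det_ne G₁)]
    · obtain ⟨p, hp⟩ := Submodule.mem_span_singleton.1 h
      refine hu4 ?_
      rw [← hy, ← hp, mulVec_smul, hBw]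
      exact Submodule.smul_mem _ _ (Submodule.smul_mem _ _ (Submodule.subset_span (by simp)))
    · obtain ⟨p, q, hpq⟩ := Submodule.mem_span_pair.1 h
      have e : B *ᵥ z = (p * ρ) • w + q • u := by
        rw [← hpq, mulVec_add, mulVec_smul, mulVec_smul, hBw, hy, smul_smul]
      have e2 : (1 - q * c) • (B *ᵥ z) = (p * ρ - q * t) • w + (-q) • z := by
        rw [hu] at e
        linear_combination (norm := module) e
      rcases eq_or_ne (1 - q * c) 0 with h0 | h0
      · rw [h0, zero_smul, eq_comm] at e2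
        have hq : q ≠ 0 := by rintro rfl; simp at h0
        refine hz ((Submodule.smul_mem_iff _ (neg_ne_zero.2 hq)).1 ?_)
        rw [eq_neg_of_add_eq_zero_right e2]
        exact Submodule.neg_mem _ (Submodule.smul_mem _ _ (Submodule.subset_span (by simp)))
      · refine hBz ((Submodule.smul_mem_iff _ h0).1 ?_)
        rw [e2]
        exact Submodule.add_mem _ (Submodule.smul_mem _ _ (Submodule.subset_span (by simp)))
          (Submodule.smul_mem _ _ (Submodule.subset_span (by simp)))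
    · intro hm
      have hXw : X⁻¹ *ᵥ w = v := inv_mulVec_eq hXd hXv
      have hXu : X⁻¹ *ᵥ u = z := inv_mulVec_eq hXd hXz
      have e : B *ᵥ z = c⁻¹ • (u + z + t • w) := by
        rw [show u + z + t • w = c • (B *ᵥ z) by rw [hu]; abel, smul_smul, inv_mul_cancel₀ hc0,
          one_smul]
      rw [e, mulVec_smul, mulVec_add, mulVec_add, mulVec_smul, hXu, hXw,
        Submodule.smul_mem_iff _ (inv_ne_zero hc0)] at hm
      have hmem : X⁻¹ *ᵥ z ∈ Submodule.span K {v, y, z} := by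
        have h1 := Submodule.sub_mem _ (Submodule.sub_mem _ hm
          (Submodule.subset_span (show z ∈ ({v, y, z} : Set (Fin 4 → K)) by simp)))
          (Submodule.smul_mem _ t (Submodule.subset_span (show v ∈ ({v, y, z} : Set (Fin 4 → K)) by simp)))
        convert h1 using 1
        abel
      rw [hXiz, hG] at hmem
      obtain ⟨p, q, r, hpqr⟩ := Submodule.mem_span_triple.1 hmem
      refine ht ?_
      have e1 := congrArg (fun x => B *ᵥ x) hpqr
      simp only [mulVec_add, mulVec_smul, hBw, hy] at e1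
      have e2 : B *ᵥ u = c • (B *ᵥ (B *ᵥ z)) - B *ᵥ z - t • (B *ᵥ w) := by
        rw [hu, mulVec_sub, mulVec_sub, mulVec_smul, mulVec_smul]
      have e3 : (α 1 - t * α 3) • (B *ᵥ w) + (α 3 * c) • (B *ᵥ (B *ᵥ z)) =
          (p * ρ - α 0 * ρ) • w + q • u + (r - α 2 + α 3) • (B *ᵥ z) := by
        linear_combination (norm := module) -e1 - α 3 • e2
      rw [e3]
      refine Submodule.add_mem _ (Submodule.add_mem _ (Submodule.smul_mem _ _ hwH)
        (Submodule.smul_mem _ _ ?_)) (Submodule.smul_mem _ _ hBzH)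
      rw [hu]
      exact Submodule.sub_mem _ (Submodule.sub_mem _ (Submodule.smul_mem _ _ hBzH) hzH)
        (Submodule.smul_mem _ _ hwH)

end Cfsg.Agent.LevCover
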