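/-
Covering number of PSL(n,q): an eigenvalue with non-scalar complement saves one factor.
-/
import Cfsg.Agent.Lib.LevCover.Two

set_option autoImplicit false

namespace Cfsg.Agent.LevCover

open Polynomial Matrix Module
open Cfsg.Agent.SLComm (Cyc bord img eigen)

variable {K : Type*} [Field K] {n : ℕ}

/-- the part away from `μ` is not scalar -/
def Good (A : Matrix (Fin n) (Fin n) K) (μ : K) : Prop :=
  ∀ (ν : K) (j : ℕ), (A - ν • (1 : Matrix (Fin n) (Fin n) K)) * (A - μ • 1) ^ j ≠ 0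

/-- all non-scalar products with the right determinant, in dimension `n` -/
def MainAt (K : Type*) [Field K] (n : ℕ) : Prop :=
  ∀ A B : Matrix (Fin n) (Fin n) K, ¬ IsSc A → A.det ≠ 0 → ¬ IsSc B → B.det = A.det ^ n →
    SP A n B noV

theorem cj_pow (P : GL (Fin n) K) (A : Matrix (Fin n) (Fin n) K) (j : ℕ) :
    cj P (A ^ j) = cj P A ^ j := by
  induction j with
  | zero => simp [cj]
  | succ j ih => rw [pow_succ, pow_succ, cj_mul, ih]

theorem Good.cj {A : Matrix (Fin n) (Fin n) K} {μ : K} (h : Good A μ) (P : GL (Fin n) K) :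
    Good (LevCover.cj P A) μ := by
  intro ν j h0
  rw [← cj_scalar P ν, ← cj_scalar P μ, ← cj_sub, ← cj_sub, ← cj_pow, ← cj_mul] at h0
  refine h ν j ?_
  have := congrArg (LevCover.cj P⁻¹) h0
  rw [cj_inv_cj] at this
  rw [this]
  simp [LevCover.cj]

/-- the quotient at an eigenvector keeps the property -/
theorem Good.quot {μ : K} {a₀ : Fin n → K} {A' : Matrix (Fin n) (Fin n) K}
    (h : Good (bord μ a₀ 0 A') μ) : Good A' μ := by
  intro ν j h0
  have key : ∀ j : ℕ, ∃ (p : K) (r : Fin n → K),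
      (bord μ a₀ 0 A' - μ • 1) ^ j = bord p r 0 ((A' - μ • 1) ^ j) := by
    intro j
    induction j with
    | zero => exact ⟨1, 0, by rw [pow_zero, pow_zero, SLComm.bord_one]⟩
    | succ j ih =>
      obtain ⟨p, r, hp⟩ := ih
      exact ⟨_, _, by rw [pow_succ, pow_succ, hp, SLComm.bord_sub_scalar, bord_upper_mul]⟩
  obtain ⟨p, r, hp⟩ := key j
  refine h ν (j + 1) ?_
  have hc : Commute (bord μ a₀ 0 A' - ν • 1) (bord μ a₀ 0 A' - μ • 1) :=
    ((Commute.refl _).sub_left ((Commute.one_left _).smul_left ν)).sub_right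
      ((Commute.one_right _).smul_right μ)
  rw [pow_succ', ← mul_assoc, hc.eq, mul_assoc, hp, SLComm.bord_sub_scalar, SLComm.bord_sub_scalar,
    bord_upper_mul, bord_upper_mul, h0, SLComm.bord_zero]
  simp

theorem Good.not_isSc {A : Matrix (Fin n) (Fin n) K} {μ : K} (h : Good A μ) : ¬ IsSc A := by
  rintro ⟨a, rfl⟩
  exact h a 0 (by simp)

theorem charpoly_cj (P : GL (Fin n) K) (A : Matrix (Fin n) (Fin n) K) :
    (LevCover.cj P A).charpoly = A.charpoly := by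
  have h := charpoly_units_conj P A
  rw [← coe_units_inv] at h
  exact h

theorem two_le_of_not_isSc {A : Matrix (Fin n) (Fin n) K} (h : ¬ IsSc A) : 2 ≤ n := by
  by_contra hn
  interval_cases n
  · exact h ⟨0, Subsingleton.elim _ _⟩
  · exact h ⟨A 0 0, by ext i j; fin_cases i; fin_cases j; simp⟩

/-- two by two matrices with an eigenvalue -/
theorem eigen_two {A : Matrix (Fin 2) (Fin 2) K} {μ : K} (h : A.charpoly.eval μ = 0) :
    A.det = μ * (A.trace - μ) := by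
  rw [charpoly_fin_two] at h
  simp only [eval_add, eval_sub, eval_pow, eval_X, eval_mul, eval_C] at h
  linear_combination h

/-- conjugating the first column -/
def lowGL (y : Fin n → K) : GL (Fin (n + 1)) K :=
  ⟨bord 1 0 y 1, bord 1 0 (-y) 1, by rw [SLComm.bord_mul, SLComm.bord_one]; simp,
    by rw [SLComm.bord_mul, SLComm.bord_one]; simp⟩

theorem cj_lowGL (y : Fin n → K) (μ : K) (X : Matrix (Fin n) (Fin n) K) :
    cj (lowGL y) (bord μ 0 0 X) = bord μ 0 (μ • y - X *ᵥ y) X := by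
  show bord 1 0 y 1 * bord μ 0 0 X * bord 1 0 (-y) 1 = _
  rw [SLComm.bord_mul, SLComm.bord_mul]
  simp [mulVec_neg, sub_eq_add_neg]

theorem det_lowGL (y : Fin n → K) : (lowGL y).1.det = 1 := by
  show (bord 1 0 y (1 : Matrix (Fin n) (Fin n) K)).det = 1
  rw [SLComm.det_bord_lower, det_one, mul_one]

/-- the decoupled form when the quotient misses the eigenvalue -/
theorem decouple {μ : K} (a₀ : Fin n → K) {A' : Matrix (Fin n) (Fin n) K}
    (hne : A'.charpoly.eval μ ≠ 0) :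
    ∃ U : GL (Fin (n + 1)) K, cj U (bord μ a₀ 0 A') = bord μ 0 0 A' := by
  obtain ⟨s, hs⟩ := SLComm.exists_sol (f := A'ᵀ.charpoly) (aeval_self_charpoly A'ᵀ) (a := μ)
    (by rwa [charpoly_transpose]) (-a₀)
  refine ⟨uppGL s, ?_⟩
  rw [cj_uppGL, ← mulVec_transpose, transpose_sub, transpose_smul, transpose_one, hs, add_neg_cancel]

variable [Fintype K]

/-- the pivot product -/
theorem good_base (h4 : 4 ≤ Fintype.card K) (hn : 2 ≤ n)
    {A : Matrix (Fin (n + 1)) (Fin (n + 1)) K} {μ : K} (hμ : μ ≠ 0) {P₀ : GL (Fin (n + 1)) K}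
    {A' : Matrix (Fin n) (Fin n) K} (hA : cj P₀ A = bord μ 0 0 A')
    (hne : A'.charpoly.eval μ ≠ 0)
    {B : Matrix (Fin (n + 1)) (Fin (n + 1)) K} (hB : ¬ IsSc B) (hBd : B.det ≠ 0)
    (hd : B.det = A.det ^ n)
    (hin : ∀ S : Matrix (Fin n) (Fin n) K, ¬ IsSc S → S.det = A'.det ^ n → CP A' n S noV) :
    SP A n B (fun τ => τ = μ) := by
  obtain ⟨k, rfl⟩ : ∃ k, n = k + 1 := ⟨n - 1, by omega⟩
  obtain ⟨P, r, c, X, hP, hc, hns⟩ := step h4 (by omega) hBd hB (pow_ne_zero (k + 1) hμ)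
  obtain ⟨g', hg', -⟩ := hin _ (hns hn) (mul_left_cancel₀ (pow_ne_zero (k + 1) hμ) (by
    rw [det_schur (pow_ne_zero (k + 1) hμ) hP, hd, ← det_cj P₀ A, hA, det_bord_upper, mul_pow]))
  have hnov : ∀ (g : GL (Fin (k + 1)) K) (y : Fin (k + 1) → K),
      cj g A' *ᵥ y = μ • y → y = 0 := by
    intro g y hy
    by_contra hy0
    refine hne (eval_charpoly_of_eigen (gl_mulVec_ne g⁻¹ hy0) ?_)
    rw [← mulVec_smul, ← hy, ← cj_mulVec, cj_inv_cj]
  obtain ⟨gU, hgU, hU, hUform⟩ := tail_prod hA hμ (fun i : Fin k => g' i.succ)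
    (fun y hy => hnov _ y (hy ⟨0, by omega⟩)) (μ⁻¹ • r)
  obtain ⟨φ₀, hφ₀⟩ : ∃ φ₀, φ₀ = cj (g' 0) A' := ⟨_, rfl⟩
  obtain ⟨y₀, hy₀⟩ := SLComm.exists_sol (f := φ₀.charpoly) (aeval_self_charpoly φ₀) (a := μ)
    (by
      rw [hφ₀, charpoly_cj]
      exact hne) (-((μ ^ k)⁻¹ • c))
  obtain ⟨gL, hgL⟩ : ∃ gL, gL = lowGL y₀ * (liftP (g' 0) * P₀) := ⟨_, rfl⟩
  have hL : cj gL A = bord μ 0 ((μ ^ k)⁻¹ • c) φ₀ := by
    rw [hgL, ← cj_cj, ← cj_cj, hA, cj_liftP, zero_vecMul, mulVec_zero, ← hφ₀, cj_lowGL]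
    congr 1
    rw [sub_mulVec, smul_mulVec, one_mulVec, eq_neg_iff_add_eq_zero] at hy₀
    linear_combination (norm := module) -hy₀
  -- centralizing elements of any determinant
  obtain ⟨cen, hcen⟩ : ∃ cen : ∀ t : K, t ≠ 0 → GL (Fin (k + 1 + 1)) K,
      ∀ t ht, cj (cen t ht) A = A ∧ (cen t ht).1.det = t := by
    refine ⟨fun t ht => P₀⁻¹ * (headGL t ht * P₀), fun t ht => ⟨?_, ?_⟩⟩
    · rw [← cj_cj, ← cj_cj, hA, cj_headGL, smul_zero, ← hA, cj_inv_cj]
    · rw [det_mul_gl, det_mul_gl, det_headGL, det_gl_inv, mul_comm t, ← mul_assoc,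
        inv_mul_cancel₀ (gl_det_ne P₀), one_mul]
  obtain ⟨g, hg⟩ : ∃ g : Fin (k + 1) → GL (Fin (k + 1 + 1)) K,
      g = Fin.cons (P⁻¹ * (gL * cen (P.1.det / gL.1.det) (div_ne_zero (gl_det_ne _) (gl_det_ne _))))
        (fun i => P⁻¹ * (gU i * cen P.1.det (gl_det_ne P))) := ⟨_, rfl⟩
  have hg0 : cj (g 0) A = cj P⁻¹ (bord μ 0 ((μ ^ k)⁻¹ • c) φ₀) := by
    rw [hg, Fin.cons_zero, ← cj_cj, ← cj_cj, (hcen _ _).1, hL]
  have hgs : ∀ i, cj (g i.succ) A = cj P⁻¹ (cj (gU i) A) := fun i => by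
    rw [hg, Fin.cons_succ, ← cj_cj, ← cj_cj, (hcen _ _).1]
  refine ⟨g, fun i => ?_, ?_, fun τ hτ y hy => ?_⟩
  · refine Fin.cases ?_ (fun i => ?_) i
    · rw [hg, Fin.cons_zero, det_mul_gl, det_mul_gl, (hcen _ _).2, det_gl_inv, ← mul_assoc,
        mul_assoc, mul_div_cancel₀ _ (gl_det_ne gL), inv_mul_cancel₀ (gl_det_ne P)]
    · rw [hg, Fin.cons_succ, det_mul_gl, det_mul_gl, (hcen _ _).2, det_gl_inv, hgU, one_mul,
        inv_mul_cancel₀ (gl_det_ne P)]
  · have hprod : prodC A g = cj (g 0) A * cj P⁻¹ (prodC A gU) := by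
      conv_lhs => rw [← Fin.cons_self_tail g, prodC_cons]
      rw [cj_prodC, prodC, prodC]
      congr 2
      refine congrArg List.ofFn (funext fun i => ?_)
      show cj (g i.succ) A = _
      rw [hgs, cj_cj]
    rw [hprod, hg0, hU, ← cj_mul, SLComm.bord_mul]
    conv_rhs => rw [← cj_inv_cj P B, hP]
    congr 1
    have hX : X = schur (μ ^ (k + 1)) r c X + (μ ^ (k + 1))⁻¹ • vecMulVec c r := by
      rw [schur, sub_add_cancel]
    conv_rhs => rw [hX, ← hg', ← Fin.cons_self_tail g', prodC_cons, ← hφ₀]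
    simp only [zero_dotProduct, add_zero, smul_zero, zero_vecMul, mulVec_zero, smul_smul,
      mul_inv_cancel₀ hμ, one_smul, mul_inv_cancel₀ (pow_ne_zero k hμ), smul_vecMulVec,
      vecMulVec_smul]
    rw [pow_succ', mul_inv, add_comm (φ₀ * _), mul_comm μ⁻¹]
    rfl
  · subst hτ
    obtain ⟨z, rfl⟩ : ∃ z, y = P⁻¹.1 *ᵥ z := ⟨P.1 *ᵥ y, (SLComm.gl_inv_mulVec P y).symm⟩
    have hz : vecTail z = 0 := by
      obtain ⟨s, hs⟩ := hUform ⟨0, by omega⟩
      have h1 := hy (Fin.succ ⟨0, by omega⟩)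
      rw [hgs, cj_mulVec, hs, ← mulVec_smul] at h1
      have h2 := congrArg vecTail (SLComm.gl_mulVec_inj _ h1)
      rw [← cons_head_tail z, SLComm.bord_mulVec] at h2
      simp at h2
      exact hnov _ _ h2
    have h1 := hy 0
    rw [hg0, cj_mulVec, ← mulVec_smul] at h1
    have h2 := congrArg vecTail (SLComm.gl_mulVec_inj _ h1)
    rw [← cons_head_tail z, hz, SLComm.bord_mulVec] at h2
    simp [hc, hμ] at h2
    rw [← cons_head_tail z, hz, h2, show vecCons (0 : K) (0 : Fin (k + 1) → K) = 0 by simp,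
      mulVec_zero]

/-- the trace argument in dimension three -/
theorem good_three (h4 : 4 ≤ Fintype.card K) {A : Matrix (Fin 3) (Fin 3) K} {μ : K} (hμ : μ ≠ 0)
    {P₀ : GL (Fin 3) K} {A' : Matrix (Fin 2) (Fin 2) K} (hA : cj P₀ A = bord μ 0 0 A')
    (hfree : ∀ a : K, A'.charpoly.eval a ≠ 0) {B : Matrix (Fin 3) (Fin 3) K} (hB : ¬ IsSc B)
    (hd : B.det = A.det ^ 2) (hAd : A.det ≠ 0) : SP A 2 B (fun τ => τ = μ) := by
  have hA' : ¬ IsSc A' := fun ⟨a, ha⟩ => hfree a (by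
    rw [ha]
    refine eval_charpoly_of_eigen (x := Pi.single 0 1) (by simp) ?_
    rw [smul_mulVec, one_mulVec])
  have hD : Deg3 A := by
    obtain ⟨y, hy, hA'y⟩ := exists_noneig' h4 le_rfl hA'
    obtain ⟨u, hu⟩ : ∃ u : Fin 3 → K, u = P₀⁻¹.1 *ᵥ vecCons 1 y := ⟨_, rfl⟩
    have hAu : P₀.1 *ᵥ (A *ᵥ u) = vecCons μ (A' *ᵥ y) := by
      rw [hu, ← cj_mulVec P₀ A, gl_mulVec_inv, hA, SLComm.bord_mulVec]
      simp
    have hAAu : P₀.1 *ᵥ (A *ᵥ (A *ᵥ u)) = vecCons (μ * μ) (A' *ᵥ (A' *ᵥ y)) := by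
      rw [← cj_mulVec P₀ A, hAu, hA, SLComm.bord_mulVec]
      simp
    have hu' : P₀.1 *ᵥ u = vecCons 1 y := by rw [hu, gl_mulVec_inv]
    refine ⟨u, fun h => ?_, fun a h => ?_, fun h => ?_⟩
    · rw [h, mulVec_zero] at hu'
      simpa using congrFun hu' 0
    · have h1 := congrArg (fun x => vecTail (P₀.1 *ᵥ x)) h
      rw [mulVec_smul, hAu, hu'] at h1
      exact hA'y a (by simpa using h1)
    · obtain ⟨p, q, hpq⟩ := Submodule.mem_span_pair.1 h
      have h1 := congrArg (fun x => P₀.1 *ᵥ x) hpq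
      rw [mulVec_add, mulVec_smul, mulVec_smul, hu', hAu, hAAu] at h1
      simp only [smul_cons, cons_add_cons, smul_eq_mul, mul_one] at h1
      have hh := congrArg vecHead h1
      have ht := congrArg vecTail h1
      simp only [head_cons, tail_cons] at hh ht
      have hch := aeval_self_charpoly A'
      rw [charpoly_fin_two] at hch
      simp only [map_add, map_sub, map_mul, map_pow, aeval_X, aeval_C,
        Algebra.algebraMap_eq_smul_one, smul_one_mul] at hch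
      have h2 := congrArg (fun M => M *ᵥ y) hch
      rw [add_mulVec, sub_mulVec, sq, smul_mulVec, smul_mulVec, one_mulVec, zero_mulVec,
        ← mulVec_mulVec, ← ht] at h2
      have hco : (p + A'.det) • y + (q - A'.trace) • (A' *ᵥ y) = 0 := by
        linear_combination (norm := module) h2
      obtain ⟨e1, e2⟩ := LinearIndependent.pair_iff.1 (indep_pair hy hA'y) _ _ hco
      refine hfree μ ?_
      rw [charpoly_fin_two]
      simp only [eval_add, eval_sub, eval_pow, eval_X, eval_mul, eval_C]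
      linear_combination e1 + μ * e2 - hh
  obtain ⟨v, hv, hBv⟩ := exists_noneig' h4 (by omega) hB
  obtain ⟨w, hw'⟩ : ∃ w, w = μ⁻¹ • (B *ᵥ v) := ⟨_, rfl⟩
  have hBw : B *ᵥ v = μ • w := by rw [hw', smul_smul, mul_inv_cancel₀ hμ, one_smul]
  have hw : ∀ t : K, w ≠ t • v := fun t ht => hBv (μ * t) (by rw [hBw, ht, smul_smul])
  obtain ⟨g, hg, hgw, hoff⟩ := exists_cj_off le_rfl hAd hD hv hw
  obtain ⟨Φ, ⟨s⟩, hΦ⟩ := exists_step_trace le_rfl hAd (hd ▸ pow_ne_zero _ hAd) hμ hg hv hw hBw hgw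
    (Or.inl hoff) A'.trace
  have hdet : Φ.det = A'.det := by
    refine mul_left_cancel₀ hμ ?_
    rw [s.det_eq, hd, sq, ← mul_assoc, inv_mul_cancel₀ hAd, one_mul, ← det_cj P₀ A, hA,
      det_bord_upper]
  have hΦs : ¬ IsSc Φ := fun ⟨a, ha⟩ => hfree a (by
    have h1 : Φ.charpoly = A'.charpoly := by rw [charpoly_fin_two, charpoly_fin_two, hΦ, hdet]
    rw [← h1, ha]
    refine eval_charpoly_of_eigen (x := Pi.single 0 1) (by simp) ?_
    rw [smul_mulVec, one_mulVec])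
  obtain ⟨h, hh⟩ := sim_two h4 hA' hΦs hΦ.symm hdet.symm
  have hs : Step A B (μ ^ 1) Φ := by rw [pow_one]; exact s
  refine hs.prod (k := 1) (P' := fun τ => τ = μ) hA hμ hAd rfl (fun _ h => h)
    ⟨fun _ => h, by simp [prodC, hh], fun τ hτ y hy => ?_⟩
  · by_contra hy0
    subst hτ
    refine hfree τ (eval_charpoly_of_eigen (gl_mulVec_ne h⁻¹ hy0) ?_)
    rw [← mulVec_smul, ← hy 0, ← cj_mulVec, cj_inv_cj]

/-- an eigenvalue with non-scalar complement saves one factor -/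
theorem good_main (h4 : 4 ≤ Fintype.card K) :
    ∀ (n : ℕ), (∀ r, 3 ≤ r → r ≤ n → MainAt K r) →
    ∀ (A B : Matrix (Fin (n + 1)) (Fin (n + 1)) K) (μ : K), μ ≠ 0 → A.det ≠ 0 →
      A.charpoly.eval μ = 0 → Good A μ → ¬ IsSc B → B.det = A.det ^ n →
      SP A n B (fun τ => τ = μ) := by
  intro n
  induction n with
  | zero =>
    intro _ A B μ _ _ _ hG
    exact absurd (two_le_of_not_isSc hG.not_isSc) (by omega)
  | succ n ih =>
    intro hmain A B μ hμ hAd hev hG hB hd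
    obtain ⟨x, hx, hAx⟩ := exists_eigen hev
    obtain ⟨Q, a₀, A', -, -, hQ⟩ := exists_quot (by omega) hx hAx
    have hG' : Good A' μ := (hQ ▸ hG.cj Q⁻¹).quot
    have hn2 := two_le_of_not_isSc hG'.not_isSc
    have hA'd : A'.det ≠ 0 := fun h => hAd (by rw [← quot_det hQ, h, mul_zero])
    by_cases hev' : A'.charpoly.eval μ = 0
    · have hn3 : 3 ≤ n + 1 := by
        obtain ⟨x', hx', hAx'⟩ := exists_eigen hev'
        obtain ⟨Q', a₁, A'', -, -, hQ'⟩ := exists_quot (by omega) hx' hAx'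
        have := two_le_of_not_isSc (hQ' ▸ hG'.cj Q'⁻¹).quot.not_isSc
        omega
      obtain ⟨Φ, hΦ, ⟨s⟩⟩ := exists_step_nsc h4 (by omega) hG.not_isSc hAd hB
        (hd ▸ pow_ne_zero _ hAd) (pow_ne_zero n hμ)
      refine s.prod hQ hμ hAd (P' := fun τ => τ = μ) rfl (fun _ h => h)
        (ih (fun r h1 h2 => hmain r h1 (by omega)) A' Φ μ hμ hA'd hev' hG' hΦ ?_).toCP
      refine mul_left_cancel₀ (pow_ne_zero n hμ) ?_
      rw [s.det_eq, hd, pow_succ', ← mul_assoc, inv_mul_cancel₀ hAd, one_mul, ← quot_det hQ, mul_pow]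
    · obtain ⟨U, hU⟩ := decouple a₀ hev'
      have hA : cj (U * Q⁻¹) A = bord μ 0 0 A' := by rw [← cj_cj, hQ, hU]
      rcases Nat.lt_or_ge (n + 1) 3 with hlt | hge
      · obtain rfl : n = 1 := by omega
        by_cases hfree : ∀ a : K, A'.charpoly.eval a ≠ 0
        · exact good_three h4 hμ hA hfree hB hd hAd
        push Not at hfree
        obtain ⟨τ, hτ⟩ := hfree
        have hdet := eigen_two hτ
        refine good_base h4 le_rfl hμ hA hev' hB (hd ▸ pow_ne_zero _ hAd) hd fun S hS hSd => ?_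
        obtain ⟨g, hg, -⟩ := two_eig h4 hG'.not_isSc hS (μ := τ) (ν := A'.trace - τ)
          (fun h => hA'd (by rw [hdet, h, zero_mul])) (fun h => hA'd (by rw [hdet, h, mul_zero]))
          hdet (by ring) hSd
        exact ⟨g, hg, fun _ h => h.elim⟩
      · exact good_base h4 (by omega) hμ hA hev' hB (hd ▸ pow_ne_zero _ hAd) hd fun S hS hSd =>
          (hmain (n + 1) hge le_rfl A' S hG'.not_isSc hA'd hS hSd).toCP

end Cfsg.Agent.LevCover
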