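/-
Covering number of PSL(n,q): products of `n` conjugates of scalar plus rank one.
-/
import Cfsg.Agent.Lib.LevCover.RankOne

set_option autoImplicit false

namespace Cfsg.Agent.LevCover

open Polynomial Matrix Module
open Cfsg.Agent.SLComm (Cyc bord img eigen)

variable {K : Type*} [Field K] {n : ℕ}

theorem low_of_isSc {κ : K} (hn : 2 ≤ n) {B : Matrix (Fin n) (Fin n) K} (hB : IsSc B)
    (hL : Low κ B) : B = κ • 1 := hB.of_rank hn (low_iff.1 hL)

/-- the quotient of scalar plus rank one -/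
theorem ro_quot (hn : 2 ≤ n) (σ : K) {a φ : Fin (n + 1) → K} (ha : a ≠ 0) (hφ : φ ≠ 0) :
    ∃ (P : GL (Fin (n + 1)) K) (a₀ a' φ' : Fin n → K),
      cj P (ro σ a φ) = bord σ a₀ 0 (ro σ a' φ') ∧ a' ≠ 0 ∧ φ' ≠ 0 ∧ φ' ⬝ᵥ a' = φ ⬝ᵥ a := by
  obtain ⟨z, hz, hza⟩ : ∃ z, φ ⬝ᵥ z = 0 ∧ z ∉ Submodule.span K {a} := by
    by_contra hall
    push Not at hall
    have hle : LinearMap.ker (SLComm.dotL φ) ≤ Submodule.span K {a} := fun x hx =>
      hall x (SLComm.mem_ker_dotL.1 hx)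
    have h1 := le_trans (Submodule.finrank_mono hle) (SLComm.finrank_span_singleton_le a)
    have h2 := LinearMap.finrank_range_add_finrank_ker (SLComm.dotL φ)
    rw [finrank_fin_fun] at h2
    have h3 : finrank K (LinearMap.range (SLComm.dotL φ)) ≤ 1 :=
      le_trans (Submodule.finrank_le _) (by rw [finrank_self])
    omega
  have hz0 : z ≠ 0 := fun e => hza (e ▸ Submodule.zero_mem _)
  obtain ⟨Q, r, Φ, -, hQ0, hT⟩ := exists_quot (by omega) hz0 (T := ro σ a φ) (ρ := σ)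
    (by rw [ro_mulVec, hz, zero_smul, add_zero])
  obtain ⟨ψ, hψ⟩ : ∃ ψ, ψ = φ ᵥ* Q.1 := ⟨_, rfl⟩
  obtain ⟨b, hb⟩ : ∃ b, b = Q⁻¹.1 *ᵥ a := ⟨_, rfl⟩
  have hψ0 : vecHead ψ = 0 := by
    have : ψ ⬝ᵥ vecCons (1 : K) 0 = 0 := by rw [hψ, ← dotProduct_mulVec, hQ0, hz]
    rw [← cons_head_tail ψ, cons_dotProduct_cons] at this
    simpa using this
  have hval : cj Q⁻¹ (ro σ a φ) = ro σ b ψ := by rw [cj_ro, inv_inv, hψ, hb]
  have hΦ : Φ = ro σ (vecTail b) (vecTail ψ) := by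
    ext i j
    have h := congrFun (congrFun (hT.symm.trans hval) i.succ) j.succ
    simpa [bord, ro, vecMulVec_apply, vecTail, Matrix.one_apply] using h
  refine ⟨Q⁻¹, r, vecTail b, vecTail ψ, hΦ ▸ hT, ?_, ?_, ?_⟩
  · intro h
    exact hza (of_tail_zero hQ0 (x := a) (hb ▸ h) ▸
      Submodule.smul_mem _ _ (Submodule.mem_span_singleton_self z) |> fun hm => by
        obtain ⟨t, ht⟩ := Submodule.mem_span_singleton.1 hm
        rcases eq_or_ne t 0 with rfl | ht0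
        · exact absurd (by rw [← ht, zero_smul] : a = 0) ha
        · exact Submodule.mem_span_singleton.2
            ⟨t⁻¹, by rw [← ht, smul_smul, inv_mul_cancel₀ ht0, one_smul]⟩)
  · intro h
    refine vecMul_inv_zero Q φ hφ ?_
    rw [← hψ, ← cons_head_tail ψ, hψ0, h]
    ext i
    refine Fin.cases ?_ (fun i => ?_) i <;> simp
  · have h1 : ψ ⬝ᵥ b = φ ⬝ᵥ a := by rw [hψ, hb, ← dotProduct_mulVec, gl_mulVec_inv]
    rw [← cons_head_tail ψ, ← cons_head_tail b, cons_dotProduct_cons, hψ0, zero_mul, zero_add] at h1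
    exact h1

/-- without three independent iterates a three by three matrix is scalar plus rank one -/
theorem low_of_three [Fintype K] (h4 : 4 ≤ Fintype.card K) {B : Matrix (Fin 3) (Fin 3) K}
    (hB : ¬ IsSc B) (h3 : ¬ Deg3 B) : ∃ γ : K, Low γ B := by
  obtain ⟨v, hv, hBv⟩ := exists_noneig' h4 (by omega) hB
  obtain ⟨P, hP⟩ : ∃ P, P = Submodule.span K {v, B *ᵥ v} := ⟨_, rfl⟩
  have hvP : v ∈ P := hP ▸ Submodule.subset_span (by simp)
  have hBvP : B *ᵥ v ∈ P := hP ▸ Submodule.subset_span (by simp)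
  have hinv : ∀ x ∈ P, B *ᵥ x ∈ P := by
    intro x hx
    rw [hP] at hx
    obtain ⟨s, t, rfl⟩ := Submodule.mem_span_pair.1 hx
    rw [mulVec_add, mulVec_smul, mulVec_smul]
    refine Submodule.add_mem _ (Submodule.smul_mem _ _ hBvP) (Submodule.smul_mem _ _ ?_)
    by_contra h
    exact h3 ⟨v, hv, hBv, hP ▸ h⟩
  have hdimP : finrank K P = 2 := by
    rw [hP, show ({v, B *ᵥ v} : Set (Fin 3 → K)) = Set.range ![v, B *ᵥ v] by simp [Set.pair_comm],
      finrank_span_eq_card (indep_pair hv hBv), Fintype.card_fin]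
  obtain ⟨z, -, hz⟩ := SetLike.exists_of_lt (SLComm.ne_top_of_finrank (p := P) (by omega)).lt_top
  have htop : P ⊔ Submodule.span K {z} = ⊤ := by
    refine Submodule.eq_top_of_finrank_eq ?_
    have h1 : finrank K P < finrank K ↥(P ⊔ Submodule.span K {z}) :=
      Submodule.finrank_lt_finrank_of_lt (left_lt_sup.2 fun h =>
        hz (h (Submodule.mem_span_singleton_self z)))
    have h2 := Submodule.finrank_le (P ⊔ Submodule.span K {z})
    rw [finrank_fin_fun] at h2 ⊢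
    omega
  obtain ⟨u, hu, γ, hBz⟩ : ∃ u ∈ P, ∃ γ : K, B *ᵥ z = u + γ • z := by
    obtain ⟨u, hu, y, hy, huy⟩ := Submodule.mem_sup.1 (htop.symm ▸ Submodule.mem_top :
      B *ᵥ z ∈ P ⊔ Submodule.span K {z})
    obtain ⟨γ, rfl⟩ := Submodule.mem_span_singleton.1 hy
    exact ⟨u, hu, γ, huy.symm⟩
  obtain ⟨f, hf⟩ : ∃ f : (Fin 3 → K) → Fin 3 → K, ∀ x, f x = B *ᵥ x - γ • x := ⟨_, fun _ => rfl⟩
  have hfP : ∀ x ∈ P, f x ∈ P := fun x hx => by
    rw [hf]; exact Submodule.sub_mem _ (hinv x hx) (Submodule.smul_mem _ _ hx)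
  -- the shifted vectors are eigenvectors
  have key : ∀ x ∈ P, ∃ ε : K, B *ᵥ (u + f x) = ε • (u + f x) := by
    intro x hx
    obtain ⟨z', hz'⟩ : ∃ z', z' = z + x := ⟨_, rfl⟩
    have hBz' : B *ᵥ z' = (u + f x) + γ • z' := by
      rw [hz', mulVec_add, hBz, hf, smul_add]; abel
    have hw : u + f x ∈ P := Submodule.add_mem _ hu (hfP x hx)
    have hz'P : z' ∉ P := fun h => hz (by
      rw [hz'] at h
      exact (Submodule.add_mem_iff_left _ hx).1 h)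
    by_cases hw0 : u + f x = 0
    · exact ⟨0, by rw [hw0, mulVec_zero, smul_zero]⟩
    have hne : ∀ s : K, B *ᵥ z' ≠ s • z' := by
      intro s hs
      rw [hBz', ← eq_sub_iff_add_eq, ← sub_smul] at hs
      rcases eq_or_ne (s - γ) 0 with h | h
      · exact hw0 (by rw [hs, h, zero_smul])
      · exact hz'P ((Submodule.smul_mem_iff _ h).1 (hs ▸ hw))
    have h2 : B *ᵥ (B *ᵥ z') ∈ Submodule.span K {z', B *ᵥ z'} := by
      by_contra h
      exact h3 ⟨z', fun e => hz'P (e ▸ Submodule.zero_mem _), hne, h⟩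
    obtain ⟨s, t, hst⟩ := Submodule.mem_span_pair.1 h2
    refine ⟨t - γ, ?_⟩
    rw [hBz', mulVec_add, mulVec_smul, hBz'] at hst
    have h4' : B *ᵥ (u + f x) - (t - γ) • (u + f x) = (s + t * γ - γ * γ) • z' := by
      linear_combination (norm := module) -hst
    rcases eq_or_ne (s + t * γ - γ * γ) 0 with h | h
    · rwa [h, zero_smul, sub_eq_zero] at h4'
    · exact absurd ((Submodule.smul_mem_iff _ h).1 (h4' ▸
        Submodule.sub_mem _ (hinv _ hw) (Submodule.smul_mem _ _ hw))) hz'P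
  -- a vector of the plane with eigenvalue `γ`
  obtain ⟨k, hk, hk0, hkγ⟩ : ∃ k ∈ P, k ≠ 0 ∧ B *ᵥ k = γ • k := by
    by_contra hall
    push Not at hall
    let F : P →ₗ[K] P := ((B - γ • 1).mulVecLin.comp P.subtype).codRestrict P fun x => by
      simpa [sub_mulVec, smul_mulVec, hf] using hfP x x.2
    have hF : Function.Surjective F := by
      refine LinearMap.injective_iff_surjective.1 ((injective_iff_map_eq_zero F).2 fun x hx => ?_)
      by_contra hx0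
      refine hall x x.2 (fun e => hx0 (Subtype.ext e)) ?_
      have := congrArg Subtype.val hx
      simpa [F, sub_mulVec, smul_mulVec, sub_eq_zero] using this
    have hall' : ∀ y ∈ P, ∃ ε : K, B *ᵥ y = ε • y := by
      intro y hy
      obtain ⟨x, hx⟩ := hF ⟨y - u, Submodule.sub_mem _ hy hu⟩
      have hx' : f x.1 = y - u := by
        have := congrArg Subtype.val hx
        simpa [F, sub_mulVec, smul_mulVec, hf] using this
      obtain ⟨ε, hε⟩ := key x.1 x.2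
      exact ⟨ε, by simpa [hx'] using hε⟩
    obtain ⟨ε, hε⟩ := hall' v hvP
    exact hBv ε hε
  -- the image is a line
  obtain ⟨l, hl⟩ : ∃ l, l = f v := ⟨_, rfl⟩
  have hl0 : l ≠ 0 := by
    rw [hl, hf, sub_ne_zero]
    exact hBv γ
  have hvk : P ≤ Submodule.span K {v, k} := by
    intro x hx
    rw [hP] at hk hx
    obtain ⟨a, b, rfl⟩ := Submodule.mem_span_pair.1 hk
    obtain ⟨s, t, rfl⟩ := Submodule.mem_span_pair.1 hx
    have hb : b ≠ 0 := by
      rintro rfl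
      rw [zero_smul, add_zero, mulVec_smul, smul_comm] at hkγ
      rw [zero_smul, add_zero, smul_ne_zero_iff] at hk0
      exact hBv γ (smul_right_injective _ hk0.1 hkγ)
    refine Submodule.mem_span_pair.2 ⟨s - t / b * a, t / b, ?_⟩
    rw [smul_add, smul_smul, smul_smul, div_mul_cancel₀ _ hb]
    module
  have hfline : ∀ x ∈ P, ∃ c : K, f x = c • l := by
    intro x hx
    obtain ⟨s, t, rfl⟩ := Submodule.mem_span_pair.1 (hvk hx)
    exact ⟨s, by rw [hl, hf, hf, mulVec_add, mulVec_smul, mulVec_smul, hkγ]; module⟩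
  obtain ⟨e, he⟩ : ∃ e : K, B *ᵥ l = e • l := by
    obtain ⟨c, hc⟩ := hfline l (hl ▸ hfP v hvP)
    exact ⟨c + γ, by rw [hf, sub_eq_iff_eq_add] at hc; rw [hc, add_smul]⟩
  obtain ⟨c₀, hc₀⟩ : ∃ c₀ : K, u = c₀ • l := by
    by_contra hall
    push Not at hall
    obtain ⟨ε₁, h1⟩ := key 0 (Submodule.zero_mem _)
    have hf0 : f 0 = 0 := by rw [hf, mulVec_zero, smul_zero, sub_zero]
    rw [hf0, add_zero] at h1
    obtain ⟨ε₂, h2⟩ := key v hvP
    rw [← hl, mulVec_add, h1, he] at h2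
    have h5 : (ε₁ - ε₂) • u = (ε₂ - e) • l := by linear_combination (norm := module) h2
    have h6 : ε₁ = ε₂ := by
      by_contra h
      refine hall ((ε₁ - ε₂)⁻¹ * (ε₂ - e)) ?_
      rw [← smul_smul, ← h5, smul_smul, inv_mul_cancel₀ (sub_ne_zero.2 h), one_smul]
    rw [h6, sub_self, zero_smul, eq_comm, smul_eq_zero, sub_eq_zero] at h5
    have h7 : e = ε₁ := by rw [h6, h5.resolve_right hl0]
    have hu0 : u ≠ 0 := fun h => hall 0 (by rw [h, zero_smul])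
    have hspan : P ≤ Submodule.span K {l, u} := by
      have hli := indep_pair hl0 hall
      have hle : Submodule.span K (Set.range ![l, u]) ≤ P := by
        rw [Submodule.span_le]
        rintro _ ⟨i, rfl⟩
        fin_cases i
        exacts [hl ▸ hfP v hvP, hu]
      have := Submodule.eq_of_le_of_finrank_eq hle (by
        rw [finrank_span_eq_card hli, Fintype.card_fin, hdimP])
      rw [← this]
      simp [Set.pair_comm]
    obtain ⟨a, b, hab⟩ := Submodule.mem_span_pair.1 (hspan hvP)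
    refine hBv ε₁ ?_
    rw [← hab, mulVec_add, mulVec_smul, mulVec_smul, he, h1, h7]
    module
  refine ⟨γ, low_iff.2 (le_trans (Submodule.finrank_mono ?_) (SLComm.finrank_span_singleton_le l))⟩
  rintro _ ⟨y, rfl⟩
  obtain ⟨x, hx, y', hy', rfl⟩ := Submodule.mem_sup.1 (htop.symm ▸ Submodule.mem_top :
    y ∈ P ⊔ Submodule.span K {z})
  obtain ⟨s, rfl⟩ := Submodule.mem_span_singleton.1 hy'
  obtain ⟨c, hc⟩ := hfline x hx
  refine Submodule.mem_span_singleton.2 ⟨c + s * c₀, ?_⟩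
  rw [hf] at hc
  rw [mulVecLin_apply, sub_mulVec, smul_mulVec, one_mulVec, mulVec_add, mulVec_smul, hBz, hc₀]
  linear_combination (norm := module) -hc

variable [Fintype K]

/-- the step for three by three matrices -/
theorem step_three (h4 : 4 ≤ Fintype.card K) {σ : K} (hσ : σ ≠ 0) {a φ : Fin 3 → K}
    (hA : ¬ IsSc (ro σ a φ)) (hl : σ + φ ⬝ᵥ a ≠ 0) {B : Matrix (Fin 3) (Fin 3) K} (hB : ¬ IsSc B)
    (hL : ¬ Low (σ ^ 3) B) (hd : B.det = (ro σ a φ).det ^ 3) :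
    ∃ Φ : Matrix (Fin 2) (Fin 2) K, Nonempty (Step (ro σ a φ) B (σ ^ 2) Φ) ∧ ¬ IsSc Φ ∧
      (φ ⬝ᵥ a ≠ 0 ∨ Φ.trace ≠ 2 * σ ^ 2) := by
  have hAd : (ro σ a φ).det ≠ 0 := by
    rw [det_ro σ hσ, show (1 : K) + σ⁻¹ * (φ ⬝ᵥ a) = σ⁻¹ * (σ + φ ⬝ᵥ a) by field_simp]
    exact mul_ne_zero (pow_ne_zero _ hσ) (mul_ne_zero (inv_ne_zero hσ) hl)
  have hBd : B.det ≠ 0 := hd ▸ pow_ne_zero _ hAd
  have hρ : (σ : K) ^ 2 ≠ 0 := pow_ne_zero 2 hσ
  by_cases hc : φ ⬝ᵥ a = 0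
  swap
  · obtain ⟨Φ, h1, h2⟩ := exists_step_nsc h4 le_rfl hA hAd hB hBd hρ
    exact ⟨Φ, h2, h1, Or.inl hc⟩
  have hdΦ : ∀ {Φ : Matrix (Fin 2) (Fin 2) K}, Step (ro σ a φ) B (σ ^ 2) Φ →
      Φ.det = (σ ^ 2) ^ 2 := fun s => by
    refine mul_left_cancel₀ hρ ?_
    rw [s.det_eq, hd, det_ro σ hσ, hc]
    field_simp
    ring
  by_cases h3 : Deg3 B
  · obtain ⟨v, hv, hBv, hoff⟩ := h3
    obtain ⟨v', hv', hAv⟩ := exists_noneig' h4 (by omega) hA
    obtain ⟨w, hw'⟩ : ∃ w, w = (σ ^ 2)⁻¹ • (B *ᵥ v) := ⟨_, rfl⟩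
    have hBw : B *ᵥ v = σ ^ 2 • w := by rw [hw', smul_smul, mul_inv_cancel₀ hρ, one_smul]
    have hw : ∀ t : K, w ≠ t • v := fun t ht => hBv (σ ^ 2 * t) (by rw [hBw, ht, smul_smul])
    obtain ⟨g, hg, -, hgw⟩ := exists_cj_map le_rfl hv' hAv hv hw
    obtain ⟨τ, -, hτ1, hτ2⟩ := exists_avoid_two h4 (2 * σ ^ 2) (-(2 * σ ^ 2))
    obtain ⟨Φ, ⟨s⟩, hΦ⟩ := exists_step_trace le_rfl hAd hBd hρ hg hv hw hBw hgw (Or.inr fun h => by
      refine hoff ?_
      obtain ⟨p, q, hpq⟩ := Submodule.mem_span_pair.1 h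
      refine Submodule.mem_span_pair.2 ⟨σ ^ 2 * p, q, ?_⟩
      rw [hBw, mulVec_smul, ← hpq]
      module) τ
    refine ⟨Φ, ⟨s⟩, fun ⟨c, hc'⟩ => ?_, Or.inr (hΦ ▸ hτ1)⟩
    have h1 := hdΦ s
    have h2 := hΦ
    rw [hc', det_smul, Fintype.card_fin, det_one, mul_one] at h1
    rw [hc', trace_smul, trace_one, Fintype.card_fin, smul_eq_mul] at h2
    push_cast at h2
    rcases sq_eq_sq_iff_eq_or_eq_neg.1 h1 with e | e <;> subst e
    · exact hτ1 (by rw [← h2]; ring)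
    · exact hτ2 (by rw [← h2]; ring)
  · obtain ⟨γ, b, ψ, hγ⟩ := low_of_three h4 hB h3
    obtain ⟨Φ, h1, ⟨s⟩⟩ := exists_step_nsc h4 le_rfl hA hAd hB hBd hρ
    refine ⟨Φ, ⟨s⟩, h1, Or.inr fun htr => hL ?_⟩
    obtain ⟨X, hX⟩ : ∃ X, X = cj s.gX (ro σ a φ) := ⟨_, rfl⟩
    obtain ⟨y, hy, hy1, hy2⟩ := exists_perp (v := ψ) (w := φ ᵥ* s.gX⁻¹.1) (n := 3) le_rfl
    have hXy : X *ᵥ y = σ • y := by
      rw [hX, cj_ro, ro_mulVec, dotProduct_comm, hy2, zero_smul, add_zero]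
    have hBy : B *ᵥ y = γ • y := by
      rw [hγ, ro_mulVec, dotProduct_comm, hy1, zero_smul, add_zero]
    have hTy : (X⁻¹ * B) *ᵥ y = (γ / σ) • y := by
      rw [← mulVec_mulVec, hBy]
      refine inv_mulVec_eq (by rw [hX, det_cj]; exact hAd) ?_
      rw [mulVec_smul, hXy, smul_smul, div_mul_cancel₀ _ hσ]
    have hcp : (X⁻¹ * B).charpoly = (Polynomial.X - Polynomial.C (σ ^ 2)) * Φ.charpoly := by
      have h := (charpoly_units_conj s.Q⁻¹ (X⁻¹ * B)).symm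
      rw [h, ← coe_units_inv, show s.Q⁻¹.1 * (X⁻¹ * B) * s.Q⁻¹⁻¹.1 = cj s.Q⁻¹ (X⁻¹ * B) from rfl, hX,
        s.hT, ← charpoly_transpose, SLComm.bord_transpose, charpoly_bord, charpoly_transpose]
    have hev := eval_charpoly_of_eigen hy hTy
    rw [hcp, charpoly_fin_two, htr, hdΦ s] at hev
    simp only [eval_mul, eval_add, eval_sub, eval_pow, eval_X, eval_C] at hev
    have h5 : (γ / σ - σ ^ 2) ^ 3 = 0 := by linear_combination hev
    have h6 : γ = σ ^ 3 := by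
      have := sub_eq_zero.1 (eq_zero_of_pow_eq_zero h5)
      rw [div_eq_iff hσ] at this
      rw [this]; ring
    exact ⟨b, ψ, h6 ▸ hγ⟩

/-- the step from dimension four on -/
theorem step_big (h4 : 4 ≤ Fintype.card K) (hn : 3 ≤ n) {σ : K} (hσ : σ ≠ 0)
    {a φ : Fin (n + 1) → K} (ha : a ≠ 0) (hφ : φ ≠ 0) (hl : σ + φ ⬝ᵥ a ≠ 0)
    {B : Matrix (Fin (n + 1)) (Fin (n + 1)) K} (hB : ¬ IsSc B)
    (hL : ¬ Low (σ ^ (n + 1)) B) (hd : B.det = (ro σ a φ).det ^ (n + 1)) :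
    ∃ Φ : Matrix (Fin n) (Fin n) K, Nonempty (Step (ro σ a φ) B (σ ^ n) Φ) ∧ ¬ IsSc Φ ∧
      ¬ Low (σ ^ n) Φ := by
  have hAd : (ro σ a φ).det ≠ 0 := by
    rw [det_ro σ hσ, show (1 : K) + σ⁻¹ * (φ ⬝ᵥ a) = σ⁻¹ * (σ + φ ⬝ᵥ a) by field_simp]
    exact mul_ne_zero (pow_ne_zero _ hσ) (mul_ne_zero (inv_ne_zero hσ) hl)
  obtain ⟨ρ, hρ'⟩ : ∃ ρ, ρ = σ ^ n := ⟨_, rfl⟩
  have hρ : ρ ≠ 0 := hρ' ▸ pow_ne_zero n hσ
  obtain ⟨κ, hκ⟩ : ∃ κ, κ = σ * ρ := ⟨_, rfl⟩
  obtain ⟨M, hM⟩ : ∃ M, M = B - κ • (1 : Matrix (Fin (n + 1)) (Fin (n + 1)) K) := ⟨_, rfl⟩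
  rw [← hρ']
  have hrk : 2 ≤ finrank K (img M) := by
    by_contra h
    refine hL (low_iff.2 ?_)
    rw [show σ ^ (n + 1) = κ by rw [hκ, hρ', pow_succ']]
    rw [← hM]
    omega
  obtain ⟨v, hvM, hv, hBv⟩ := exists_noneig hB Finset.univ
    (if img M = ⊤ then [] else [img M]) (by
      split <;> simp [Finset.card_univ] <;> omega) (by split <;> simp_all) (by omega)
  have hvM' : img M ≠ ⊤ → v ∉ img M := fun h => hvM _ (by rw [if_neg h]; simp)
  obtain ⟨a', ha'⟩ : ∃ a', a' = ρ⁻¹ • (M *ᵥ v) := ⟨_, rfl⟩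
  have hMx : ∀ x, M *ᵥ x = B *ᵥ x - κ • x := fun x => by
    rw [hM, sub_mulVec, smul_mulVec, one_mulVec]
  obtain ⟨w, hw'⟩ : ∃ w, w = ρ⁻¹ • (B *ᵥ v) := ⟨_, rfl⟩
  have hBw : B *ᵥ v = ρ • w := by rw [hw', smul_smul, mul_inv_cancel₀ hρ, one_smul]
  have hw : ∀ t : K, w ≠ t • v := fun t ht => hBv (ρ * t) (by rw [hBw, ht, smul_smul])
  have hwa : w = σ • v + a' := by
    rw [ha', hMx, hw', hκ, smul_sub, smul_smul, show ρ⁻¹ * (σ * ρ) = σ by field_simp]
    abel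
  have hav : ∀ t : K, a' ≠ t • v := fun t ht => hw (σ + t) (by rw [hwa, ht, add_smul])
  have ha0 : a' ≠ 0 := fun h => hav 0 (by rw [h, zero_smul])
  obtain ⟨P, hP⟩ : ∃ P, P = Submodule.span K {v} ⊔ Submodule.span K {a'} := ⟨_, rfl⟩
  obtain ⟨z, hzP, hzk⟩ : ∃ z, z ∉ P ∧ (finrank K (img M) ≤ 2 → M *ᵥ z = 0) := by
    by_cases h2 : finrank K (img M) ≤ 2
    · have hker := LinearMap.finrank_range_add_finrank_ker M.mulVecLin
      rw [finrank_fin_fun] at hker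
      change finrank K (img M) + _ = _ at hker
      by_contra hall
      push Not at hall
      have hle : LinearMap.ker M.mulVecLin ≤ P := fun x hx => by
        by_contra hxP
        obtain ⟨-, h⟩ := hall x hxP
        exact h (LinearMap.mem_ker.1 hx)
      have hproper : img M ≠ ⊤ := fun h => by
        rw [h, finrank_top, finrank_fin_fun] at h2; omega
      have hlt : LinearMap.ker M.mulVecLin < P := by
        refine lt_of_le_of_ne hle fun he => ?_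
        have hv0 : M *ᵥ v = 0 := LinearMap.mem_ker.1 (by
          rw [he, hP]; exact Submodule.mem_sup_left (Submodule.mem_span_singleton_self v))
        exact hBv κ (by rw [hMx, sub_eq_zero] at hv0; exact hv0)
      have h5 := Submodule.finrank_lt_finrank_of_lt hlt
      have h6 := SLComm.finrank_pair_le (K := K) v a'
      rw [hP] at h5
      omega
    · obtain ⟨z, -, hz⟩ := SetLike.exists_of_lt (SLComm.ne_top_of_finrank (p := P)
        (hP ▸ lt_of_le_of_lt (SLComm.finrank_pair_le v a') (by omega))).lt_top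
      exact ⟨z, hz, fun h => absurd h h2⟩
  obtain ⟨d, hd0, hdz⟩ := SLComm.exists_functional hzP
  obtain ⟨φ₀, hφv, hφa⟩ := exists_dual_two hv hav 1 (φ ⬝ᵥ a)
  have hdv : d ⬝ᵥ v = 0 := hd0 v (hP ▸ Submodule.mem_sup_left (Submodule.mem_span_singleton_self v))
  have hda : d ⬝ᵥ a' = 0 :=
    hd0 a' (hP ▸ Submodule.mem_sup_right (Submodule.mem_span_singleton_self a'))
  -- the one parameter family
  have fam : ∀ t : K, t ≠ 0 → ∃ (φ' : Fin (n + 1) → K) (Φ : Matrix (Fin n) (Fin n) K)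
      (s : Step (ro σ a φ) B ρ Φ),
      φ' = φ₀ + ((t - φ₀ ⬝ᵥ z) / (d ⬝ᵥ z)) • d ∧ cj s.gX (ro σ a φ) = ro σ a' φ' ∧
      cj s.gX (ro σ a φ) *ᵥ s.v = w ∧ ¬ Low ρ Φ := by
    intro t ht
    obtain ⟨φ', hφ'⟩ : ∃ φ', φ' = φ₀ + ((t - φ₀ ⬝ᵥ z) / (d ⬝ᵥ z)) • d := ⟨_, rfl⟩
    have h1 : φ' ⬝ᵥ v = 1 := by
      rw [hφ', add_dotProduct, smul_dotProduct, hdv, smul_zero, add_zero, hφv]
    have h2 : φ' ⬝ᵥ a' = φ ⬝ᵥ a := by
      rw [hφ', add_dotProduct, smul_dotProduct, hda, smul_zero, add_zero, hφa]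
    have h3 : φ' ⬝ᵥ z = t := by
      rw [hφ', add_dotProduct, smul_dotProduct, smul_eq_mul, div_mul_cancel₀ _ hdz]; ring
    obtain ⟨g, hg, hgc⟩ := conj_ro (by omega) σ ha hφ ha0 (b := a') (φ' := φ')
      (fun e => by rw [e, zero_dotProduct] at h1; exact zero_ne_one h1) h2.symm
    have hXv : cj g (ro σ a φ) *ᵥ v = w := by rw [hgc, ro_mulVec, h1, one_smul, hwa]
    obtain ⟨Φ, s, hsg, hsv, -⟩ := exists_step_of (by omega) hAd hρ hg hv hw hBw hXv
    refine ⟨φ', Φ, s, hφ', hsg ▸ hgc, hsg ▸ hsv ▸ hXv, fun hlow => ?_⟩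
    obtain ⟨b, ψ, hb⟩ := hlow
    obtain ⟨z₀, hz₀⟩ : ∃ z₀, z₀ = cj g (ro σ a φ) *ᵥ (s.Q.1 *ᵥ vecCons 0 b) := ⟨_, rfl⟩
    obtain ⟨H, hH⟩ : ∃ H, H = LinearMap.ker (SLComm.dotL φ') := ⟨_, rfl⟩
    have hin : H.map M.mulVecLin ⊔ Submodule.span K {w} ≤
        Submodule.span K {w} ⊔ Submodule.span K {z₀} := by
      refine sup_le ?_ le_sup_left
      rintro _ ⟨x, hx, rfl⟩
      rw [hH, SetLike.mem_coe, SLComm.mem_ker_dotL] at hx
      obtain ⟨c, hc⟩ : ∃ c : K, c = ψ ⬝ᵥ vecTail (s.Q⁻¹.1 *ᵥ x) := ⟨_, rfl⟩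
      obtain ⟨T, hT⟩ : ∃ T, T = (cj g (ro σ a φ))⁻¹ * B := ⟨_, rfl⟩
      have hq := (quot_apply s.hT x).trans
        (congrArg (fun Φ' => Φ' *ᵥ vecTail (s.Q⁻¹.1 *ᵥ x)) hb)
      simp only [hsg, ← hT, ro_mulVec, ← hc] at hq
      have h4' : vecTail (s.Q⁻¹.1 *ᵥ (T *ᵥ x - ρ • x - c • (s.Q.1 *ᵥ vecCons 0 b))) = 0 := by
        rw [mulVec_sub, mulVec_sub, mulVec_smul, mulVec_smul, SLComm.gl_inv_mulVec]
        ext i
        have := congrFun hq i
        simp only [vecTail, Function.comp_apply, Pi.sub_apply, Pi.smul_apply, Pi.add_apply,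
          Pi.zero_apply, cons_val_succ] at this ⊢
        rw [this]; ring
      obtain ⟨e, he⟩ : ∃ e : K, T *ᵥ x - ρ • x - c • (s.Q.1 *ᵥ vecCons 0 b) = e • s.v :=
        ⟨_, of_tail_zero s.hQ0 h4'⟩
      have h5 := congrArg (fun y => cj g (ro σ a φ) *ᵥ y) he
      simp only [hT, mulVec_sub, mulVec_smul, hsv, hXv, ← hz₀, mulVec_mulVec] at h5
      rw [← Matrix.mul_assoc, Matrix.mul_nonsing_inv _ (isUnit_det_cj hAd g), Matrix.one_mul,
        hgc, ro_mulVec, hx, zero_smul, add_zero] at h5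
      have h6 : M *ᵥ x = e • w + c • z₀ := by
        rw [hMx, hκ, ← h5]
        module
      rw [mulVecLin_apply, h6]
      exact Submodule.add_mem _ (Submodule.mem_sup_left (Submodule.smul_mem _ _
        (Submodule.mem_span_singleton_self w))) (Submodule.mem_sup_right (Submodule.smul_mem _ _
        (Submodule.mem_span_singleton_self z₀)))
    have hup := le_trans (Submodule.finrank_mono hin) (SLComm.finrank_pair_le w z₀)
    have himg : img M ≤ H.map M.mulVecLin ⊔ Submodule.span K {M *ᵥ v} := by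
      rintro _ ⟨x, rfl⟩
      refine Submodule.mem_sup.2 ⟨M *ᵥ (x - (φ' ⬝ᵥ x) • v), ⟨_, ?_, rfl⟩, (φ' ⬝ᵥ x) • (M *ᵥ v),
        Submodule.smul_mem _ _ (Submodule.mem_span_singleton_self _), ?_⟩
      · rw [hH, SetLike.mem_coe, SLComm.mem_ker_dotL, dotProduct_sub, dotProduct_smul, h1,
          smul_eq_mul, mul_one, sub_self]
      · rw [mulVecLin_apply, mulVec_sub, mulVec_smul, sub_add_cancel]
    have hdim : finrank K (img M) ≤ finrank K (H.map M.mulVecLin) + 1 := by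
      refine le_trans (Submodule.finrank_mono himg) (le_trans (SLComm.finrank_sup_le _ _) ?_)
      have := SLComm.finrank_span_singleton_le (K := K) (M *ᵥ v)
      omega
    by_cases htop : img M = ⊤
    · rw [htop, finrank_top, finrank_fin_fun] at hdim
      have := Submodule.finrank_mono
        (le_sup_left : H.map M.mulVecLin ≤ H.map M.mulVecLin ⊔ Submodule.span K {w})
      omega
    have hwM : w ∉ img M := by
      intro hw
      refine hvM' htop ?_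
      have h7 : a' ∈ img M := ha' ▸ Submodule.smul_mem _ _ ⟨v, rfl⟩
      have h8 : σ • v ∈ img M := (Submodule.add_mem_iff_left _ h7).1 (hwa ▸ hw)
      exact (Submodule.smul_mem_iff _ hσ).1 h8
    have hlt : H.map M.mulVecLin < H.map M.mulVecLin ⊔ Submodule.span K {w} :=
      left_lt_sup.2 fun h => hwM (LinearMap.map_le_range (h (Submodule.mem_span_singleton_self w)))
    have hlt' := Submodule.finrank_lt_finrank_of_lt hlt
    by_cases h2' : finrank K (img M) ≤ 2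
    · have hzero := hzk h2'
      have hsub : img M ≤ H.map M.mulVecLin := by
        refine le_trans himg (sup_le le_rfl ((Submodule.span_singleton_le_iff_mem _ _).2
          ⟨v - t⁻¹ • z, ?_, ?_⟩))
        · rw [hH, SetLike.mem_coe, SLComm.mem_ker_dotL, dotProduct_sub, dotProduct_smul, h1, h3,
            smul_eq_mul, inv_mul_cancel₀ ht, sub_self]
        · rw [mulVecLin_apply, mulVec_sub, mulVec_smul, hzero, smul_zero, sub_zero]
      have := Submodule.finrank_mono hsub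
      omega
    · omega
  obtain ⟨t₁, ht₁, -, -⟩ := exists_avoid_two h4 0 0
  obtain ⟨t₂, ht₂, ht₁₂, -⟩ := exists_avoid_two h4 t₁ t₁
  obtain ⟨φ₁, Φ₁, s₁, hφ₁, hX₁, hv₁, hL₁⟩ := fam t₁ ht₁
  by_cases h1 : IsSc Φ₁
  swap
  · exact ⟨Φ₁, ⟨s₁⟩, h1, hL₁⟩
  obtain ⟨φ₂, Φ₂, s₂, hφ₂, hX₂, hv₂, hL₂⟩ := fam t₂ ht₂
  refine ⟨Φ₂, ⟨s₂⟩, fun h2 => ?_, hL₂⟩
  obtain ⟨c₁, hc₁⟩ := h1
  obtain ⟨c₂, hc₂⟩ := h2
  have key : ∀ x, ∃ e : K,
      ((c₁ - c₂) * σ) • x + (c₁ * (φ₁ ⬝ᵥ x) - c₂ * (φ₂ ⬝ᵥ x)) • a' = e • w := by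
    intro x
    obtain ⟨e₁, he₁⟩ := s₁.scalar hAd hc₁ x
    obtain ⟨e₂, he₂⟩ := s₂.scalar hAd hc₂ x
    rw [hv₁, hX₁, ro_mulVec] at he₁
    rw [hv₂, hX₂, ro_mulVec, he₁] at he₂
    exact ⟨e₂ - e₁, by linear_combination (norm := module) he₂⟩
  have hc : c₁ = c₂ := by
    by_contra hne
    obtain ⟨x, -, hx⟩ := SetLike.exists_of_lt (SLComm.ne_top_of_finrank
      (p := Submodule.span K {a'} ⊔ Submodule.span K {w})
      (lt_of_le_of_lt (SLComm.finrank_pair_le a' w) (by omega))).lt_top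
    obtain ⟨e, he⟩ := key x
    refine hx ((Submodule.smul_mem_iff _ (mul_ne_zero (sub_ne_zero.2 hne) hσ)).1 ?_)
    rw [← eq_sub_iff_add_eq] at he
    rw [he]
    exact Submodule.sub_mem _ (Submodule.mem_sup_right (Submodule.smul_mem _ _
      (Submodule.mem_span_singleton_self w))) (Submodule.mem_sup_left (Submodule.smul_mem _ _
      (Submodule.mem_span_singleton_self a')))
  subst hc
  have hc0 : c₁ ≠ 0 := by
    rintro rfl
    have h9 := s₁.det_eq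
    haveI : Nonempty (Fin n) := ⟨⟨0, by omega⟩⟩
    rw [hc₁, zero_smul, det_zero, mul_zero, eq_comm, mul_eq_zero] at h9
    exact h9.elim (inv_ne_zero hAd) (hd ▸ pow_ne_zero _ hAd)
  obtain ⟨e, he⟩ := key z
  rw [sub_self, zero_mul, zero_smul, zero_add, hφ₁, hφ₂] at he
  simp only [add_dotProduct, smul_dotProduct, smul_eq_mul, div_mul_cancel₀ _ hdz] at he
  rw [hwa, smul_add, smul_smul] at he
  have h10 : (e * σ) • v = (c₁ * (t₁ - t₂) - e) • a' := by linear_combination (norm := module) -he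
  rcases eq_or_ne e 0 with rfl | he0
  · rw [zero_mul, zero_smul, sub_zero, eq_comm, smul_eq_zero] at h10
    exact h10.elim (fun h => (mul_eq_zero.1 h).elim hc0 fun h => ht₁₂ (sub_eq_zero.1 h).symm) ha0
  · rcases eq_or_ne (c₁ * (t₁ - t₂) - e) 0 with h | h
    · rw [h, zero_smul, smul_eq_zero] at h10
      exact h10.elim (mul_ne_zero he0 hσ) hv
    · exact hav ((c₁ * (t₁ - t₂) - e)⁻¹ * (e * σ))
        (by rw [← smul_smul, h10, smul_smul, inv_mul_cancel₀ h, one_smul])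

/-- a free product of `n` conjugates -/
theorem ro_free (h4 : 4 ≤ Fintype.card K) {σ : K} (hσ : σ ≠ 0) :
    ∀ (n : ℕ), 2 ≤ n → ∀ (a φ : Fin n → K), a ≠ 0 → φ ≠ 0 → σ + φ ⬝ᵥ a ≠ 0 →
    ∀ B : Matrix (Fin n) (Fin n) K, B.det = (ro σ a φ).det ^ n → ¬ IsSc B →
    (n = 2 → φ ⬝ᵥ a ≠ 0 ∨ B.trace ≠ 2 * σ ^ 2) → (3 ≤ n → ¬ Low (σ ^ n) B) →
    CP (ro σ a φ) n B (fun μ => μ = σ) ∧ (3 ≤ n → SP (ro σ a φ) n B (fun μ => μ = σ)) := by
  intro n
  induction n with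
  | zero => intro h; omega
  | succ n ih =>
    intro hn a φ ha hφ hl B hd hB h2 h3
    have hA : ¬ IsSc (ro σ a φ) := by
      intro hs
      have h := low_of_isSc (κ := σ) (by omega) hs ⟨a, φ, rfl⟩
      obtain ⟨i, hi⟩ := Function.ne_iff.1 hφ
      have := congrArg (fun M => M *ᵥ Pi.single i 1) h
      simp only [ro_mulVec, smul_mulVec, one_mulVec, add_eq_left, dotProduct_single, mul_one,
        smul_eq_zero] at this
      exact this.elim hi ha
    have hAd : (ro σ a φ).det ≠ 0 := by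
      rw [det_ro σ hσ, show (1 : K) + σ⁻¹ * (φ ⬝ᵥ a) = σ⁻¹ * (σ + φ ⬝ᵥ a) by field_simp]
      exact mul_ne_zero (pow_ne_zero _ hσ) (mul_ne_zero (inv_ne_zero hσ) hl)
    rcases Nat.lt_or_ge n 2 with hn1 | hn2
    · obtain rfl : n = 1 := by omega
      refine ⟨?_, fun h => absurd h (by omega)⟩
      obtain ⟨g, hg, hfree⟩ := two_eig h4 hA hB hσ hl (ν := σ + φ ⬝ᵥ a)
        (by rw [det_ro σ hσ]; field_simp) (by
          rw [ro, trace_add, trace_smul, trace_one, trace_vecMulVec, Fintype.card_fin, smul_eq_mul,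
            dotProduct_comm a φ]
          push_cast
          ring) hd
      refine ⟨g, hg, fun μ hμ => hμ ▸ hfree ?_⟩
      rcases h2 rfl with h | h
      · exact Or.inl fun e => h (left_eq_add.1 e)
      · by_cases hc : φ ⬝ᵥ a = 0
        · exact Or.inr fun e => h (by rw [e, hc, add_zero]; ring)
        · exact Or.inl fun e => hc (left_eq_add.1 e)
    obtain ⟨P, a₀, a', φ', hP, ha', hφ', he⟩ := ro_quot hn2 σ ha hφ
    have key : ∀ {Φ : Matrix (Fin n) (Fin n) K}, Step (ro σ a φ) B (σ ^ n) Φ → ¬ IsSc Φ →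
        (n = 2 → φ ⬝ᵥ a ≠ 0 ∨ Φ.trace ≠ 2 * σ ^ 2) → (3 ≤ n → ¬ Low (σ ^ n) Φ) →
        SP (ro σ a φ) (n + 1) B (fun μ => μ = σ) := fun {Φ} s h1 h2' h3' => by
      refine s.prod hP hσ hAd (P' := fun μ => μ = σ) rfl (fun _ h => h)
        (ih hn2 a' φ' ha' hφ' (he ▸ hl) Φ ?_ h1 (fun h => he ▸ h2' h) h3').1
      have h := s.det_eq
      have hdA : (ro σ a φ).det = σ * (ro σ a' φ').det := by
        rw [← det_cj P, hP, det_bord_upper]
      rw [hd, pow_succ', ← mul_assoc, inv_mul_cancel₀ hAd, one_mul, hdA, mul_pow] at h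
      exact mul_left_cancel₀ (pow_ne_zero n hσ) h
    have main : SP (ro σ a φ) (n + 1) B (fun μ => μ = σ) := by
      rcases eq_or_ne n 2 with rfl | hn3
      · obtain ⟨Φ, ⟨s⟩, hΦ, hcond⟩ := step_three h4 hσ hA hl hB (h3 le_rfl) hd
        exact key s hΦ (fun _ => hcond) (fun h => absurd h (by omega))
      · obtain ⟨Φ, ⟨s⟩, hΦ, hlow⟩ := step_big h4 (by omega) hσ ha hφ hl hB (h3 (by omega)) hd
        exact key s hΦ (fun h => absurd h hn3) (fun _ => hlow)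
    exact ⟨main.toCP, fun _ => main⟩

/-- products of `n` conjugates of scalar plus rank one -/
theorem ro_main (h4 : 4 ≤ Fintype.card K) (hn : 3 ≤ n) {σ : K} (hσ : σ ≠ 0) {a φ : Fin n → K}
    (ha : a ≠ 0) (hφ : φ ≠ 0) (hl : σ + φ ⬝ᵥ a ≠ 0) {B : Matrix (Fin n) (Fin n) K}
    (hd : B.det = (ro σ a φ).det ^ n) (hB : ¬ IsSc B) : SP (ro σ a φ) n B noV := by
  by_cases hL : Low (σ ^ n) B
  · obtain ⟨b, ψ, rfl⟩ := hL
    refine ro_prod hn h4 hσ ha hφ hl (fun h => hB ⟨σ ^ n, by rw [ro, h, zero_vecMulVec, add_zero]⟩)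
      (by omega) hd
  · exact ((ro_free h4 hσ n (by omega) a φ ha hφ hl B hd hB (by omega) (fun _ => hL)).2 hn).mono
      fun _ h => h.elim

end Cfsg.Agent.LevCover
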