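/-
Covering number of PSL(n,q): split matrices which are far from scalars.
-/
import Cfsg.Agent.Lib.LevCover.RankOneRec
import Cfsg.Agent.Lib.LevCover.Four
import Cfsg.Agent.Lib.LevCover.Good

set_option autoImplicit false

namespace Cfsg.Agent.LevCover

open Polynomial Matrix Module
open Cfsg.Agent.SLComm (Cyc bord img eigen)

variable {K : Type*} [Field K] {n : ℕ}

theorem quot_charpoly {T : Matrix (Fin (n + 1)) (Fin (n + 1)) K} {Q : GL (Fin (n + 1)) K} {ρ : K}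
    {r : Fin n → K} {Φ : Matrix (Fin n) (Fin n) K} (h : cj Q⁻¹ T = bord ρ r 0 Φ) :
    T.charpoly = (X - C ρ) * Φ.charpoly := by
  rw [← charpoly_cj Q⁻¹ T, h, ← charpoly_transpose, SLComm.bord_transpose, charpoly_bord,
    charpoly_transpose]

theorem quot_splits {T : Matrix (Fin (n + 1)) (Fin (n + 1)) K} {Q : GL (Fin (n + 1)) K} {ρ : K}
    {r : Fin n → K} {Φ : Matrix (Fin n) (Fin n) K} (h : cj Q⁻¹ T = bord ρ r 0 Φ)
    (hs : T.charpoly.Splits) : Φ.charpoly.Splits :=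
  hs.of_dvd T.charpoly_monic.ne_zero (quot_charpoly h ▸ dvd_mul_left _ _)

theorem eigen_ne_zero {A : Matrix (Fin n) (Fin n) K} (hd : A.det ≠ 0) {μ : K}
    (h : A.charpoly.eval μ = 0) : μ ≠ 0 := by
  rintro rfl
  obtain ⟨x, hx, hx'⟩ := exists_eigen h
  exact hd (Matrix.exists_mulVec_eq_zero_iff.1 ⟨x, hx, by rw [hx', zero_smul]⟩)

/-- a scalar quotient forces scalar plus rank one -/
theorem low_of_quot {T : Matrix (Fin (n + 1)) (Fin (n + 1)) K} {Q : GL (Fin (n + 1)) K} {ρ : K}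
    {r : Fin n → K} {Φ : Matrix (Fin n) (Fin n) K} (h : cj Q⁻¹ T = bord ρ r 0 Φ)
    {v : Fin (n + 1) → K} (h0 : Q.1 *ᵥ vecCons 1 0 = v) (hΦ : IsSc Φ) : ∃ κ : K, Low κ T := by
  obtain ⟨c, hc⟩ := hΦ
  refine ⟨c, low_iff.2 (le_trans (Submodule.finrank_mono ?_) (SLComm.finrank_span_singleton_le v))⟩
  rintro _ ⟨x, rfl⟩
  obtain ⟨a, ha⟩ := quot_scalar h h0 hc x
  exact Submodule.mem_span_singleton.2 ⟨a, by
    rw [mulVecLin_apply, sub_mulVec, smul_mulVec, one_mulVec, ha, add_sub_cancel_left]⟩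

/-- a non-scalar quotient of a split matrix -/
theorem exists_nsc_quot (hn : 2 ≤ n) {A : Matrix (Fin (n + 1)) (Fin (n + 1)) K}
    (hA : ¬ IsSc A) (hd : A.det ≠ 0) (hs : A.charpoly.Splits) :
    ∃ (μ : K) (P : GL (Fin (n + 1)) K) (a₀ : Fin n → K) (A' : Matrix (Fin n) (Fin n) K),
      μ ≠ 0 ∧ cj P A = bord μ a₀ 0 A' ∧ ¬ IsSc A' := by
  by_cases hR : ∃ κ : K, Low κ A
  · obtain ⟨σ, a, φ, rfl⟩ := hR
    have hσ : σ ≠ 0 := by
      rintro rfl
      obtain ⟨x, hx, hx1, -⟩ := exists_perp (v := φ) (w := φ) (n := n + 1) (by omega)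
      refine hd (Matrix.exists_mulVec_eq_zero_iff.1 ⟨x, hx, ?_⟩)
      rw [ro_mulVec, dotProduct_comm, hx1]
      simp
    have ha : a ≠ 0 := fun h => hA ⟨σ, by rw [ro, h, zero_vecMulVec, add_zero]⟩
    have hφ : φ ≠ 0 := fun h => hA ⟨σ, by rw [ro, h, vecMulVec_zero, add_zero]⟩
    obtain ⟨P, a₀, a', φ', hP, ha', hφ', -⟩ := ro_quot hn σ ha hφ
    refine ⟨σ, P, a₀, _, hσ, hP, fun hsc => ?_⟩
    have h := low_of_isSc hn hsc ⟨a', φ', rfl⟩
    obtain ⟨i, hi⟩ := Function.ne_iff.1 hφ'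
    have := congrArg (fun M => M *ᵥ Pi.single i 1) h
    simp only [ro_mulVec, smul_mulVec, one_mulVec, add_eq_left, dotProduct_single, mul_one,
      smul_eq_zero] at this
    exact this.elim hi ha'
  · obtain ⟨μ, hμ⟩ := hs.exists_eval_eq_zero (by
      rw [degree_eq_natDegree A.charpoly_monic.ne_zero, charpoly_natDegree_eq_dim, Fintype.card_fin]
      norm_cast)
    obtain ⟨x, hx, hAx⟩ := exists_eigen hμ
    obtain ⟨Q, r, A', -, hQ0, hT⟩ := exists_quot (by omega) hx hAx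
    exact ⟨μ, Q⁻¹, r, A', eigen_ne_zero hd hμ, hT, fun h => hR (low_of_quot hT hQ0 h)⟩

/-- a quotient which is close to a scalar -/
theorem low_quot_bad {A : Matrix (Fin (n + 1)) (Fin (n + 1)) K} (hA : Rich A) {μ κ : K}
    {v : Fin (n + 1) → K} {Q : GL (Fin (n + 1)) K} {r : Fin n → K}
    {A' : Matrix (Fin n) (Fin n) K} (hQ0 : Q.1 *ᵥ vecCons 1 0 = v)
    (hT : cj Q⁻¹ A = bord μ r 0 A') (hlow : Low κ A') :
    finrank K (img (A - κ • (1 : Matrix (Fin (n + 1)) (Fin (n + 1)) K))) = 2 ∧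
      v ∈ img (A - κ • (1 : Matrix (Fin (n + 1)) (Fin (n + 1)) K)) := by
  have hrk : ∀ κ : K, 2 ≤ finrank K (img (A - κ • (1 : Matrix (Fin (n + 1)) (Fin (n + 1)) K))) :=
    fun κ => by
      have := hA κ
      rw [low_iff] at this
      omega
  obtain ⟨b, ψ, hb⟩ := hlow
  have hle : img (A - κ • (1 : Matrix (Fin (n + 1)) (Fin (n + 1)) K)) ≤
      Submodule.span K {v} ⊔ Submodule.span K {Q.1 *ᵥ vecCons 0 b} := by
    rintro _ ⟨x, rfl⟩
    rw [mulVecLin_apply, sub_mulVec, smul_mulVec, one_mulVec]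
    obtain ⟨c, hc⟩ : ∃ c : K, c = ψ ⬝ᵥ vecTail (Q⁻¹.1 *ᵥ x) := ⟨_, rfl⟩
    have hq := quot_apply hT x
    rw [hb, ro_mulVec, ← hc] at hq
    have h4' : vecTail (Q⁻¹.1 *ᵥ (A *ᵥ x - κ • x - c • (Q.1 *ᵥ vecCons 0 b))) = 0 := by
      rw [mulVec_sub, mulVec_sub, mulVec_smul, mulVec_smul, SLComm.gl_inv_mulVec]
      ext i
      have := congrFun hq i
      simp only [vecTail, Function.comp_apply, Pi.sub_apply, Pi.smul_apply, Pi.add_apply,
        Pi.zero_apply, cons_val_succ] at this ⊢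
      rw [this]; ring
    rw [← sub_add_cancel (A *ᵥ x - κ • x) (c • (Q.1 *ᵥ vecCons 0 b)), of_tail_zero hQ0 h4']
    exact Submodule.add_mem _ (Submodule.mem_sup_left (Submodule.smul_mem _ _
      (Submodule.mem_span_singleton_self v))) (Submodule.mem_sup_right (Submodule.smul_mem _ _
      (Submodule.mem_span_singleton_self _)))
  have h2 := le_trans (Submodule.finrank_mono hle) (SLComm.finrank_pair_le _ _)
  have h3 := hrk κ
  refine ⟨by omega, ?_⟩
  rw [Submodule.eq_of_le_of_finrank_le hle (le_trans (SLComm.finrank_pair_le _ _) h3)]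
  exact Submodule.mem_sup_left (Submodule.mem_span_singleton_self v)

/-- a quotient which is still far from scalars -/
theorem exists_rich_quot (hn : 4 ≤ n) {A : Matrix (Fin (n + 1)) (Fin (n + 1)) K}
    (hA : Rich A) (hd : A.det ≠ 0) (hs : A.charpoly.Splits) :
    ∃ (μ : K) (P : GL (Fin (n + 1)) K) (a₀ : Fin n → K) (A' : Matrix (Fin n) (Fin n) K),
      μ ≠ 0 ∧ cj P A = bord μ a₀ 0 A' ∧ Rich A' ∧ P.1.det = 1 := by
  classical
  have hrk : ∀ κ : K, 2 ≤ finrank K (img (A - κ • (1 : Matrix (Fin (n + 1)) (Fin (n + 1)) K))) :=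
    fun κ => by
      have := hA κ
      rw [low_iff] at this
      omega
  have hbad := @low_quot_bad K _ n A hA
  by_cases hex : ∃ σ : K, finrank K (img (A - σ • (1 : Matrix (Fin (n + 1)) (Fin (n + 1)) K))) = 2
  swap
  · obtain ⟨μ, hμ⟩ := hs.exists_eval_eq_zero (by
      rw [degree_eq_natDegree A.charpoly_monic.ne_zero, charpoly_natDegree_eq_dim, Fintype.card_fin]
      norm_cast)
    obtain ⟨x, hx, hAx⟩ := exists_eigen hμ
    obtain ⟨Q, r, A', hQd, hQ0, hT⟩ := exists_quot (by omega) hx hAx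
    exact ⟨μ, Q⁻¹, r, A', eigen_ne_zero hd hμ, hT,
      fun κ hκ => hex ⟨κ, (hbad hQ0 hT hκ).1⟩, by rw [det_gl_inv, hQd, inv_one]⟩
  obtain ⟨σ, hσ⟩ := hex
  have hker : finrank K (eigen A σ) = n - 1 := by
    have h := LinearMap.finrank_range_add_finrank_ker
      (A - σ • (1 : Matrix (Fin (n + 1)) (Fin (n + 1)) K)).mulVecLin
    rw [finrank_fin_fun] at h
    change finrank K (img (A - σ • (1 : Matrix (Fin (n + 1)) (Fin (n + 1)) K))) +
      finrank K (eigen A σ) = n + 1 at h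
    omega
  obtain ⟨v, hv, hvimg⟩ : ∃ v ∈ eigen A σ,
      v ∉ img (A - σ • (1 : Matrix (Fin (n + 1)) (Fin (n + 1)) K)) := by
    by_contra hall
    push Not at hall
    have := Submodule.finrank_mono (show eigen A σ ≤ _ from hall)
    omega
  have hv0 : v ≠ 0 := fun e => hvimg (e ▸ Submodule.zero_mem _)
  have hAv := SLComm.mem_eigen.1 hv
  obtain ⟨Q, r, A', hQd, hQ0, hT⟩ := exists_quot (by omega) hv0 hAv
  refine ⟨σ, Q⁻¹, r, A', eigen_ne_zero hd (eval_charpoly_of_eigen hv0 hAv), hT, fun κ hκ => ?_,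
    by rw [det_gl_inv, hQd, inv_one]⟩
  obtain ⟨h1, h2⟩ := hbad hQ0 hT hκ
  by_cases hκσ : κ = σ
  · exact hvimg (hκσ ▸ h2)
  · have htop : (⊤ : Submodule K (Fin (n + 1) → K)) ≤
        img (A - κ • (1 : Matrix (Fin (n + 1)) (Fin (n + 1)) K)) ⊔
          img (A - σ • (1 : Matrix (Fin (n + 1)) (Fin (n + 1)) K)) := by
      intro x _
      refine Submodule.mem_sup.2 ⟨(A - κ • 1) *ᵥ ((σ - κ)⁻¹ • x), ⟨_, rfl⟩,
        (A - σ • 1) *ᵥ (-((σ - κ)⁻¹ • x)), ⟨_, rfl⟩, ?_⟩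
      rw [mulVec_neg, ← sub_eq_add_neg, ← sub_mulVec, sub_sub_sub_cancel_left, ← sub_smul,
        smul_mulVec, one_mulVec, smul_smul, mul_inv_cancel₀ (sub_ne_zero.2 (Ne.symm hκσ)), one_smul]
    have h3 := le_trans (Submodule.finrank_mono htop) (SLComm.finrank_sup_le _ _)
    rw [finrank_top, finrank_fin_fun, h1, hσ] at h3
    omega

variable [Fintype K]

theorem exists_avoid_three (h4 : 4 ≤ Fintype.card K) (a b c : K) :
    ∃ t : K, t ≠ a ∧ t ≠ b ∧ t ≠ c := by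
  classical
  by_contra hall
  push Not at hall
  have : (Finset.univ : Finset K) ⊆ {a, b, c} := fun t _ => by
    rcases eq_or_ne t a with h | h
    · simp [h]
    · rcases eq_or_ne t b with h' | h'
      · simp [h']
      · simp [hall t h h']
  have := le_trans (Finset.card_le_card this) Finset.card_le_three
  rw [Finset.card_univ] at this
  omega

/-- products without common eigenvector -/
theorem rich_free (h4 : 4 ≤ Fintype.card K) : ∀ (n : ℕ), 2 ≤ n →
    ∀ A B : Matrix (Fin (n + 1)) (Fin (n + 1)) K, A.charpoly.Splits → ¬ IsSc A → A.det ≠ 0 →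
    (3 ≤ n → Rich A) → ¬ IsSc B → B.det = A.det ^ (n + 1) → (n = 2 → Deg3 A ∨ Deg3 B) →
    SP A (n + 1) B (fun _ => True) := by
  intro n
  induction n with
  | zero => intro h; omega
  | succ n ih =>
    intro hn A B hs hA hAd hR hB hd h3
    have hBd : B.det ≠ 0 := hd ▸ pow_ne_zero _ hAd
    have hdet : ∀ {μ : K} {Φ : Matrix (Fin (n + 1)) (Fin (n + 1)) K}
        {A' : Matrix (Fin (n + 1)) (Fin (n + 1)) K}, μ ≠ 0 → A.det = μ * A'.det →
        Step A B (μ ^ (n + 1)) Φ → Φ.det = A'.det ^ (n + 1) := fun {μ Φ A'} hμ he s => by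
      refine mul_left_cancel₀ (pow_ne_zero (n + 1) hμ) ?_
      rw [s.det_eq, hd, pow_succ' A.det, ← mul_assoc, inv_mul_cancel₀ hAd, one_mul, he, mul_pow]
    rcases Nat.lt_or_ge n 2 with hn1 | hn2
    · obtain rfl : n = 1 := by omega
      obtain ⟨μ, P, a₀, A', hμ, hP, hA'⟩ := exists_nsc_quot le_rfl hA hAd hs
      have hT : cj (P⁻¹)⁻¹ A = bord μ a₀ 0 A' := by rw [inv_inv]; exact hP
      have hA'd : A'.det ≠ 0 := fun h => hAd (by rw [← quot_det hT, h, mul_zero])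
      obtain ⟨τ, hτ⟩ := (quot_splits hT hs).exists_eval_eq_zero (by
        rw [degree_eq_natDegree A'.charpoly_monic.ne_zero, charpoly_natDegree_eq_dim,
          Fintype.card_fin]
        norm_cast)
      have hdA' := eigen_two hτ
      obtain ⟨ν, hν⟩ : ∃ ν, ν = A'.trace - τ := ⟨_, rfl⟩
      rw [← hν] at hdA'
      obtain ⟨t, ht1, ht2, ht3⟩ :=
        exists_avoid_three h4 (τ ^ 2 + ν ^ 2) (2 * A'.det) (-(2 * A'.det))
      obtain ⟨v, w, g, hv, hw, hBw, hg, hgw, hoff⟩ : ∃ (v w : Fin 3 → K) (g : GL (Fin 3) K),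
          v ≠ 0 ∧ (∀ a : K, w ≠ a • v) ∧ B *ᵥ v = μ ^ 2 • w ∧ g.1.det = 1 ∧ cj g A *ᵥ v = w ∧
            ((cj g A)⁻¹ *ᵥ v ∉ Submodule.span K {v, w} ∨
              B *ᵥ w ∉ Submodule.span K {v, w}) := by
        have hρ := pow_ne_zero 2 hμ
        rcases h3 rfl with hD | hD
        · obtain ⟨v, hv, hBv⟩ := exists_noneig' h4 (by omega) hB
          have hw : ∀ a : K, (μ ^ 2)⁻¹ • (B *ᵥ v) ≠ a • v := fun a ha => hBv (μ ^ 2 * a) (by
            rw [← smul_smul, ← ha, smul_smul, mul_inv_cancel₀ hρ, one_smul])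
          obtain ⟨g, hg, hgw, hoff⟩ := exists_cj_off le_rfl hAd hD hv hw
          exact ⟨v, _, g, hv, hw, by rw [smul_smul, mul_inv_cancel₀ hρ, one_smul], hg, hgw,
            Or.inl hoff⟩
        · obtain ⟨v, hv, hBv, hoff⟩ := hD
          obtain ⟨v', hv', hAv⟩ := exists_noneig' h4 (by omega) hA
          have hw : ∀ a : K, (μ ^ 2)⁻¹ • (B *ᵥ v) ≠ a • v := fun a ha => hBv (μ ^ 2 * a) (by
            rw [← smul_smul, ← ha, smul_smul, mul_inv_cancel₀ hρ, one_smul])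
          obtain ⟨g, hg, -, hgw⟩ := exists_cj_map le_rfl hv' hAv hv hw
          refine ⟨v, _, g, hv, hw, by rw [smul_smul, mul_inv_cancel₀ hρ, one_smul], hg, hgw,
            Or.inr fun h => hoff ?_⟩
          obtain ⟨p, q, hpq⟩ := Submodule.mem_span_pair.1 h
          refine Submodule.mem_span_pair.2 ⟨μ ^ 2 * p, q, ?_⟩
          rw [mulVec_smul] at hpq
          have h5 := congrArg (fun x => μ ^ 2 • x) hpq
          simp only [smul_add, smul_smul, mul_inv_cancel₀ hρ, one_smul] at h5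
          rw [← h5]
          congr 2
          field_simp
      obtain ⟨Φ, ⟨s⟩, hΦ⟩ := exists_step_trace le_rfl hAd hBd (pow_ne_zero 2 hμ) hg hv hw hBw
        hgw hoff t
      have hΦd := hdet hμ (quot_det hT).symm s
      have hΦs : ¬ IsSc Φ := fun ⟨c, hc⟩ => by
        have h2 := hΦ
        rw [hc, det_smul, Fintype.card_fin, det_one, mul_one] at hΦd
        rw [hc, trace_smul, trace_one, Fintype.card_fin, smul_eq_mul] at h2
        push_cast at h2
        rcases sq_eq_sq_iff_eq_or_eq_neg.1 hΦd with e | e <;> subst e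
        · exact ht2 (by rw [← h2]; ring)
        · exact ht3 (by rw [← h2]; ring)
      obtain ⟨g', hg', -⟩ := two_eig h4 hA' hΦs (μ := τ) (ν := ν)
        (fun h => hA'd (by rw [hdA', h, zero_mul])) (fun h => hA'd (by rw [hdA', h, mul_zero]))
        hdA' (by rw [hν]; ring) hΦd
      exact s.prod hP hμ hAd (P' := fun _ => True) trivial (fun _ _ => trivial) ⟨g', hg',
        fun τ' _ => free_of_trace hdA' (by rw [hν]; ring) hA'd hg' (hΦ ▸ ht1) τ'⟩
    · have hR' := hR (by omega)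
      rcases eq_or_ne n 2 with rfl | hn3
      · obtain ⟨μ, P, a₀, A', hμ, hP, hA'⟩ := exists_nsc_quot (by omega) hA hAd hs
        have hT : cj (P⁻¹)⁻¹ A = bord μ a₀ 0 A' := by rw [inv_inv]; exact hP
        have hA'd : A'.det ≠ 0 := fun h => hAd (by rw [← quot_det hT, h, mul_zero])
        obtain ⟨Φ, ⟨s⟩, hΦ⟩ := exists_step_deg3 h4 hR' hAd hB hBd (pow_ne_zero 3 hμ)
        exact s.prod hP hμ hAd (P' := fun _ => True) trivial (fun _ _ => trivial)
          (ih le_rfl A' Φ (quot_splits hT hs) hA' hA'd (fun h => absurd h (by omega))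
            hΦ.not_isSc (hdet hμ (quot_det hT).symm s) (fun _ => Or.inr hΦ)).toCP
      · obtain ⟨μ, P, a₀, A', hμ, hP, hA', -⟩ := exists_rich_quot (by omega) hR' hAd hs
        have hT : cj (P⁻¹)⁻¹ A = bord μ a₀ 0 A' := by rw [inv_inv]; exact hP
        have hA'd : A'.det ≠ 0 := fun h => hAd (by rw [← quot_det hT, h, mul_zero])
        obtain ⟨Φ, hΦ, ⟨s⟩⟩ := exists_step_nsc h4 (by omega) hA hAd hB hBd (pow_ne_zero (n + 1) hμ)
        exact s.prod hP hμ hAd (P' := fun _ => True) trivial (fun _ _ => trivial)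
          (ih hn2 A' Φ (quot_splits hT hs) hA'.not_isSc hA'd (fun _ => hA')
            hΦ (hdet hμ (quot_det hT).symm s) (fun h => absurd h hn3)).toCP

/-- split matrices: all non-scalar products -/
theorem split_main (h4 : 4 ≤ Fintype.card K) (hn : 3 ≤ n) {A B : Matrix (Fin n) (Fin n) K}
    (hs : A.charpoly.Splits) (hA : ¬ IsSc A) (hAd : A.det ≠ 0) (hB : ¬ IsSc B)
    (hd : B.det = A.det ^ n) : SP A n B noV := by
  by_cases hR : ∃ κ : K, Low κ A
  · obtain ⟨σ, a, φ, rfl⟩ := hR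
    have hσ : σ ≠ 0 := by
      rintro rfl
      obtain ⟨x, hx, hx1, -⟩ := exists_perp (v := φ) (w := φ) (n := n) hn
      refine hAd (Matrix.exists_mulVec_eq_zero_iff.1 ⟨x, hx, ?_⟩)
      rw [ro_mulVec, dotProduct_comm, hx1]
      simp
    have hl : σ + φ ⬝ᵥ a ≠ 0 := fun h => hAd (by
      rw [det_ro σ hσ, eq_neg_of_add_eq_zero_right h]
      simp [hσ])
    exact ro_main h4 hn hσ (fun h => hA ⟨σ, by rw [ro, h, zero_vecMulVec, add_zero]⟩)
      (fun h => hA ⟨σ, by rw [ro, h, vecMulVec_zero, add_zero]⟩) hl hd hB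
  · obtain ⟨m, rfl⟩ : ∃ m, n = m + 1 := ⟨n - 1, by omega⟩
    push Not at hR
    refine (rich_free h4 m (by omega) A B hs hA hAd (fun _ => hR) hB hd fun hm => ?_).mono
      fun _ h => h.elim
    subst hm
    by_contra h
    push Not at h
    obtain ⟨κ, hκ⟩ := low_of_three h4 hA h.1
    exact hR κ hκ

end Cfsg.Agent.LevCover
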