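/-
Covering number of PSL(n,q): the identity as a product, and matrices with an eigenvalue.
-/
import Cfsg.Agent.Lib.LevCover.Rich

set_option autoImplicit false

namespace Cfsg.Agent.LevCover

open Polynomial Matrix Module
open Cfsg.Agent.SLComm (Cyc bord img eigen)

variable {K : Type*} [Field K] {n : ℕ}

theorem diag_prod (L : List (Fin n → K)) :
    (L.map fun d => (diagonal d : Matrix (Fin n) (Fin n) K)).prod = diagonal L.prod := by
  induction L with
  | nil => exact diagonal_one.symm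
  | cons a L ih =>
    rw [List.map_cons, List.prod_cons, List.prod_cons, ih, diagonal_mul_diagonal]
    rfl

/-- diagonalizable matrices of determinant one: cyclic shifts -/
theorem diag_one (hn : 1 ≤ n) {A : Matrix (Fin n) (Fin n) K} (hA : A.det = 1)
    {P : GL (Fin n) K} {d : Fin n → K} (hP : cj P A = diagonal d) : SP A n 1 noV := by
  obtain ⟨m, rfl⟩ : ∃ m, n = m + 1 := ⟨n - 1, by omega⟩
  have hd : ∏ i, d i = 1 := by rw [← det_diagonal, ← hP, det_cj, hA]
  have perm : ∀ i : Fin (m + 1), ∃ G : GL (Fin (m + 1)) K,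
      cj G (diagonal d) = diagonal fun j => d (j - i) := by
    intro i
    obtain ⟨G, hG⟩ := exists_gl_of_span (fun j : Fin (m + 1) => (Pi.single (j + i) 1 : Fin (m + 1) → K)) (by
      refine Submodule.eq_top_iff'.2 fun x => ?_
      rw [← Finset.univ_sum_single x]
      refine Submodule.sum_mem _ fun k _ => ?_
      rw [show Pi.single k (x k) = x k • Pi.single k (1 : K) by simp [← Pi.single_smul]]
      exact Submodule.smul_mem _ _ (Submodule.subset_span ⟨k - i, by simp⟩))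
    refine ⟨G, ext_of_mulVec_single fun j => ?_⟩
    have h := hG (j - i)
    rw [sub_add_cancel] at h
    rw [← h, cj_mulVec, diagonal_mulVec_single, mul_one]
    rw [show (Pi.single (j - i) (d (j - i)) : Fin (m + 1) → K) = d (j - i) • Pi.single (j - i) 1 by
      simp [← Pi.single_smul], mulVec_smul, h, diagonal_mulVec_single, mul_one]
    simp [← Pi.single_smul]
  choose G hG using perm
  have hfix : ∀ i, ((G i).1.det * P.1.det)⁻¹ ≠ 0 := fun i =>
    inv_ne_zero (mul_ne_zero (gl_det_ne _) (gl_det_ne _))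
  have ht : ∀ i : Fin (m + 1), ∀ j, (Function.update (1 : Fin (m + 1) → K) 0
      ((G i).1.det * P.1.det)⁻¹) j ≠ 0 := fun i j => by
    by_cases hj : j = 0
    · rw [hj, Function.update_self]; exact hfix i
    · rw [Function.update_of_ne hj]; exact one_ne_zero
  refine ⟨fun i => diagGL _ (ht i) * (G i * P), fun i => ?_, ?_, fun _ h => h.elim⟩
  · rw [det_mul_gl, det_mul_gl, show (diagGL _ (ht i)).1 = diagonal (Function.update
        (1 : Fin (m + 1) → K) 0 ((G i).1.det * P.1.det)⁻¹) from rfl,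
      det_diagonal, Finset.prod_update_of_mem (Finset.mem_univ _)]
    simp [gl_det_ne]
    field_simp [gl_det_ne]
  · have e : ∀ i, cj (diagGL _ (ht i) * (G i * P)) A = diagonal fun j => d (j - i) := fun i => by
      rw [← cj_cj, ← cj_cj, hP, hG]
      show diagonal _ * diagonal (fun j => d (j - i)) * diagonal (fun k => (_ : K)⁻¹) = _
      rw [diagonal_mul_diagonal, diagonal_mul_diagonal]
      congr 1
      funext j
      rw [mul_comm (Function.update (1 : Fin (m + 1) → K) 0 _ j), mul_inv_cancel_right₀ (ht i j)]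
    rw [prodC, funext e,
      show (fun i => diagonal fun j => d (j - i)) =
        (fun d' : Fin (m + 1) → K => diagonal d') ∘ fun i j => d (j - i) from rfl,
      ← List.map_ofFn, diag_prod, List.prod_ofFn, ← diagonal_one]
    congr 1
    funext j
    rw [Finset.prod_apply, ← hd]
    exact Fintype.prod_equiv (Equiv.subLeft j) _ _ fun i => rfl

/-- two eigenvalues, semisimple: diagonalizable -/
theorem exists_diag {A : Matrix (Fin n) (Fin n) K} {μ ν : K} (hne : μ ≠ ν)
    (h : (A - μ • (1 : Matrix (Fin n) (Fin n) K)) * (A - ν • 1) = 0) :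
    ∃ (P : GL (Fin n) K) (d : Fin n → K), cj P A = diagonal d := by
  classical
  obtain ⟨S, hS⟩ : ∃ S : Set (Fin n → K), S = {x | ∃ a : K, A *ᵥ x = a • x} := ⟨_, rfl⟩
  have hspan : Submodule.span K S = ⊤ := by
    refine Submodule.eq_top_iff'.2 fun x => ?_
    have hcomm : (A - ν • (1 : Matrix (Fin n) (Fin n) K)) * (A - μ • 1) = 0 := by
      rw [← h]
      simp only [sub_mul, mul_sub, smul_mul_assoc, mul_smul_comm, one_mul, mul_one, smul_sub,
        smul_smul, mul_comm ν]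
      abel
    have e : ∀ (a b : K), (A - a • (1 : Matrix (Fin n) (Fin n) K)) * (A - b • 1) = 0 →
        (A - b • 1) *ᵥ x ∈ S := fun a b hab => by
      rw [hS]
      refine ⟨a, ?_⟩
      have h1 := congrArg (fun M => M *ᵥ x) hab
      simp only [zero_mulVec] at h1
      rw [← mulVec_mulVec, sub_mulVec A (a • 1), smul_mulVec, one_mulVec, sub_eq_zero] at h1
      exact h1
    have hx : x = (μ - ν)⁻¹ • ((A - ν • 1) *ᵥ x) + (-(μ - ν)⁻¹) • ((A - μ • 1) *ᵥ x) := by
      rw [neg_smul, ← sub_eq_add_neg, ← smul_sub, ← sub_mulVec, sub_sub_sub_cancel_left, ← sub_smul,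
        smul_mulVec, one_mulVec, smul_smul, inv_mul_cancel₀ (sub_ne_zero.2 hne), one_smul]
    rw [hx]
    exact Submodule.add_mem _ (Submodule.smul_mem _ _ (Submodule.subset_span (e μ ν h)))
      (Submodule.smul_mem _ _ (Submodule.subset_span (e ν μ hcomm)))
  obtain ⟨b, hbS, hbspan, hli⟩ := exists_linearIndependent K S
  let B := Basis.mk hli (by rw [Subtype.range_coe_subtype, Set.setOf_mem_eq, hbspan, hspan])
  haveI : Finite b := Module.Finite.finite_basis B
  haveI := Fintype.ofFinite b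
  have hcard : Fintype.card b = n := by
    have := Module.finrank_eq_card_basis B
    rwa [finrank_fin_fun, eq_comm] at this
  let B' := B.reindex (Fintype.equivFinOfCardEq hcard)
  obtain ⟨G, hG⟩ := exists_gl_of_span (fun i => B' i) B'.span_eq
  have heig : ∀ i, ∃ a : K, A *ᵥ B' i = a • B' i := fun i => by
    have : B' i ∈ S := by
      simp only [B', B, Basis.reindex_apply, Basis.mk_apply]
      exact hbS (Subtype.mem _)
    rwa [hS] at this
  choose d hd using heig
  refine ⟨G⁻¹, d, ext_of_mulVec_single fun i => ?_⟩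
  rw [diagonal_mulVec_single, mul_one, ← SLComm.gl_inv_mulVec G (Pi.single i 1), cj_mulVec, hG, hd,
    ← hG, mulVec_smul, SLComm.gl_inv_mulVec]
  simp [← Pi.single_smul]

theorem splits_of_rel : ∀ {n : ℕ} {A : Matrix (Fin n) (Fin n) K} {μ ν : K} {i j : ℕ},
    (A - ν • (1 : Matrix (Fin n) (Fin n) K)) ^ i * (A - μ • 1) ^ j = 0 → A.charpoly.Splits := by
  intro n
  induction n with
  | zero =>
    intro A _ _ _ _ _
    rw [show A.charpoly = C 1 from by
      rw [map_one, ← A.charpoly_monic.natDegree_eq_zero, charpoly_natDegree_eq_dim, Fintype.card_fin]]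
    exact Splits.C 1
  | succ n ih =>
    intro A μ ν i j h
    have hd := congrArg Matrix.det h
    rw [det_mul, det_pow, det_pow, det_zero, mul_eq_zero] at hd
    obtain ⟨τ, x, hx, hAx⟩ : ∃ (τ : K) (x : Fin (n + 1) → K), x ≠ 0 ∧ A *ᵥ x = τ • x := by
      rcases hd with hd | hd
      all_goals
        obtain ⟨x, hx, hx'⟩ := Matrix.exists_mulVec_eq_zero_iff.2 (eq_zero_of_pow_eq_zero hd)
        rw [sub_mulVec, smul_mulVec, one_mulVec, sub_eq_zero] at hx'
        exact ⟨_, x, hx, hx'⟩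
    rcases Nat.eq_zero_or_pos n with rfl | hn
    · rw [Matrix.charpoly, det_fin_one]
      simp [charmatrix_apply, Splits.X_sub_C]
    obtain ⟨Q, r, A', -, -, hQ⟩ := exists_quot hn hx hAx
    rw [quot_charpoly hQ]
    refine (Splits.X_sub_C _).mul (ih (μ := μ) (ν := ν) (i := i) (j := j) ?_)
    have key : ∀ (a : K) (k : ℕ), ∃ (p : K) (s : Fin n → K),
        (bord τ r 0 A' - a • 1) ^ k = bord p s 0 ((A' - a • 1) ^ k) := by
      intro a k
      induction k with
      | zero => exact ⟨1, 0, by rw [pow_zero, pow_zero, SLComm.bord_one]⟩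
      | succ k ih =>
        obtain ⟨p, s, hp⟩ := ih
        exact ⟨_, _, by rw [pow_succ, pow_succ, hp, SLComm.bord_sub_scalar, bord_upper_mul]⟩
    obtain ⟨p, s, hp⟩ := key ν i
    obtain ⟨p', s', hp'⟩ := key μ j
    have h1 := congrArg (cj Q⁻¹) h
    rw [cj_mul, cj_pow, cj_pow, cj_sub, cj_sub, cj_scalar, cj_scalar, hQ, hp, hp', bord_upper_mul,
      show cj Q⁻¹ (0 : Matrix (Fin (n + 1)) (Fin (n + 1)) K) = 0 by simp [cj]] at h1
    ext a b
    simpa [bord] using congrFun (congrFun h1 a.succ) b.succ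

/-- the three possibilities for an eigenvalue -/
theorem eigen_cases {A : Matrix (Fin n) (Fin n) K} {μ : K}
    (hev : A.charpoly.eval μ = 0) (hA : ¬ IsSc A) :
    (∃ τ : K, A.charpoly.eval τ = 0 ∧ Good A τ) ∨
      (∃ j, (A - μ • (1 : Matrix (Fin n) (Fin n) K)) ^ j = 0) ∨
      ∃ ν : K, μ ≠ ν ∧ (A - μ • (1 : Matrix (Fin n) (Fin n) K)) * (A - ν • 1) = 0 := by
  classical
  by_cases hG : Good A μ
  · exact Or.inl ⟨μ, hev, hG⟩
  unfold Good at hG
  push Not at hG
  obtain ⟨ν, j, hj⟩ := hG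
  by_cases hνμ : ν = μ
  · exact Or.inr (Or.inl ⟨j + 1, by rw [pow_succ']; rwa [hνμ] at hj⟩)
  by_cases hν : A.charpoly.eval ν = 0
  swap
  · refine Or.inr (Or.inl ⟨j, ?_⟩)
    have hu : IsUnit (A - ν • (1 : Matrix (Fin n) (Fin n) K)).det := by
      refine isUnit_iff_ne_zero.2 fun h0 => hν ?_
      obtain ⟨x, hx, hx'⟩ := Matrix.exists_mulVec_eq_zero_iff.2 h0
      rw [sub_mulVec, smul_mulVec, one_mulVec, sub_eq_zero] at hx'
      exact eval_charpoly_of_eigen hx hx'
    calc (A - μ • (1 : Matrix (Fin n) (Fin n) K)) ^ j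
        = (A - ν • 1)⁻¹ * ((A - ν • 1) * (A - μ • 1) ^ j) := by
          rw [← Matrix.mul_assoc, Matrix.nonsing_inv_mul _ hu, Matrix.one_mul]
      _ = 0 := by rw [hj, Matrix.mul_zero]
  by_cases hG' : Good A ν
  · exact Or.inl ⟨ν, hν, hG'⟩
  unfold Good at hG'
  push Not at hG'
  obtain ⟨ν', i, hi⟩ := hG'
  obtain ⟨y, hy, hAy⟩ := exists_eigen hev
  have hν' : ν' = μ := by
    have h1 := congrArg (fun M => M *ᵥ y) hi
    simp only [zero_mulVec] at h1
    have hp : ∀ k : ℕ, (A - ν • (1 : Matrix (Fin n) (Fin n) K)) ^ k *ᵥ y = (μ - ν) ^ k • y := by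
      intro k
      induction k with
      | zero => simp
      | succ k ih =>
        rw [pow_succ', ← mulVec_mulVec, ih, mulVec_smul, sub_mulVec, smul_mulVec, one_mulVec, hAy,
          ← sub_smul, smul_smul, pow_succ]
    rw [← mulVec_mulVec, hp, mulVec_smul, sub_mulVec, smul_mulVec, one_mulVec, hAy, ← sub_smul,
      smul_smul, smul_eq_zero, mul_eq_zero] at h1
    rcases h1 with (h1 | h1) | h1
    · exact absurd (sub_eq_zero.1 (eq_zero_of_pow_eq_zero h1)).symm hνμ
    · exact (sub_eq_zero.1 h1).symm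
    · exact absurd h1 hy
  rw [hν'] at hi
  refine Or.inr (Or.inr ⟨ν, Ne.symm hνμ, ?_⟩)
  obtain ⟨p, q, hpq⟩ := ((isCoprime_X_sub_C_of_isUnit_sub (R := K) (a := μ) (b := ν)
    (isUnit_iff_ne_zero.2 (sub_ne_zero.2 (Ne.symm hνμ)))).pow (m := j) (n := i))
  have h1 := congrArg (aeval A) hpq
  simp only [map_add, map_mul, map_pow, map_sub, aeval_X, aeval_C, map_one,
    Algebra.algebraMap_eq_smul_one] at h1
  have hc : Commute ((A - μ • (1 : Matrix (Fin n) (Fin n) K)) ^ j) (A - ν • 1) :=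
    ((((Commute.refl A).sub_left ((Commute.one_left A).smul_left μ)).sub_right
      ((Commute.one_right _).smul_right ν))).pow_left j
  have hc' : Commute ((A - ν • (1 : Matrix (Fin n) (Fin n) K)) ^ i) (A - μ • 1) :=
    ((((Commute.refl A).sub_left ((Commute.one_left A).smul_left ν)).sub_right
      ((Commute.one_right _).smul_right μ))).pow_left i
  calc (A - μ • (1 : Matrix (Fin n) (Fin n) K)) * (A - ν • 1)
      = (aeval A p * (A - μ • 1) ^ j + aeval A q * (A - ν • 1) ^ i) *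
          ((A - μ • 1) * (A - ν • 1)) := by rw [h1, Matrix.one_mul]
    _ = aeval A p * (((A - μ • 1) ^ j * (A - ν • 1)) * (A - μ • 1)) +
          aeval A q * (((A - ν • 1) ^ i * (A - μ • 1)) * (A - ν • 1)) := by
        rw [add_mul]
        congr 1
        · rw [mul_assoc (aeval A p), mul_assoc (((A - μ • 1) ^ j))]
          congr 2
          exact ((((Commute.refl A).sub_left ((Commute.one_left A).smul_left μ)).sub_right
            ((Commute.one_right _).smul_right ν))).eq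
        · rw [mul_assoc, mul_assoc (((A - ν • 1) ^ i))]
    _ = 0 := by rw [hc.eq, hj, hc'.eq, hi]; simp

variable [Fintype K]

/-- three regular unipotent factors -/
theorem j_three (h4 : 4 ≤ Fintype.card K) {A : Matrix (Fin 3) (Fin 3) K} {σ : K}
    (hσ3 : σ ^ 3 = 1) {M : Matrix (Fin 3) (Fin 3) K} (hA : A = σ • (1 + M))
    (hM3 : M * M * M = 0) (hM2 : M * M ≠ 0) : SP A 3 1 noV := by
  obtain ⟨x, hx⟩ : ∃ x, M *ᵥ (M *ᵥ x) ≠ 0 := by
    by_contra hall
    push Not at hall
    exact hM2 (ext_of_mulVec_single fun i => by rw [← mulVec_mulVec, hall, zero_mulVec])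
  have h3 : M *ᵥ (M *ᵥ (M *ᵥ x)) = 0 := by
    rw [mulVec_mulVec, mulVec_mulVec, hM3, zero_mulVec]
  have hli : LinearIndependent K ![x, M *ᵥ x, M *ᵥ (M *ᵥ x)] := by
    rw [Fintype.linearIndependent_iff]
    intro c hc
    rw [Fin.sum_univ_three] at hc
    change c 0 • x + c 1 • (M *ᵥ x) + c 2 • (M *ᵥ (M *ᵥ x)) = 0 at hc
    have h5 := congrArg (fun y => M *ᵥ (M *ᵥ y)) hc
    simp only [mulVec_add, mulVec_smul, h3, mulVec_zero, smul_zero, add_zero, smul_eq_zero] at h5
    have c0 := h5.resolve_right hx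
    rw [c0, zero_smul, zero_add] at hc
    have h6 := congrArg (fun y => M *ᵥ y) hc
    simp only [mulVec_add, mulVec_smul, h3, mulVec_zero, smul_zero, add_zero, smul_eq_zero] at h6
    have c1 := h6.resolve_right hx
    rw [c1, zero_smul, zero_add, smul_eq_zero] at hc
    intro i
    fin_cases i
    exacts [c0, c1, hc.resolve_right hx]
  obtain ⟨G, _, hG⟩ := exists_gl_extend (n := 3) 0 3 rfl _ hli
  have e0 : G.1 *ᵥ Pi.single 0 1 = x := by simpa using hG 0
  have e1 : G.1 *ᵥ Pi.single 1 1 = M *ᵥ x := by simpa using hG 1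
  have e2 : G.1 *ᵥ Pi.single 2 1 = M *ᵥ (M *ᵥ x) := by simpa using hG 2
  have hG3 : ∀ y : Fin 3 → K, G.1 *ᵥ y = y 0 • x + y 1 • (M *ᵥ x) + y 2 • (M *ᵥ (M *ᵥ x)) := by
    intro y
    conv_lhs => rw [show y = y 0 • (Pi.single 0 1 : Fin 3 → K) + y 1 • Pi.single 1 1 +
      y 2 • Pi.single 2 1 by funext j; fin_cases j <;> simp]
    rw [mulVec_add, mulVec_add, mulVec_smul, mulVec_smul, mulVec_smul, e0, e1, e2]
  have fam : ∀ t c : K, t ≠ 0 → ∃ g : GL (Fin 3) K, g.1.det = 1 ∧
      cj g A = σ • (1 + (t • M + c • (M * M))) := by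
    intro t c ht
    obtain ⟨E, hE⟩ : ∃ E : Matrix (Fin 3) (Fin 3) K, E = !![t⁻¹, 0, 0; 0, 1, 0; 0, c / t, t] :=
      ⟨_, rfl⟩
    have hEd : E.det = 1 := by rw [hE]; simp [det_fin_three, ht]
    obtain ⟨GE, hGE⟩ : ∃ GE : GL (Fin 3) K, GE.1 = E :=
      ⟨((Matrix.isUnit_iff_isUnit_det _).2 (hEd ▸ isUnit_one)).unit, rfl⟩
    refine ⟨G * GE * G⁻¹, by rw [det_mul_gl, det_mul_gl, det_gl_inv, hGE, hEd, mul_one,
      mul_inv_cancel₀ (gl_det_ne G)], ?_⟩
    rw [hA, cj_smul]
    congr 1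
    obtain ⟨N, hN⟩ : ∃ N : Matrix (Fin 3) (Fin 3) K, N = !![0, 0, 0; 1, 0, 0; 0, 1, 0] := ⟨_, rfl⟩
    have hMG : M * G.1 = G.1 * N := by
      refine ext_of_mulVec_single fun i => ?_
      rw [← mulVec_mulVec, ← mulVec_mulVec, hG3 (N *ᵥ _)]
      fin_cases i <;> simp [hN, e0, e1, e2, h3, mulVec, dotProduct, Fin.sum_univ_three]
      rw [← mul_assoc, hM3, zero_mulVec]
    have hEN : E * N = (t • N + c • (N * N)) * E := by
      rw [hE, hN]
      ext i j
      fin_cases i <;> fin_cases j <;> simp [Matrix.mul_apply, Fin.sum_univ_three] <;> field_simp <;>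
        ring
    have hcM : cj (G * GE * G⁻¹) M = t • M + c • (M * M) := by
      have h1 : cj G⁻¹ M = N := by
        rw [cj, inv_inv, mul_assoc, hMG, ← mul_assoc, Units.inv_mul, one_mul]
      have h2 : cj GE N = t • N + c • (N * N) := by
        rw [cj, hGE, hEN, mul_assoc, ← hGE, Units.mul_inv, mul_one]
      have h3' : cj G N = M := by rw [← h1, cj_cj_inv]
      rw [← cj_cj, ← cj_cj, h1, h2,
        show cj G (t • N + c • (N * N)) = cj G (t • N) + cj G (c • (N * N)) by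
          simp [cj, Matrix.mul_add, Matrix.add_mul],
        cj_smul, cj_smul, cj_mul, h3']
    rw [← hcM, cj, cj, Matrix.mul_add, Matrix.add_mul, Matrix.mul_one, Units.mul_inv]
  obtain ⟨s, hs0, hs1, -⟩ := exists_avoid_two h4 (-1) (-1)
  obtain ⟨g₁, d₁, f₁⟩ := fam 1 0 one_ne_zero
  obtain ⟨g₂, d₂, f₂⟩ := fam s 0 hs0
  obtain ⟨g₃, d₃, f₃⟩ := fam (-1 - s) (1 + s + s ^ 2) (fun h => hs1 (by linear_combination -h))
  refine ⟨![g₁, g₂, g₃], fun i => by fin_cases i <;> assumption, ?_, fun _ h => h.elim⟩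
  have hp : prodC A ![g₁, g₂, g₃] = cj g₁ A * (cj g₂ A * cj g₃ A) := by
    simp [prodC, List.ofFn_succ]
  rw [hp, f₁, f₂, f₃]
  simp only [one_smul, zero_smul, add_zero, smul_mul_assoc, mul_smul_comm, smul_smul, mul_add,
    add_mul, one_mul, mul_one, ← mul_assoc, hM3, smul_zero, zero_mul]
  match_scalars <;> first | linear_combination hσ3 | ring

theorem low_of_sq {A : Matrix (Fin 3) (Fin 3) K} {σ : K}
    (h2 : (A - σ • (1 : Matrix (Fin 3) (Fin 3) K)) * (A - σ • 1) = 0) : Low σ A := by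
  rw [low_iff]
  have hle : img (A - σ • (1 : Matrix (Fin 3) (Fin 3) K)) ≤ eigen A σ := by
    rintro _ ⟨x, rfl⟩
    rw [LinearMap.mem_ker, mulVecLin_apply, mulVecLin_apply, mulVec_mulVec, h2, zero_mulVec]
  have h := LinearMap.finrank_range_add_finrank_ker (A - σ • (1 : Matrix (Fin 3) (Fin 3) K)).mulVecLin
  rw [finrank_fin_fun] at h
  change finrank K (img (A - σ • (1 : Matrix (Fin 3) (Fin 3) K))) + finrank K (eigen A σ) = 3 at h
  have := Submodule.finrank_mono hle
  omega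

/-- squares zero in dimension four -/
theorem sq_four (hs : Matrix (Fin 4) (Fin 4) K) {σ : K} (hσ : σ ^ 4 = 1)
    (h2 : (hs - σ • (1 : Matrix (Fin 4) (Fin 4) K)) * (hs - σ • 1) = 0)
    (hr : finrank K (img (hs - σ • (1 : Matrix (Fin 4) (Fin 4) K))) = 2) : SP hs 4 1 noV := by
  obtain ⟨N, hN⟩ : ∃ N, N = hs - σ • (1 : Matrix (Fin 4) (Fin 4) K) := ⟨_, rfl⟩
  rw [← hN] at h2 hr
  obtain ⟨b, hb⟩ : ∃ b : Basis (Fin 2) K (img N), True :=
    ⟨(Module.finBasis K (img N)).reindex (finCongr hr), trivial⟩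
  obtain ⟨x, hx⟩ := (b 0).2
  obtain ⟨y, hy⟩ := (b 1).2
  rw [mulVecLin_apply] at hx hy
  have hNN : ∀ z, N *ᵥ (N *ᵥ z) = 0 := fun z => by rw [mulVec_mulVec, h2, zero_mulVec]
  have hbi : LinearIndependent K ![N *ᵥ x, N *ᵥ y] := by
    rw [LinearIndependent.pair_iff]
    intro s t h
    have h1 : s • b 0 + t • b 1 = 0 := Subtype.ext (by simpa [← hx, ← hy] using h)
    have h2 := Fintype.linearIndependent_iff.1 b.linearIndependent ![s, t]
      (by simpa [Fin.sum_univ_two] using h1)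
    exact ⟨h2 0, h2 1⟩
  have hli : LinearIndependent K ![x, y, N *ᵥ x, N *ᵥ y] := by
    rw [Fintype.linearIndependent_iff]
    intro c hc
    rw [Fin.sum_univ_four] at hc
    simp at hc
    have h5 := congrArg (fun z => N *ᵥ z) hc
    simp only [mulVec_add, mulVec_smul, hNN, mulVec_zero, smul_zero, add_zero] at h5
    obtain ⟨c0, c1⟩ := LinearIndependent.pair_iff.1 hbi _ _ h5
    rw [c0, c1, zero_smul, zero_smul, zero_add, zero_add] at hc
    obtain ⟨c2, c3⟩ := LinearIndependent.pair_iff.1 hbi _ _ hc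
    intro i
    fin_cases i <;> assumption
  obtain ⟨G, hG⟩ := exists_frame_four hli
  have ht : ∀ i, (![1, 1, -1, -1] : Fin 4 → K) i ≠ 0 := by intro i; fin_cases i <;> simp
  obtain ⟨g, hg⟩ : ∃ g, g = G * diagGL ![1, 1, -1, -1] ht * G⁻¹ := ⟨_, rfl⟩
  have hgd : g.1.det = 1 := by
    rw [hg, det_mul_gl, det_mul_gl, det_gl_inv,
      show (diagGL ![1, 1, -1, -1] ht).1 = diagonal ![1, 1, -1, -1] from rfl, det_diagonal,
      Fin.prod_univ_four]
    simp [gl_det_ne]
  have hgG : ∀ z, g.1 *ᵥ (G.1 *ᵥ z) = G.1 *ᵥ (diagonal ![1, 1, -1, -1] *ᵥ z) := fun z => by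
    rw [hg, Units.val_mul, Units.val_mul, ← mulVec_mulVec, ← mulVec_mulVec, SLComm.gl_inv_mulVec]
    rfl
  have hcj : cj g N = -N := by
    refine ext_of_mulVec_single fun i => ?_
    obtain ⟨z, hz⟩ : ∃ z, g.1 *ᵥ (G.1 *ᵥ z) = Pi.single i 1 :=
      ⟨G⁻¹.1 *ᵥ (g⁻¹.1 *ᵥ Pi.single i 1), by rw [gl_mulVec_inv, gl_mulVec_inv]⟩
    have hNG : N *ᵥ (G.1 *ᵥ z) = G.1 *ᵥ ![0, 0, z 0, z 1] := by
      rw [hG, hG]
      simp [mulVec_add, mulVec_smul, hNN]
    rw [← hz, cj_mulVec, hNG, hgG, hgG, hG, neg_mulVec, hG]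
    simp [mulVec_diagonal, mulVec_add, mulVec_smul, hNN, mulVec_neg]
    module
  have hAA : hs * cj g hs = σ ^ 2 • 1 := by
    rw [show hs = σ • 1 + N by rw [hN, add_sub_cancel],
      show cj g (σ • 1 + N) = σ • 1 - N by
        rw [sub_eq_add_neg, ← hcj, cj, Matrix.mul_add, Matrix.add_mul]
        exact congrArg (· + _) (cj_scalar g σ)]
    simp only [add_mul, mul_sub, smul_mul_assoc, mul_smul_comm, one_mul, mul_one, h2, sub_zero,
      smul_smul, sq]
    module
  refine ⟨![1, g, 1, g], fun i => by fin_cases i <;> simp [hgd], ?_, fun _ h => h.elim⟩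
  have hp : prodC hs ![1, g, 1, g] = hs * cj g hs * (hs * cj g hs) := by
    simp [prodC, List.ofFn_succ, cj_one, mul_assoc]
  rw [hp, hAA, smul_mul_assoc, mul_smul_comm, one_mul, smul_smul, ← pow_add, hσ, one_smul]

theorem isSc_inv {A : Matrix (Fin n) (Fin n) K} (hd : A.det ≠ 0) (h : IsSc A⁻¹) : IsSc A := by
  obtain ⟨a, ha⟩ := h
  refine ⟨a⁻¹, ?_⟩
  have h1 : a • A = 1 := by
    rw [← Matrix.mul_one A, ← Matrix.mul_smul, ← ha,
      Matrix.mul_nonsing_inv _ (isUnit_iff_ne_zero.2 hd)]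
  rcases eq_or_ne a 0 with rfl | ha0
  · rw [zero_smul] at h1
    rw [show A = A * 1 by rw [Matrix.mul_one], ← h1]
    simp
  · rw [← h1, smul_smul, inv_mul_cancel₀ ha0, one_smul]

theorem of_inverse {A : Matrix (Fin n) (Fin n) K} (hd : A.det ≠ 0) {k : ℕ}
    (h : SP A k A⁻¹ noV) : SP A (k + 1) 1 noV := by
  obtain ⟨g, hg, hp, -⟩ := h
  refine ⟨Fin.cons 1 g, Fin.cases (by simp) hg, ?_, fun _ h => h.elim⟩
  rw [prodC_cons, hp, cj_one, Matrix.mul_nonsing_inv _ (isUnit_iff_ne_zero.2 hd)]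

/-- the identity: one eigenvalue -/
theorem primary_one (h4 : 4 ≤ Fintype.card K) (hn : 3 ≤ n) {A : Matrix (Fin n) (Fin n) K}
    (hA1 : A.det = 1) (hA : ¬ IsSc A) {σ : K} {j : ℕ}
    (hj : (A - σ • (1 : Matrix (Fin n) (Fin n) K)) ^ j = 0) : SP A n 1 noV := by
  have hd : A.det ≠ 0 := by rw [hA1]; exact one_ne_zero
  have hs : A.charpoly.Splits := splits_of_rel (μ := σ) (ν := σ) (i := 0) (j := j) (by rw [pow_zero, one_mul, hj])
  have honly : ∀ {x : Fin n → K} {τ : K}, x ≠ 0 → A *ᵥ x = τ • x → τ = σ := by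
    intro x τ hx hAx
    have hp : ∀ k : ℕ, (A - σ • (1 : Matrix (Fin n) (Fin n) K)) ^ k *ᵥ x = (τ - σ) ^ k • x := by
      intro k
      induction k with
      | zero => simp
      | succ k ih =>
        rw [pow_succ', ← mulVec_mulVec, ih, mulVec_smul, sub_mulVec, smul_mulVec, one_mulVec, hAx,
          ← sub_smul, smul_smul, pow_succ]
    have := hp j
    rw [hj, zero_mulVec, eq_comm, smul_eq_zero] at this
    exact sub_eq_zero.1 (eq_zero_of_pow_eq_zero (this.resolve_right hx))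
  have hσn : σ ^ n = 1 := by
    have key : ∀ {m : ℕ} {M : Matrix (Fin m) (Fin m) K}, M.charpoly.Splits →
        (∀ τ : K, M.charpoly.eval τ = 0 → τ = σ) → M.det = σ ^ m := by
      intro m M hM hroots
      rw [det_eq_prod_roots_charpoly_of_splits hM,
        Multiset.eq_replicate_of_mem (s := M.charpoly.roots) (a := σ) (fun τ hτ => hroots τ ((Polynomial.mem_roots
          M.charpoly_monic.ne_zero).1 hτ)), Multiset.prod_replicate, ← hM.natDegree_eq_card_roots,
        charpoly_natDegree_eq_dim, Fintype.card_fin]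
    rw [← key hs (fun τ hτ => by
      obtain ⟨x, hx, hAx⟩ := exists_eigen hτ
      exact honly hx hAx), hA1]
  have hσ : σ ≠ 0 := fun h => by rw [h, zero_pow (by omega)] at hσn; exact zero_ne_one hσn
  by_cases hR : ∃ κ : K, Low κ A
  · obtain ⟨κ, a, φ, rfl⟩ := hR
    have ha : a ≠ 0 := fun h => hA ⟨κ, by rw [ro, h, zero_vecMulVec, add_zero]⟩
    have hφ : φ ≠ 0 := fun h => hA ⟨κ, by rw [ro, h, vecMulVec_zero, add_zero]⟩
    obtain ⟨x, hx, hx1, -⟩ := exists_perp (v := φ) (w := φ) (n := n) hn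
    have hκ : κ = σ := honly hx (by rw [ro_mulVec, dotProduct_comm, hx1, zero_smul, add_zero])
    subst hκ
    have hc : κ + φ ⬝ᵥ a = κ := honly ha (by rw [ro_mulVec, add_smul])
    have := ro_prod hn h4 hσ ha hφ (by rw [hc]; exact hσ) (b := a) (Ψ := 0) ha (k := n) (by omega)
      (by rw [hA1, one_pow, det_ro _ (pow_ne_zero _ hσ), zero_dotProduct, mul_zero, add_zero, mul_one,
        hσn, one_pow])
    have e : ro (κ ^ n) a 0 = 1 := by rw [ro, vecMulVec_zero, add_zero, hσn, one_smul]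
    rwa [e] at this
  push Not at hR
  rcases eq_or_ne n 3 with rfl | hn3
  · obtain ⟨M, hM⟩ : ∃ M, M = σ⁻¹ • (A - σ • (1 : Matrix (Fin 3) (Fin 3) K)) := ⟨_, rfl⟩
    have hAM : A = σ • (1 + M) := by
      rw [hM, smul_add, smul_smul, mul_inv_cancel₀ hσ, one_smul, add_sub_cancel]
    have hN3 : (A - σ • (1 : Matrix (Fin 3) (Fin 3) K)) ^ 3 = 0 := by
      have hcp : A.charpoly = (X - C σ) ^ 3 := by
        rw [hs.eq_prod_roots_of_monic A.charpoly_monic,
          Multiset.eq_replicate_of_mem (s := A.charpoly.roots) (a := σ) (fun τ hτ => by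
            obtain ⟨x, hx, hAx⟩ := exists_eigen ((Polynomial.mem_roots A.charpoly_monic.ne_zero).1 hτ)
            exact honly hx hAx), Multiset.map_replicate, Multiset.prod_replicate,
          ← hs.natDegree_eq_card_roots, charpoly_natDegree_eq_dim, Fintype.card_fin]
      have := aeval_self_charpoly A
      rw [hcp] at this
      simpa [Algebra.algebraMap_eq_smul_one] using this
    refine j_three h4 hσn hAM ?_ fun h => hR σ (low_of_sq ?_)
    · rw [hM]
      simp only [smul_mul_assoc, mul_smul_comm]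
      rw [← pow_two, ← pow_succ, hN3]
      simp
    · rw [hM, smul_mul_assoc, mul_smul_comm, smul_smul, smul_eq_zero] at h
      exact h.resolve_left (mul_ne_zero (inv_ne_zero hσ) (inv_ne_zero hσ))
  obtain ⟨m, rfl⟩ : ∃ m, n = m + 1 := ⟨n - 1, by omega⟩
  -- a common eigenvector for all factors
  have hm2 : 2 ≤ m := by omega
  have fin : ∀ (P : GL (Fin (m + 1)) K) (a₀ : Fin m → K) (A' : Matrix (Fin m) (Fin m) K),
      cj P A = bord σ a₀ 0 A' → P.1.det = 1 → ¬ IsSc A' →
      (A'.charpoly.Splits → A'⁻¹.det = A'.det ^ m → A'.det ≠ 0 → ¬ IsSc A'⁻¹ →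
        CP A' m A'⁻¹ (fun _ => True)) → SP A (m + 1) 1 noV := by
    intro P a₀ A' hP hPd hA' hc
    have hT : cj (P⁻¹)⁻¹ A = bord σ a₀ 0 A' := by rw [inv_inv]; exact hP
    have hd' : σ * A'.det = 1 := by rw [quot_det hT, hA1]
    have hA'd : A'.det ≠ 0 := fun h => by rw [h, mul_zero] at hd'; exact zero_ne_one hd'
    have hAinv : A' * A'⁻¹ = 1 := Matrix.mul_nonsing_inv _ (isUnit_iff_ne_zero.2 hA'd)
    have hinvdet : A'⁻¹.det = A'.det ^ m := by
      have e : A'.det = σ⁻¹ := eq_inv_of_mul_eq_one_right hd'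
      have hm : σ ^ m = σ⁻¹ := eq_inv_of_mul_eq_one_left (by rw [← pow_succ]; exact hσn)
      rw [det_nonsing_inv, Ring.inverse_eq_inv', e, inv_inv, inv_pow, hm, inv_inv]
    obtain ⟨g', hg', hfree⟩ := hc (quot_splits hT hs) hinvdet hA'd fun h => hA' (isSc_inv hA'd h)
    obtain ⟨g, hg, hgp, -⟩ := tail_prod hP hσ g' (hfree σ trivial) (-(σ⁻¹ • (a₀ ᵥ* A'⁻¹)))
    refine of_inverse hd ⟨fun i => P⁻¹ * g i, fun i => ?_, ?_, fun _ h => h.elim⟩
    · rw [det_mul_gl, det_gl_inv, hPd, hg, inv_one, one_mul]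
    · rw [← cj_prodC, hgp, hg']
      have hinv : cj P A * bord (σ ^ m) (-(σ⁻¹ • (a₀ ᵥ* A'⁻¹))) 0 A'⁻¹ = 1 := by
        rw [hP, bord_upper_mul, ← pow_succ', hσn, hAinv, SLComm.bord_one]
        congr 1
        rw [smul_neg, smul_smul, mul_inv_cancel₀ hσ, one_smul, neg_add_cancel]
      have h2 := congrArg (cj P⁻¹) hinv
      rw [cj_mul, cj_inv_cj, show cj P⁻¹ (1 : Matrix (Fin (m + 1)) (Fin (m + 1)) K) = 1 by simp [cj]] at h2
      exact (Matrix.inv_eq_right_inv h2).symm
  rcases eq_or_ne m 3 with rfl | hm3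
  · by_cases hv : ∃ v ∈ eigen A σ, v ≠ 0 ∧
        ¬ (finrank K (img (A - σ • (1 : Matrix (Fin 4) (Fin 4) K))) = 2 ∧
          v ∈ img (A - σ • (1 : Matrix (Fin 4) (Fin 4) K)))
    · obtain ⟨v, hv, hv0, hgood⟩ := hv
      obtain ⟨Q, r, A', hQd, hQ0, hT⟩ := exists_quot (by omega) hv0 (SLComm.mem_eigen.1 hv)
      have hlow : ∀ κ : K, ¬ Low κ A' := fun κ hκ => by
        obtain ⟨h1, h2⟩ := low_quot_bad hR hQ0 hT hκ
        have hker : eigen A κ ≠ ⊥ := fun h => by
          have := LinearMap.finrank_range_add_finrank_ker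
            (A - κ • (1 : Matrix (Fin 4) (Fin 4) K)).mulVecLin
          rw [finrank_fin_fun] at this
          change finrank K (img (A - κ • (1 : Matrix (Fin 4) (Fin 4) K))) + finrank K (eigen A κ) = 4 at this
          rw [h1, h, finrank_bot] at this
          omega
        obtain ⟨y, hy, hy0⟩ := Submodule.exists_mem_ne_zero_of_ne_bot hker
        obtain rfl : κ = σ := honly hy0 (SLComm.mem_eigen.1 hy)
        exact hgood ⟨h1, h2⟩
      have hA' : ¬ IsSc A' := fun ⟨a, ha⟩ =>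
        hlow a ⟨0, 0, by rw [ro, vecMulVec_zero, add_zero, ha]⟩
      refine fin Q⁻¹ r A' hT (by rw [det_gl_inv, hQd, inv_one]) hA' fun h1 h2 h3 h5 =>
        (rich_free h4 2 le_rfl A' A'⁻¹ h1 hA' h3 (fun h => absurd h (by omega)) h5 h2
          (fun _ => Or.inl ?_)).toCP
      by_contra hc
      obtain ⟨κ, hκ⟩ := low_of_three h4 hA' hc
      exact hlow κ hκ
    · push Not at hv
      obtain ⟨x, hx, hAx⟩ : ∃ x : Fin 4 → K, x ≠ 0 ∧ A *ᵥ x = σ • x := by
        obtain ⟨τ, hτ⟩ := hs.exists_eval_eq_zero (by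
          rw [degree_eq_natDegree A.charpoly_monic.ne_zero, charpoly_natDegree_eq_dim,
            Fintype.card_fin]
          norm_cast)
        obtain ⟨x, hx, hAx⟩ := exists_eigen hτ
        exact ⟨x, hx, honly hx hAx ▸ hAx⟩
      obtain ⟨hr2, -⟩ := hv x (SLComm.mem_eigen.2 hAx) hx
      have hker : finrank K (eigen A σ) = 2 := by
        have := LinearMap.finrank_range_add_finrank_ker
          (A - σ • (1 : Matrix (Fin 4) (Fin 4) K)).mulVecLin
        rw [finrank_fin_fun] at this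
        change finrank K (img (A - σ • (1 : Matrix (Fin 4) (Fin 4) K))) + finrank K (eigen A σ) = 4 at this
        omega
      have heq : eigen A σ = img (A - σ • (1 : Matrix (Fin 4) (Fin 4) K)) :=
        Submodule.eq_of_le_of_finrank_eq (fun y hy => by
          by_cases h0 : y = 0
          · exact h0 ▸ Submodule.zero_mem _
          · exact (hv y hy h0).2) (by rw [hker, hr2])
      refine sq_four A hσn (ext_of_mulVec_single fun i => ?_) hr2
      rw [← mulVec_mulVec, zero_mulVec]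
      exact LinearMap.mem_ker.1 (heq.symm.le ⟨_, rfl⟩ : (A - σ • 1) *ᵥ Pi.single i 1 ∈ eigen A σ)
  · obtain ⟨k, rfl⟩ : ∃ k, m = k + 1 := ⟨m - 1, by omega⟩
    obtain ⟨μ, P, a₀, A', hμ, hP, hA', hPd⟩ := exists_rich_quot (by omega) hR hd hs
    have hμσ : μ = σ := by
      refine honly (gl_mulVec_ne P⁻¹ (v := vecCons 1 0) (fun h => one_ne_zero (congrFun h 0))) ?_
      rw [← cj_inv_cj P A, cj_mulVec, hP, ← mulVec_smul, SLComm.bord_mulVec]
      simp
    subst hμσ
    exact fin P a₀ A' hP hPd hA'.not_isSc fun h1 h2 h3 h5 =>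
      (rich_free h4 k (by omega) A' A'⁻¹ h1 hA'.not_isSc h3 (fun _ => hA') h5 h2 (by omega)).toCP

/-- matrices with an eigenvalue -/
theorem eigen_main (h4 : 4 ≤ Fintype.card K) (hn : 3 ≤ n)
    (hmain : ∀ r, 3 ≤ r → r < n → MainAt K r) {A : Matrix (Fin n) (Fin n) K} (hA : ¬ IsSc A)
    (hd : A.det ≠ 0) {μ : K} (hev : A.charpoly.eval μ = 0) :
    (∀ B : Matrix (Fin n) (Fin n) K, ¬ IsSc B → B.det = A.det ^ n → SP A n B noV) ∧
      (A.det = 1 → SP A n 1 noV) := by
  obtain ⟨m, rfl⟩ : ∃ m, n = m + 1 := ⟨n - 1, by omega⟩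
  rcases eigen_cases hev hA with ⟨τ, hτ, hG⟩ | ⟨j, hj⟩ | ⟨ν, hne, hz⟩
  · have hk : ∀ B : Matrix (Fin (m + 1)) (Fin (m + 1)) K, B.det = A.det ^ m → ¬ IsSc B →
        SP A m B noV := fun B h1 h2 =>
      (good_main h4 m (fun r h3 h5 => hmain r h3 (by omega)) A B τ (eigen_ne_zero hd hτ) hd hτ hG
        h2 h1).mono fun _ h => h.elim
    refine ⟨fun B _ hB => SP.succ h4 hn hA hd hB hk, fun hA1 => of_inverse hd (hk A⁻¹ ?_ ?_)⟩
    · rw [det_nonsing_inv, Ring.inverse_eq_inv', hA1, one_pow, inv_one]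
    · exact fun h => hA (isSc_inv hd h)
  · exact ⟨fun B hB hBd => split_main h4 hn
      (splits_of_rel (μ := μ) (ν := μ) (i := 0) (j := j) (by rw [pow_zero, one_mul, hj])) hA hd hB hBd,
      fun hA1 => primary_one h4 hn hA1 hA hj⟩
  · refine ⟨fun B hB hBd => split_main h4 hn
      (splits_of_rel (μ := ν) (ν := μ) (i := 1) (j := 1) (by rw [pow_one, pow_one, hz])) hA hd hB hBd,
      fun hA1 => ?_⟩
    obtain ⟨P, d, hP⟩ := exists_diag hne hz
    exact diag_one (by omega) hA1 hP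

end Cfsg.Agent.LevCover
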