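/-
Covering number of PSL(n,q): a cyclic matrix times a conjugate of it is cyclic with any prescribed
diagonal.
-/
import Cfsg.Agent.Lib.LevCover.One

set_option autoImplicit false

namespace Cfsg.Agent.LevCover

open Polynomial Matrix Module
open Cfsg.Agent.SLComm (Cyc bord img eigen)

variable {K : Type*} [Field K] {n : ℕ}

/-- the partial products -/
def tprod (d : Fin n → K) (i : Fin (n + 1)) : K :=
  ∏ j : Fin n, if i.val ≤ j.val then d j else 1

theorem tprod_ne {d : Fin n → K} (hd : ∀ j, d j ≠ 0) (i : Fin (n + 1)) : tprod d i ≠ 0 := by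
  refine Finset.prod_ne_zero_iff.2 fun j _ => ?_
  by_cases h : i.val ≤ j.val <;> simp [h, hd j]

theorem tprod_zero (d : Fin n → K) : tprod d 0 = ∏ j, d j :=
  Finset.prod_congr rfl fun j _ => if_pos (Nat.zero_le _)

theorem tprod_last (d : Fin n → K) : tprod d (Fin.last n) = 1 :=
  Finset.prod_eq_one fun j _ => if_neg (by rw [Fin.val_last]; omega)

theorem tprod_step (d : Fin n → K) (j : Fin n) :
    tprod d j.castSucc = d j * tprod d j.succ := by
  rw [tprod, tprod, ← Finset.mul_prod_erase Finset.univ _ (Finset.mem_univ j),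
    ← Finset.mul_prod_erase Finset.univ (fun k : Fin n => if j.succ.val ≤ k.val then d k else 1)
      (Finset.mem_univ j), if_pos (by simp), if_neg (by simp), one_mul]
  congr 1
  refine Finset.prod_congr rfl fun k hk => ?_
  have hne : k.val ≠ j.val := fun e => (Finset.mem_erase.1 hk).1 (Fin.ext e)
  simp only [Fin.val_castSucc, Fin.val_succ]
  by_cases h : j.val ≤ k.val
  · rw [if_pos h, if_pos (by omega)]
  · rw [if_neg h, if_neg (by omega)]

theorem prod_tprod (d : Fin n → K) : ∏ i, tprod d i = ∏ j, d j ^ (j.val + 1) := by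
  simp only [tprod]
  rw [Finset.prod_comm]
  refine Finset.prod_congr rfl fun j _ => ?_
  rw [← Finset.prod_filter, Finset.prod_const]
  congr 1
  refine Finset.card_eq_of_bijective (fun i hi => (⟨i, by omega⟩ : Fin (n + 1))) ?_ ?_ ?_
  · intro a ha
    have := (Finset.mem_filter.1 ha).2
    exact ⟨a.val, by omega, rfl⟩
  · intro i hi
    exact Finset.mem_filter.2 ⟨Finset.mem_univ _, by simp; omega⟩
  · intro i k _ _ h
    exact congrArg Fin.val h

/-- a companion shape times an upper bidiagonal shape -/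
theorem shift_mul {C Y : Matrix (Fin (n + 1)) (Fin (n + 1)) K} (hC : Shift C)
    {d : Fin n → K} (hd : ∀ j, d j ≠ 0) {ν : Fin (n + 1) → K} (hlast : ν (Fin.last n) = 0)
    (hν : ∀ i : Fin (n + 1), 1 ≤ i.val → i.val < n → ν i ≠ 0)
    (hY : ∀ (j : Fin n) (i : Fin (n + 1)), Y i j.succ =
      (if i = j.castSucc then d j else 0) + (if i = j.succ then ν j.succ else 0)) :
    Shaped (C * Y) ∧ (∀ j : Fin n, (C * Y) j.succ j.succ = d j) ∧
      (C * Y) 0 0 = (C * Y).det / ∏ j, d j := by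
  obtain ⟨M, hM⟩ : ∃ M, M = C * Y := ⟨_, rfl⟩
  rw [← hM]
  have hMcol : ∀ (j : Fin n) (i : Fin (n + 1)), M i j.succ =
      (if i = j.succ then d j else 0) + (if i.val = j.val + 2 then ν j.succ else 0) := by
    intro j i
    rw [hM, Matrix.mul_apply]
    simp only [hY, mul_add, mul_ite, mul_zero, Finset.sum_add_distrib, Finset.sum_ite_eq',
      Finset.mem_univ, if_true]
    rw [hC i j.castSucc (by simp)]
    congr 1
    · simp [Fin.ext_iff]
    · by_cases hj : j.val + 1 < n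
      · rw [hC i j.succ (by simpa using hj)]
        simp
      · have : j.succ = Fin.last n := Fin.ext (by simp; omega)
        rw [this, hlast]
        simp
  have hlow : ∀ i j, i < j → M i j = 0 := by
    intro i j hij
    obtain ⟨j', rfl⟩ := Fin.eq_succ_of_ne_zero (Fin.ne_of_gt (lt_of_le_of_lt (Fin.zero_le i) hij))
    have h1 : i.val < j'.val + 1 := by simpa using (show i.val < j'.succ.val from hij)
    rw [hMcol, if_neg (fun e => (ne_of_lt hij) e), if_neg (by omega), add_zero]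
  have hdiag : ∀ j : Fin n, M j.succ j.succ = d j := by
    intro j
    rw [hMcol, if_pos rfl, if_neg (by simp), add_zero]
  refine ⟨⟨hlow, ?_, ?_⟩, hdiag, ?_⟩
  · intro i j hj hi
    obtain ⟨j', rfl⟩ := Fin.eq_succ_of_ne_zero (i := j) (fun e => by rw [e] at hj; simp at hj)
    simp only [Fin.val_succ] at hi
    rw [hMcol, if_neg (fun e => by rw [e] at hi; simp at hi), if_neg (by omega), add_zero]
  · intro i j hj hi
    obtain ⟨j', rfl⟩ := Fin.eq_succ_of_ne_zero (i := j) (fun e => by rw [e] at hj; simp at hj)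
    simp only [Fin.val_succ] at hi
    rw [hMcol, if_neg (fun e => by rw [e] at hi; simp at hi), if_pos (by omega), zero_add]
    exact hν _ (by simp) (by simp; omega)
  · have h2 : M.det = ∏ i, M i i := by
      rw [← det_transpose, det_of_isUpperTriangular
        (show Mᵀ.IsUpperTriangular from fun i j hij => hlow j i hij)]
      rfl
    rw [Fin.prod_univ_succ] at h2
    simp only [hdiag] at h2
    rw [eq_div_iff (Finset.prod_ne_zero_iff.2 fun j _ => hd j), h2]

/-- the polynomial with the prescribed roots -/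
noncomputable def pol (c : K) (d : Fin n → K) : K[X] :=
  (X - C (c / ∏ j, d j)) * ∏ j, (X - C (d j))

theorem pol_splits (c : K) (d : Fin n → K) : (pol c d).Splits :=
  (Splits.X_sub_C _).mul (Splits.prod fun _ _ => Splits.X_sub_C _)

theorem pol_eval (c : K) (d : Fin n → K) (a : K) :
    (pol c d).eval a = 0 ↔ a = c / (∏ j, d j) ∨ ∃ j, a = d j := by
  simp [pol, eval_prod, Finset.prod_eq_zero_iff, sub_eq_zero]

variable [Fintype K]

/-- the product with a conjugate, for any diagonal -/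
theorem chunk_any (h4 : 4 ≤ Fintype.card K) {f : K[X]}
    {A : Matrix (Fin (n + 1)) (Fin (n + 1)) K} (hA : CS f A) (hn : 1 ≤ n) (hd : A.det ≠ 0) :
    ∃ g₀ : K, g₀ ≠ 0 ∧ ∀ d : Fin n → K, (∀ j, d j ≠ 0) →
      (n = 1 → ∀ j, d j * d j ≠ A.det ^ 2) →
      ∃ g : GL (Fin (n + 1)) K, g.1.det = g₀ * ∏ j, d j ^ (j.val + 1) ∧
        CS (pol (A.det ^ 2) d) (A * cj g A) := by
  classical
  obtain ⟨ν, hνdef⟩ : ∃ ν : Fin (n + 1) → K, ν = fun i => if i.val < n then 1 else 0 := ⟨_, rfl⟩
  obtain ⟨w, G₁, hG₁, hspan⟩ := exists_krylov hA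
  obtain ⟨G₂, hG₂⟩ := exists_gl_of_span _ (descend_span A ν w hspan)
  obtain ⟨Cm, hC⟩ : ∃ C', C' = cj G₁⁻¹ A := ⟨_, rfl⟩
  obtain ⟨Y₁, hY₁⟩ : ∃ Y, Y = cj G₂⁻¹ A := ⟨_, rfl⟩
  have hshift : Shift Cm := by
    intro i j hj
    have h1 : Cm *ᵥ Pi.single j 1 = Pi.single (⟨j.val + 1, by omega⟩ : Fin (n + 1)) 1 := by
      conv_lhs => rw [hC, ← SLComm.gl_inv_mulVec G₁ (Pi.single j 1), cj_mulVec, hG₁,
        mulVec_mulVec _ A, ← pow_succ']
      rw [← hG₁ ⟨j.val + 1, by omega⟩, SLComm.gl_inv_mulVec]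
    have h2 := congrFun h1 i
    rw [mulVec_single_one] at h2
    rw [show Cm i j = _ from h2, Pi.single_apply]
    simp [Fin.ext_iff]
  have hY : ∀ j : Fin n, Y₁ *ᵥ Pi.single j.succ 1 =
      Pi.single j.castSucc 1 + ν j.succ • Pi.single j.succ 1 := by
    intro j
    conv_lhs => rw [hY₁, ← SLComm.gl_inv_mulVec G₂ (Pi.single j.succ 1), cj_mulVec, hG₂]
    rw [← sub_add_cancel (A *ᵥ descend A ν w j.succ) (ν j.succ • descend A ν w j.succ),
      ← descend_step, ← hG₂, ← hG₂, mulVec_add, mulVec_smul, SLComm.gl_inv_mulVec,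
      SLComm.gl_inv_mulVec]
  refine ⟨G₁.1.det * G₂⁻¹.1.det, mul_ne_zero (gl_det_ne _) (gl_det_ne _), fun d hd0 h1d => ?_⟩
  obtain ⟨t, htdef⟩ : ∃ t, t = tprod d := ⟨_, rfl⟩
  have ht : ∀ i, t i ≠ 0 := fun i => htdef ▸ tprod_ne hd0 i
  have hone : (1 : Fin (n + 1)).val = 1 := by
    rw [Fin.val_one']
    exact Nat.mod_eq_of_lt (by omega)
  have hEv : (Pi.single (0 : Fin (n + 1)) (1 : K)) ⬝ᵥ
      (Pi.single (1 : Fin (n + 1)) (-1 : K)) = 0 := by
    rw [single_dotProduct, Pi.single_eq_of_ne (fun e => by rw [← e] at hone; simp at hone), mul_zero]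
  let E : K → GL (Fin (n + 1)) K := fun δ =>
    tvGL (δ • Pi.single (1 : Fin (n + 1)) (-1 : K)) (Pi.single (0 : Fin (n + 1)) 1)
      (by rw [dotProduct_smul, hEv, smul_zero])
  obtain ⟨Y, hYdef⟩ : ∃ Y : K → Matrix (Fin (n + 1)) (Fin (n + 1)) K,
      Y = fun δ => cj (diagGL t ht) (cj (E δ)⁻¹ Y₁) := ⟨_, rfl⟩
  obtain ⟨ν', hν'⟩ : ∃ ν' : K → Fin (n + 1) → K,
      ν' = fun δ i => if i.val = 1 ∧ 1 < n then ν i + δ else ν i := ⟨_, rfl⟩
  have hlast : ∀ δ, ν' δ (Fin.last n) = 0 := by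
    intro δ
    rw [hν', hνdef]
    simp only [Fin.val_last]
    rw [if_neg (by omega), if_neg (lt_irrefl n)]
  have hE1 : ∀ (δ : K) (x : Fin (n + 1) → K),
      (E δ)⁻¹.1 *ᵥ x = x + (δ * x 0) • Pi.single (1 : Fin (n + 1)) (1 : K) := by
    intro δ x
    rw [tvGL_inv_mulVec, single_dotProduct, one_mul, smul_smul, sub_eq_add_neg, ← smul_neg,
      ← Pi.single_neg, neg_neg, mul_comm δ]
  have hE0 : ∀ (δ : K) (x : Fin (n + 1) → K), x 0 = 0 → (E δ).1 *ᵥ x = x := by
    intro δ x hx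
    rw [tvGL_mulVec, single_dotProduct, one_mul, hx, zero_smul, add_zero]
  have hY' : ∀ (δ : K) (j : Fin n), (cj (E δ)⁻¹ Y₁) *ᵥ Pi.single j.succ 1 =
      Pi.single j.castSucc 1 + (ν j.succ + if j.val = 0 then δ else 0) • Pi.single j.succ 1 := by
    intro δ j
    conv_lhs => rw [← SLComm.gl_inv_mulVec (E δ) (Pi.single j.succ 1), cj_mulVec,
      hE0 δ (Pi.single j.succ 1) (Pi.single_eq_of_ne (Fin.succ_ne_zero j).symm _), hY, hE1]
    by_cases hj : j.val = 0
    · have e0 : j.castSucc = 0 := Fin.ext (by simpa using hj)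
      have e1 : j.succ = 1 := Fin.ext (by rw [hone]; simpa using hj)
      rw [if_pos hj, e0, e1, Pi.add_apply, Pi.smul_apply, Pi.single_eq_same,
        Pi.single_eq_of_ne (fun e => by rw [← e] at hone; simp at hone), smul_zero, add_zero,
        mul_one, add_smul, add_assoc]
    · have e0 : j.castSucc ≠ 0 := fun e => hj (by simpa using congrArg Fin.val e)
      rw [if_neg hj, Pi.add_apply, Pi.smul_apply, Pi.single_eq_of_ne e0.symm,
        Pi.single_eq_of_ne (Fin.succ_ne_zero j).symm, smul_zero, add_zero, mul_zero, zero_smul,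
        add_zero, add_zero]
  have hstep : ∀ j : Fin n, t j.castSucc / t j.succ = d j := by
    intro j
    rw [htdef, tprod_step, mul_div_cancel_right₀ _ (tprod_ne hd0 _)]
  have hYent : ∀ δ i j, Y δ i j = t i * (cj (E δ)⁻¹ Y₁) i j / t j := by
    intro δ i j
    rw [hYdef]
    show (diagonal t * cj (E δ)⁻¹ Y₁ * diagonal (fun k => (t k)⁻¹) : Matrix (Fin (n + 1)) (Fin (n + 1)) K) i j = _
    rw [mul_diagonal, diagonal_mul, div_eq_mul_inv]
  have hν1 : ∀ (δ : K) (j : Fin n), 1 < n →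
      ν j.succ + (if j.val = 0 then δ else 0) = ν' δ j.succ := by
    intro δ j h1n
    rw [hν']
    by_cases hj : j.val = 0
    · rw [if_pos hj]
      simp [hj, h1n]
    · rw [if_neg hj, add_zero]
      simp [hj]
  have hYcol : ∀ (δ : K), (1 < n ∨ δ = 0) → ∀ (j : Fin n) (i : Fin (n + 1)), Y δ i j.succ =
      (if i = j.castSucc then d j else 0) + (if i = j.succ then ν' δ j.succ else 0) := by
    intro δ hδ j i
    have h := congrFun (hY' δ j) i
    rw [mulVec_single_one] at h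
    have hν'' : ν j.succ + (if j.val = 0 then δ else 0) = ν' δ j.succ := by
      rcases hδ with h1n | rfl
      · exact hν1 δ j h1n
      · rw [hν']
        simp
    rw [hYent, show (cj (E δ)⁻¹ Y₁) i j.succ = _ from h, hν'', Pi.add_apply, Pi.smul_apply,
      Pi.single_apply, Pi.single_apply, smul_eq_mul]
    by_cases h1 : i = j.castSucc
    · subst h1
      simp [(Fin.castSucc_lt_succ).ne, hstep]
    · by_cases h2 : i = j.succ
      · subst h2
        simp [Fin.castSucc_lt_succ.ne']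
        field_simp [ht j.succ]
      · simp [h1, h2]
  obtain ⟨a, ha⟩ : ∃ a, a = A.det ^ 2 / ∏ j, d j := ⟨_, rfl⟩
  have ha0 : a ≠ 0 := ha ▸ div_ne_zero (pow_ne_zero 2 hd) (Finset.prod_ne_zero_iff.2 fun j _ => hd0 j)
  have good : ∀ δ : K, (1 < n ∨ δ = 0) → (1 < n → 1 + δ ≠ 0) →
      Shaped (Cm * Y δ) ∧ (∀ j : Fin n, (Cm * Y δ) j.succ j.succ = d j) ∧ (Cm * Y δ) 0 0 = a := by
    intro δ hδ hδ1
    have hν : ∀ i : Fin (n + 1), 1 ≤ i.val → i.val < n → ν' δ i ≠ 0 := by
      intro i hi hin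
      rw [hν', hνdef]
      simp only [if_pos hin]
      by_cases h1 : i.val = 1 ∧ 1 < n
      · rw [if_pos h1]; exact hδ1 h1.2
      · rw [if_neg h1]; exact one_ne_zero
    obtain ⟨h1, h2, h3⟩ := shift_mul hshift hd0 (hlast δ) hν (hYcol δ hδ)
    refine ⟨h1, h2, ?_⟩
    rw [h3, det_mul, hYdef]
    show Cm.det * (cj (diagGL t ht) (cj (E δ)⁻¹ Y₁)).det / _ = a
    rw [det_cj, det_cj, hY₁, hC, det_cj, det_cj, ha, sq]
  have fin : ∀ δ : K, (1 < n ∨ δ = 0) → (1 < n → 1 + δ ≠ 0) → Geo (Cm * Y δ) →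
      ∃ g : GL (Fin (n + 1)) K, g.1.det = G₁.1.det * G₂⁻¹.1.det * ∏ j, d j ^ (j.val + 1) ∧
        CS (pol (A.det ^ 2) d) (A * cj g A) := by
    intro δ hδ hδ1 hgeo
    obtain ⟨h1, h2, h3⟩ := good δ hδ hδ1
    refine ⟨G₁ * (diagGL t ht * ((E δ)⁻¹ * G₂⁻¹)), ?_, ?_⟩
    · rw [det_mul_gl, det_mul_gl, det_mul_gl, det_gl_inv (E δ), det_tvGL, inv_one, one_mul,
        show (diagGL t ht).1.det = (diagonal t).det from rfl, det_diagonal, htdef, prod_tprod]
      ring
    · have hcp : (Cm * Y δ).charpoly = pol (A.det ^ 2) d := by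
        rw [h1.charpoly, Fin.prod_univ_succ, h3]
        simp only [h2]
        rw [pol, ha]
      have hcs := (cyc_of_geo h1.splits hgeo)
      rw [hcp] at hcs
      have hAD : A * cj (G₁ * (diagGL t ht * ((E δ)⁻¹ * G₂⁻¹))) A = cj G₁ (Cm * Y δ) := by
        rw [cj_mul, hC, cj_cj_inv, ← cj_cj, ← cj_cj, ← cj_cj, ← hY₁, hYdef]
      rw [hAD]
      exact hcs.cj G₁
  -- the first diagonal entry is simple
  by_cases hall : ∀ j, d j ≠ a
  · refine fin 0 (Or.inr rfl) (fun _ => by simp) ?_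
    obtain ⟨h1, h2, h3⟩ := good 0 (Or.inr rfl) (fun _ => by simp)
    refine (h1.cs (Or.inr fun k hk => ?_)).geo
    obtain ⟨j, rfl⟩ := Fin.eq_succ_of_ne_zero hk
    rw [h2, h3]
    exact hall j
  rcases Nat.lt_or_ge 1 n with hn2 | hn2
  swap
  · refine absurd (fun j => ?_) hall
    obtain rfl : n = 1 := by omega
    intro hja
    refine h1d rfl j ?_
    rw [ha, eq_div_iff (Finset.prod_ne_zero_iff.2 fun j _ => hd0 j), Fin.prod_univ_one,
      Subsingleton.elim (0 : Fin 1) j] at hja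
    exact hja
  by_contra hno
  have bad : ∀ δ : K, 1 + δ ≠ 0 → ∃ x : Fin (n + 1) → K, x 0 = 1 ∧ (Cm * Y δ) *ᵥ x = a • x := by
    intro δ hδ1
    by_contra hb
    refine hno (fin δ (Or.inl hn2) (fun _ => hδ1) ?_)
    obtain ⟨h1, -, h3⟩ := good δ (Or.inl hn2) (fun _ => hδ1)
    have hzero : ∀ (b : K) (x : Fin (n + 1) → K), (Cm * Y δ) *ᵥ x = b • x → x 0 = 0 := by
      intro b x hx
      by_cases hba : b = a
      · by_contra hx0
        exact hb ⟨(x 0)⁻¹ • x, by rw [Pi.smul_apply, smul_eq_mul, inv_mul_cancel₀ hx0],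
          by rw [mulVec_smul, hx, hba, smul_comm]⟩
      · exact h1.eigen_zero hx (Or.inl (fun e => hba (e.trans h3)))
    intro b x y hx hy hx0
    have hxl : x (Fin.last n) ≠ 0 := fun h => hx0 (h1.eigen_last hx (hzero b x hx) h)
    refine ⟨y (Fin.last n) / x (Fin.last n), sub_eq_zero.1 (h1.eigen_last (a := b) ?_ ?_ ?_)⟩
    · rw [mulVec_sub, mulVec_smul, hx, hy]
      module
    · simp [hzero b x hx, hzero b y hy]
    · simp [hxl]
  obtain ⟨m, rfl⟩ : ∃ m, n = m + 2 := ⟨n - 2, by omega⟩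
  obtain ⟨δ₁, δ₂, δ₃, h12, h13, h23, hb₁, hb₂, hb₃⟩ : ∃ δ₁ δ₂ δ₃ : K,
      δ₁ ≠ δ₂ ∧ δ₁ ≠ δ₃ ∧ δ₂ ≠ δ₃ ∧ 1 + δ₁ ≠ 0 ∧ 1 + δ₂ ≠ 0 ∧ 1 + δ₃ ≠ 0 := by
    have hc : 2 < (Finset.univ.erase (-1 : K)).card := by
      rw [Finset.card_erase_of_mem (Finset.mem_univ _), Finset.card_univ]
      omega
    obtain ⟨a₁, a₂, a₃, m₁, m₂, m₃, e₁, e₂, e₃⟩ := Finset.two_lt_card_iff.1 hc
    have hm : ∀ {z : K}, z ∈ Finset.univ.erase (-1 : K) → 1 + z ≠ 0 := fun hz h =>
      (Finset.mem_erase.1 hz).1 (by linear_combination h)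
    exact ⟨a₁, a₂, a₃, e₁, e₂, e₃, hm m₁, hm m₂, hm m₃⟩
  obtain ⟨x, hx0, hx⟩ : ∃ x : Fin 3 → Fin (m + 2 + 1) → K, (∀ k, x k 0 = 1) ∧
      ∀ k, (Cm * Y (![δ₁, δ₂, δ₃] k)) *ᵥ x k = a • x k := by
    obtain ⟨u, hu0, hu⟩ := bad δ₁ hb₁
    obtain ⟨v, hv0, hv⟩ := bad δ₂ hb₂
    obtain ⟨z, hz0, hz⟩ := bad δ₃ hb₃
    exact ⟨![u, v, z], fun k => by fin_cases k <;> assumption,
      fun k => by fin_cases k <;> assumption⟩
  obtain ⟨δ, hδdef⟩ : ∃ δ : Fin 3 → K, δ = ![δ₁, δ₂, δ₃] := ⟨_, rfl⟩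
  obtain ⟨lam, hlamdef⟩ : ∃ lam : Fin 3 → K, lam = ![δ₂ - δ₃, δ₃ - δ₁, δ₁ - δ₂] := ⟨_, rfl⟩
  have hl0 : ∑ k, lam k = 0 := by rw [hlamdef, Fin.sum_univ_three]; simp
  have hl1 : ∑ k, lam k * δ k = 0 := by rw [hlamdef, hδdef, Fin.sum_univ_three]; simp; ring
  obtain ⟨S, hSdef⟩ : ∃ S, S = ∑ k, lam k * δ k ^ 2 := ⟨_, rfl⟩
  have hS : S ≠ 0 := by
    have : S = (δ₁ - δ₂) * (δ₂ - δ₃) * (δ₁ - δ₃) := by
      rw [hSdef, hlamdef, hδdef, Fin.sum_univ_three]; simp; ring
    rw [this]
    exact mul_ne_zero (mul_ne_zero (sub_ne_zero.2 h12) (sub_ne_zero.2 h23)) (sub_ne_zero.2 h13)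
  rw [← hδdef] at hx
  obtain ⟨η, hη⟩ : ∃ η, η = a / Cm 0 (Fin.last (m + 2)) := ⟨_, rfl⟩
  have hc0 : Cm 0 (Fin.last (m + 2)) ≠ 0 := hshift.det_ne (by rw [hC, det_cj]; exact hd)
  have heq : ∀ (k : Fin 3) (i : Fin (m + 2)), (Y (δ k) *ᵥ x k) i.castSucc =
      a * x k i.succ - Cm i.succ (Fin.last (m + 2)) * η := by
    intro k i
    have h0 := congrFun (hx k) 0
    rw [← mulVec_mulVec, hshift.mulVec_zero_row, Pi.smul_apply, smul_eq_mul, hx0, mul_one] at h0
    have hY0 : (Y (δ k) *ᵥ x k) (Fin.last (m + 2)) = η := by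
      rw [hη, eq_div_iff hc0, mul_comm, h0]
    have h1 := congrFun (hx k) i.succ
    rw [← mulVec_mulVec, hshift.mulVec_succ_row, hY0, Pi.smul_apply, smul_eq_mul] at h1
    linear_combination h1
  have hrow : ∀ (k : Fin 3) (i : Fin (m + 2)), (Y (δ k) *ᵥ x k) i.castSucc =
      Y (δ k) i.castSucc 0 + d i * x k i.succ +
        (if i.val = 0 then 0 else ν' (δ k) i.castSucc * x k i.castSucc) := by
    intro k i
    rw [mulVec, dotProduct, Fin.sum_univ_succ, hx0, mul_one, add_assoc (Y (δ k) i.castSucc 0)]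
    congr 1
    simp only [hYcol (δ k) (Or.inl hn2), add_mul, ite_mul, zero_mul, Finset.sum_add_distrib]
    congr 1
    · rw [Finset.sum_eq_single i] <;> simp +contextual [Fin.ext_iff, eq_comm]
    · by_cases hi : i.val = 0
      · rw [if_pos hi]
        refine Finset.sum_eq_zero fun j _ => if_neg fun e => ?_
        have := congrArg Fin.val e
        simp at this
        omega
      · rw [if_neg hi, Finset.sum_eq_single (⟨i.val - 1, by omega⟩ : Fin (m + 2))]
        · have e : (⟨i.val - 1, by omega⟩ : Fin (m + 2)).succ = i.castSucc :=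
            Fin.ext (by simp; omega)
          rw [e, if_pos rfl]
        · intro j _ hj
          refine if_neg fun e => hj (Fin.ext ?_)
          have := congrArg Fin.val e
          simp at this ⊢
          omega
        · simp
  have hcol0 : ∀ (k : Fin 3) (i : Fin (m + 2 + 1)), Y (δ k) i 0 = t i / t 0 *
      (Y₁ i 0 - (if i = 0 then δ k else 0) +
        if i = 1 then δ k * (Y₁ 0 0 - 1) - δ k ^ 2 else 0) := by
    intro k i
    rw [hYent]
    have h : (cj (E (δ k))⁻¹ Y₁) *ᵥ Pi.single 0 1 =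
        (E (δ k))⁻¹.1 *ᵥ (Y₁ *ᵥ Pi.single 0 1 - δ k • (Y₁ *ᵥ Pi.single 1 1)) := by
      conv_lhs => rw [← SLComm.gl_inv_mulVec (E (δ k)) (Pi.single 0 1), cj_mulVec]
      rw [tvGL_mulVec, single_dotProduct, one_mul, Pi.single_eq_same, one_smul, mulVec_add,
        mulVec_smul, sub_eq_add_neg]
      congr 2
      rw [Pi.single_neg, mulVec_neg, smul_neg]
    have h1 := congrFun h i
    rw [hE1] at h1
    have hY10 : Y₁ *ᵥ Pi.single (1 : Fin (m + 2 + 1)) 1 = Pi.single 0 1 + Pi.single 1 1 := by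
      have := hY 0
      rw [Fin.succ_zero_eq_one, Fin.castSucc_zero] at this
      rw [this, hνdef]
      simp [hn2]
    rw [hY10, mulVec_single_one] at h1
    simp only [Pi.add_apply, Pi.sub_apply, Pi.smul_apply, smul_eq_mul, mulVec_single_one,
      Matrix.col_apply] at h1
    rw [h1]
    simp only [Pi.single_apply]
    have h01 : (0 : Fin (m + 2 + 1)) ≠ 1 := fun e => by rw [← e] at hone; simp at hone
    by_cases i0 : i = 0
    · subst i0
      simp [h01]
      ring
    · by_cases i1 : i = 1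
      · subst i1
        simp [h01, h01.symm]
        ring
      · simp [i0, i1]
        ring
  have heq' : ∀ (k : Fin 3) (i : Fin (m + 2)), Y (δ k) i.castSucc 0 +
      (if i.val = 0 then 0 else ν' (δ k) i.castSucc * x k i.castSucc) + (d i - a) * x k i.succ =
      - (Cm i.succ (Fin.last (m + 2)) * η) := by
    intro k i
    have h := hrow k i
    rw [heq] at h
    linear_combination -h
  have e00 : ∀ k, Y₁ 0 0 - δ k + (d 0 - a) * x k 1 = - (Cm 1 (Fin.last (m + 2)) * η) := by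
    intro k
    have h := heq' k 0
    rw [hcol0] at h
    simpa [ht 0] using h
  have hw1 : (d 0 - a) * ∑ k, lam k * x k 1 = 0 := by
    have h := congrArg (fun f : Fin 3 → K => ∑ k, lam k * f k) (funext e00)
    simp only [mul_add, mul_sub, Finset.sum_add_distrib, Finset.sum_sub_distrib, ← Finset.sum_mul,
      hl0, hl1, zero_mul, sub_zero, zero_add, mul_neg, Finset.sum_neg_distrib, neg_zero] at h
    rw [Finset.mul_sum, ← h]
    refine Finset.sum_congr rfl fun k _ => ?_
    ring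
  have hu1 : (d 0 - a) * ∑ k, lam k * δ k * x k 1 = S := by
    have h := congrArg (fun f : Fin 3 → K => ∑ k, lam k * δ k * f k) (funext e00)
    simp only [mul_add, mul_sub, Finset.sum_add_distrib, Finset.sum_sub_distrib, ← Finset.sum_mul,
      hl1, zero_mul, zero_sub, mul_neg, Finset.sum_neg_distrib, neg_zero] at h
    rw [show (∑ k, lam k * δ k * δ k) = S by
      rw [hSdef]; exact Finset.sum_congr rfl fun k _ => by ring, add_comm, ← sub_eq_add_neg,
      sub_eq_zero] at h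
    rw [Finset.mul_sum, ← h]
    refine Finset.sum_congr rfl fun k _ => ?_
    ring
  have hd0a : d 0 - a ≠ 0 := fun h => hS (by rw [← hu1, h, zero_mul])
  have hw10 : ∑ k, lam k * x k 1 = 0 := (mul_eq_zero.1 hw1).resolve_left hd0a
  have key : ∀ i : Fin (m + 2), i.val ≠ 0 →
      d i - a ≠ 0 ∧ ∑ k, lam k * x k i.succ ≠ 0 := by
    intro i
    induction i using Fin.induction with
    | zero => intro h; simp at h
    | succ i ih =>
      intro _
      have h := congrArg (fun f : Fin 3 → K => ∑ k, lam k * f k) (funext fun k => heq' k i.succ)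
      have hsucc : (i.succ : Fin (m + 2)).val ≠ 0 := by simp
      simp only [if_neg hsucc] at h
      have hrhs : ∑ k, lam k * -(Cm i.succ.succ (Fin.last (m + 2)) * η) = 0 := by
        rw [← Finset.sum_mul, hl0, zero_mul]
      rw [hrhs] at h
      suffices h' : (d i.succ - a) * ∑ k, lam k * x k i.succ.succ ≠ 0 from
        ⟨left_ne_zero_of_mul h', right_ne_zero_of_mul h'⟩
      by_cases hi : i.val = 0
      · obtain rfl : i = 0 := Fin.ext hi
        have e1 : (Fin.succ (0 : Fin (m + 1))).castSucc = (1 : Fin (m + 2 + 1)) := Fin.ext (by simp)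
        have et : t 1 / t 0 = (d 0)⁻¹ := by
          rw [← hstep 0, Fin.succ_zero_eq_one, Fin.castSucc_zero, inv_div]
        have hνk : ∀ k, ν' (δ k) 1 = 1 + δ k := fun k => by
          rw [hν', hνdef]
          simp [hn2]
        simp only [e1, hcol0, et, hνk] at h
        have hone0 : (1 : Fin (m + 2 + 1)) ≠ 0 := fun e => by rw [e] at hone; simp at hone
        simp only [if_true, if_neg hone0, sub_zero] at h
        have hexp : ∀ k, lam k * ((d 0)⁻¹ * (Y₁ 1 0 + (δ k * (Y₁ 0 0 - 1) - δ k ^ 2)) +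
            (1 + δ k) * x k 1 + (d (Fin.succ 0) - a) * x k (Fin.succ 0).succ) =
            (d 0)⁻¹ * Y₁ 1 0 * lam k + (d 0)⁻¹ * (Y₁ 0 0 - 1) * (lam k * δ k)
              - (d 0)⁻¹ * (lam k * δ k ^ 2) + lam k * x k 1 + lam k * δ k * x k 1 +
              (d (Fin.succ 0) - a) * (lam k * x k (Fin.succ 0).succ) := fun k => by ring
        simp only [hexp, Finset.sum_add_distrib, Finset.sum_sub_distrib, ← Finset.mul_sum, hl0, hl1,
          ← hSdef, hw10, mul_zero, add_zero, zero_sub] at h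
        intro h'
        rw [h', add_zero, neg_add_eq_zero] at h
        rw [← h] at hu1
        have h2 : a * S = 0 := by
          have h3 : (d 0 - a) * S = d 0 * S := by
            calc (d 0 - a) * S = d 0 * ((d 0 - a) * ((d 0)⁻¹ * S)) := by
                  field_simp [hd0 0]
              _ = d 0 * S := by rw [hu1]
          linear_combination -h3
        exact (mul_eq_zero.1 h2).elim ha0 hS
      · obtain ⟨-, hwi⟩ := ih (by simpa using hi)
        have e0 : (i.succ.castSucc : Fin (m + 2 + 1)) ≠ 0 := fun e => by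
          simpa using congrArg Fin.val e
        have e1 : (i.succ.castSucc : Fin (m + 2 + 1)) ≠ 1 := fun e => by
          have := congrArg Fin.val e
          rw [hone] at this
          simp at this
          exact hi (by simp [this])
        have hνk : ∀ k, ν' (δ k) i.succ.castSucc = ν i.succ.castSucc := fun k => by
          rw [hν']
          simp only [Fin.val_castSucc, Fin.val_succ]
          rw [if_neg (by omega)]
        have hν0 : ν i.succ.castSucc ≠ 0 := by
          rw [hνdef]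
          simp; omega
        simp only [hcol0, if_neg e0, if_neg e1, sub_zero, add_zero, hνk] at h
        have hexp : ∀ k, lam k * (t i.succ.castSucc / t 0 * Y₁ i.succ.castSucc 0 +
            ν i.succ.castSucc * x k i.succ.castSucc + (d i.succ - a) * x k i.succ.succ) =
            t i.succ.castSucc / t 0 * Y₁ i.succ.castSucc 0 * lam k +
            ν i.succ.castSucc * (lam k * x k i.succ.castSucc) +
            (d i.succ - a) * (lam k * x k i.succ.succ) := fun k => by ring
        simp only [hexp, Finset.sum_add_distrib, ← Finset.mul_sum, hl0, mul_zero, zero_add] at h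
        intro h'
        rw [h', add_zero, mul_eq_zero] at h
        refine hwi ?_
        have := h.resolve_left hν0
        rwa [← Fin.succ_castSucc] at this
  refine hall fun j => ?_
  by_cases hj : j.val = 0
  · obtain rfl : j = 0 := Fin.ext hj
    exact sub_ne_zero.1 hd0a
  · exact sub_ne_zero.1 (key j hj).1

end Cfsg.Agent.LevCover
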