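/-
Covering number of PSL(n,q): decomposition into cyclic blocks, and determinants of centralisers.
-/
import Cfsg.Agent.Lib.LevCover.Spectrum
import Cfsg.Agent.Lib.Classical.BlockDet

set_option autoImplicit false
set_option maxHeartbeats 400000

namespace Cfsg.Agent.LevCover

open Polynomial Matrix Module
open Cfsg.Agent.SLComm (Cyc bord img eigen)
open Cfsg.Agent.GLCount (Blk lin)

universe u

variable {K : Type u} [Field K] {n : ℕ}

/-- no eigenvalue -/
def EF (A : Matrix (Fin n) (Fin n) K) : Prop := ∀ a : K, A.charpoly.eval a ≠ 0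

/-- every scalar is the determinant of a commuting matrix -/
def Full (A : Matrix (Fin n) (Fin n) K) : Prop :=
  ∀ a : K, a ≠ 0 → ∃ P : GL (Fin n) K, cj P A = A ∧ P.1.det = a

theorem Full.cj {A : Matrix (Fin n) (Fin n) K} (h : Full A) (P : GL (Fin n) K) :
    Full (LevCover.cj P A) := by
  intro a ha
  obtain ⟨Q, hQ, hQd⟩ := h a ha
  refine ⟨P * Q * P⁻¹, ?_, ?_⟩
  · rw [← cj_cj, ← cj_cj, cj_inv_cj, hQ]
  · rw [det_mul_gl, det_mul_gl, det_gl_inv, hQd]
    field_simp [gl_det_ne]

theorem CP.toSP_of_full {A B : Matrix (Fin n) (Fin n) K} {k : ℕ} (hA : Full A)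
    (h : CP A k B (noV : K → Prop)) : SP A k B noV := by
  obtain ⟨g, hg, -⟩ := h
  have hP : ∀ i, ∃ P : GL (Fin n) K, LevCover.cj P A = A ∧ P.1.det = ((g i).1.det)⁻¹ := fun i =>
    hA _ (inv_ne_zero (gl_det_ne _))
  choose P hPA hPd using hP
  refine ⟨fun i => g i * P i, fun i => by rw [det_mul_gl, hPd, mul_inv_cancel₀ (gl_det_ne _)], ?_,
    fun _ h => h.elim⟩
  rw [← hg]
  unfold prodC
  congr 2
  funext i
  rw [← cj_cj, hPA]

/-- a decomposition into cyclic blocks of size at least `b` -/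
inductive Dec (b : ℕ) : ∀ {n : ℕ}, Matrix (Fin n) (Fin n) K → Prop
  | nil (A : Matrix (Fin 0) (Fin 0) K) : Dec b A
  | cons {h l n : ℕ} (e : Fin h ⊕ Fin l ≃ Fin n) (A₁ : Matrix (Fin h) (Fin h) K)
      (A₂ : Matrix (Fin l) (Fin l) K) (A : Matrix (Fin n) (Fin n) K) (P : GL (Fin n) K) (f : K[X]) :
      Dec b A₁ → b ≤ l → CS f A₂ → LevCover.cj P A = blk e A₁ 0 0 A₂ → Dec b A

/-- `A` models multiplication by `X` on `M` -/
def Models (A : Matrix (Fin n) (Fin n) K) (M : Type u) [AddCommGroup M] [Module K[X] M]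
    [Module K M] : Prop :=
  ∃ L : (Fin n → K) ≃ₗ[K] M, ∀ v, L (A *ᵥ v) = (X : K[X]) • L v

section models

variable {M : Type u} [AddCommGroup M] [Module K[X] M] [Module K M] [IsScalarTower K K[X] M]

theorem exists_model (M : Type u) [AddCommGroup M] [Module K[X] M] [Module K M]
    [IsScalarTower K K[X] M] [Module.Finite K M] :
    ∃ A : Matrix (Fin (finrank K M)) (Fin (finrank K M)) K, Models A M := by
  let b := Module.finBasis K M
  let T : M →ₗ[K] M := LinearMap.restrictScalars K (LinearMap.lsmul K[X] M X)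
  let L : (Fin (finrank K M) → K) ≃ₗ[K] M := b.equivFun.symm
  obtain ⟨A, hA⟩ : ∃ A, A = LinearMap.toMatrix' ((L.symm : M →ₗ[K] (Fin (finrank K M) → K)) ∘ₗ T ∘ₗ
      (L : (Fin (finrank K M) → K) →ₗ[K] M)) :=
    ⟨_, rfl⟩
  refine ⟨A, L, fun v => ?_⟩
  rw [hA, ← Matrix.toLin'_apply, Matrix.toLin'_toMatrix']
  show L (L.symm (T (L v))) = _
  rw [LinearEquiv.apply_symm_apply]
  rfl

theorem Models.aeval {A : Matrix (Fin n) (Fin n) K} {L : (Fin n → K) ≃ₗ[K] M}
    (hL : ∀ v, L (A *ᵥ v) = (X : K[X]) • L v) (q : K[X]) (v : Fin n → K) :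
    L (Polynomial.aeval A q *ᵥ v) = q • L v := by
  induction q using Polynomial.induction_on' with
  | add p q hp hq => rw [map_add, add_mulVec, map_add, hp, hq, add_smul]
  | monomial k a =>
    rw [aeval_monomial, ← Algebra.smul_def, smul_mulVec, map_smul, ← C_mul_X_pow_eq_monomial,
      mul_smul, ← Polynomial.algebraMap_eq, algebraMap_smul]
    congr 1
    induction k with
    | zero => simp
    | succ k ih => rw [pow_succ', ← mulVec_mulVec, hL, ih, smul_smul, ← pow_succ']

end models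

/-- two models of the same module are similar -/
theorem models_sim {M : Type u} [AddCommGroup M] [Module K[X] M] [Module K M]
    {A B : Matrix (Fin n) (Fin n) K} (hA : Models A M) (hB : Models B M) :
    ∃ P : GL (Fin n) K, LevCover.cj P A = B := by
  obtain ⟨L, hL⟩ := hA
  obtain ⟨L', hL'⟩ := hB
  let U : (Fin n → K) ≃ₗ[K] (Fin n → K) := L.trans L'.symm
  have hU : ∀ v, U (A *ᵥ v) = B *ᵥ U v := fun v => by
    apply L'.injective
    show L' (L'.symm (L (A *ᵥ v))) = L' (B *ᵥ L'.symm (L v))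
    rw [LinearEquiv.apply_symm_apply, hL, hL', LinearEquiv.apply_symm_apply]
  refine ⟨⟨LinearMap.toMatrix' (U : (Fin n → K) →ₗ[K] (Fin n → K)),
    LinearMap.toMatrix' (U.symm : (Fin n → K) →ₗ[K] (Fin n → K)), ?_, ?_⟩,
    ext_of_mulVec_single fun i => ?_⟩
  · rw [← LinearMap.toMatrix'_comp]; simp
  · rw [← LinearMap.toMatrix'_comp]; simp
  · show (LinearMap.toMatrix' (U : (Fin n → K) →ₗ[K] (Fin n → K)) * A *
      LinearMap.toMatrix' (U.symm : (Fin n → K) →ₗ[K] (Fin n → K))) *ᵥ Pi.single i 1 = _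
    rw [← mulVec_mulVec, ← mulVec_mulVec]
    simp only [← Matrix.toLin'_apply (LinearMap.toMatrix' _), Matrix.toLin'_toMatrix',
      LinearEquiv.coe_coe]
    rw [hU, LinearEquiv.apply_symm_apply]

/-- a single block is cyclic -/
theorem cs_of_models {p : K[X]} (hp : p.Monic) {k : ℕ} {A : Matrix (Fin n) (Fin n) K}
    (hA : Models A (Blk p k)) : CS (p ^ k) A := by
  obtain ⟨L, hL⟩ := hA
  obtain ⟨w, hw⟩ : ∃ w, L w = Submodule.Quotient.mk 1 := L.surjective _
  have hfin : n = k * p.natDegree := by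
    have h := L.finrank_eq
    rwa [finrank_fin_fun, GLCount.finrank_blk] at h
  have hmem : p ^ k ∈ Submodule.span K[X] {p ^ k} := Submodule.mem_span_singleton_self _
  refine ⟨w, hp.pow k, by rw [natDegree_pow, hfin], ext_of_mulVec_single fun i => ?_,
    fun q hq h0 => ?_⟩
  · rw [zero_mulVec]
    refine L.injective ?_
    rw [Models.aeval hL, map_zero]
    obtain ⟨a, ha⟩ := Submodule.Quotient.mk_surjective _ (L (Pi.single i 1))
    rw [← ha, ← Submodule.Quotient.mk_smul, Submodule.Quotient.mk_eq_zero, smul_eq_mul, mul_comm,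
      ← smul_eq_mul]
    exact Submodule.smul_mem _ a hmem
  · have h1 := congrArg L h0
    rw [Models.aeval hL, map_zero, hw, ← Submodule.Quotient.mk_smul, Submodule.Quotient.mk_eq_zero,
      smul_eq_mul, mul_one, Submodule.mem_span_singleton] at h1
    obtain ⟨c, hc⟩ := h1
    by_contra hq0
    have hdvd : p ^ k ∣ q := ⟨c, by rw [← hc, smul_eq_mul, mul_comm]⟩
    have h2 := Polynomial.natDegree_le_of_dvd hdvd hq0
    rw [natDegree_pow, ← hfin] at h2
    have h3 := (natDegree_lt_iff_degree_lt hq0).2 hq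
    omega

/-- splitting off one coordinate -/
noncomputable def splitOff {R : Type*} [Semiring R] {ι : Type u} (i₀ : ι) (M : ι → Type u)
    [∀ i, AddCommMonoid (M i)] [∀ i, Module R (M i)] :
    ((i : ι) → M i) ≃ₗ[R] ((i : {i // i ≠ i₀}) → M i.1) × M i₀ :=
  letI := Classical.decEq ι
  { toFun := fun z => (fun i => z i.1, z i₀)
    map_add' := fun _ _ => rfl
    map_smul' := fun _ _ => rfl
    invFun := fun w i => if h : i = i₀ then h ▸ w.2 else w.1 ⟨i, h⟩
    left_inv := fun z => by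
      funext i
      by_cases h : i = i₀
      · subst h; simp
      · simp [h]
    right_inv := fun w => by
      refine Prod.ext (funext fun i => ?_) ?_
      · simp [i.2]
      · simp }

/-- the two parts of a vector -/
def vsplit {h l : ℕ} (e : Fin h ⊕ Fin l ≃ Fin n) :
    (Fin n → K) ≃ₗ[K] (Fin h → K) × (Fin l → K) where
  toFun v := (fun j => v (e (Sum.inl j)), fun j => v (e (Sum.inr j)))
  map_add' _ _ := rfl
  map_smul' _ _ := rfl
  invFun w := vpair e w.1 w.2
  left_inv v := by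
    funext k
    obtain ⟨s, rfl⟩ := e.surjective k
    rcases s with i | j <;> simp [vpair]
  right_inv w := Prod.ext (funext fun j => by simp [vpair]) (funext fun j => by simp [vpair])

theorem dec_of_models (b : ℕ) : ∀ (m : ℕ) {ι : Type u} [Fintype ι], Fintype.card ι = m →
    ∀ (p : ι → K[X]) (k : ι → ℕ), (∀ i, (p i).Monic) → (∀ i, b ≤ k i * (p i).natDegree) →
    ∀ {n : ℕ} (A : Matrix (Fin n) (Fin n) K), Models A ((i : ι) → Blk (p i) (k i)) → Dec b A := by
  classical
  intro m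
  induction m with
  | zero =>
    intro ι _ hι p k _ _ n A hA
    obtain ⟨L, -⟩ := hA
    haveI : IsEmpty ι := Fintype.card_eq_zero_iff.1 hι
    have h := L.finrank_eq
    rw [finrank_fin_fun, finrank_zero_of_subsingleton] at h
    subst h
    exact Dec.nil A
  | succ m ih =>
    intro ι _ hι p k hp hb n A hA
    haveI hne : Nonempty ι := Fintype.card_pos_iff.1 (by omega)
    obtain ⟨i₀⟩ := hne
    haveI : ∀ i, Module.Finite K (Blk (p i) (k i)) := fun i => ((hp i).pow (k i)).finite_quotient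
    obtain ⟨A₁, hA₁⟩ := exists_model (K := K) ((i : {i // i ≠ i₀}) → Blk (p i.1) (k i.1))
    obtain ⟨A₂, hA₂⟩ := exists_model (K := K) (Blk (p i₀) (k i₀))
    obtain ⟨L₁, hL₁⟩ := hA₁
    obtain ⟨L₂, hL₂⟩ := hA₂
    have hsum : finrank K ((i : {i // i ≠ i₀}) → Blk (p i.1) (k i.1)) +
        finrank K (Blk (p i₀) (k i₀)) = n := by
      obtain ⟨L, -⟩ := hA
      have h := L.finrank_eq
      rw [finrank_fin_fun, Module.finrank_pi_fintype, Fintype.sum_eq_add_sum_subtype_ne _ i₀] at h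
      rw [Module.finrank_pi_fintype, h, add_comm]
    let e := (finSumFinEquiv).trans (finCongr hsum)
    let S : (Fin n → K) ≃ₗ[K] ((i : ι) → Blk (p i) (k i)) :=
      (vsplit e).trans ((L₁.prodCongr L₂).trans
        ((splitOff (R := K[X]) i₀ fun i => Blk (p i) (k i)).symm.restrictScalars K))
    have hS : ∀ v, S (blk e A₁ 0 0 A₂ *ᵥ v) = (X : K[X]) • S v := by
      intro v
      obtain ⟨x, y, rfl⟩ := exists_vpair e v
      have hv : ∀ (x' : Fin _ → K) (y' : Fin _ → K), vsplit (K := K) e (vpair e x' y') = (x', y') :=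
        fun x' y' => (vsplit (K := K) e).apply_symm_apply (x', y')
      rw [blk_mulVec, zero_mulVec, zero_mulVec, add_zero, zero_add]
      show (splitOff (R := K[X]) i₀ fun i => Blk (p i) (k i)).symm
          ((L₁.prodCongr L₂) (vsplit e (vpair e (A₁ *ᵥ x) (A₂ *ᵥ y)))) =
        X • (splitOff (R := K[X]) i₀ fun i => Blk (p i) (k i)).symm
          ((L₁.prodCongr L₂) (vsplit e (vpair e x y)))
      rw [hv, hv, ← map_smul]
      congr 1
      exact Prod.ext (hL₁ x) (hL₂ y)
    obtain ⟨P, hP⟩ := models_sim hA ⟨S, hS⟩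
    refine Dec.cons e A₁ A₂ A P _ ?_ ?_ (cs_of_models (hp i₀) ⟨L₂, hL₂⟩) hP
    · exact ih (ι := {i // i ≠ i₀}) (by rw [Fintype.card_subtype_compl, Fintype.card_subtype_eq]; omega)
        (fun i => p i.1) (fun i => k i.1) (fun i => hp i.1) (fun i => hb i.1) A₁ ⟨L₁, hL₁⟩
    · rw [GLCount.finrank_blk]
      exact hb i₀

variable [Fintype K]

/-- a matrix without eigenvalues: either all determinants occur in the centraliser, or all blocks
are large -/
theorem dec_dichotomy {A : Matrix (Fin n) (Fin n) K} (hA : EF A) :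
    Dec 2 A ∧ (Full A ∨ Dec 4 A) := by
  classical
  have hd : A.det ≠ 0 := fun h0 => by
    refine hA 0 ?_
    rw [det_eq_sign_charpoly_coeff, mul_eq_zero, coeff_zero_eq_eval_zero] at h0
    exact h0.resolve_left (pow_ne_zero _ (neg_ne_zero.2 one_ne_zero))
  obtain ⟨g, hg⟩ : ∃ g : GL (Fin n) K, g.1 = A :=
    ⟨((Matrix.isUnit_iff_isUnit_det A).2 (isUnit_iff_ne_zero.2 hd)).unit, rfl⟩
  obtain ⟨ι, hι, p, k, hp, -, -, ⟨Φ⟩⟩ := GLCount.exists_decomp g
  have hM : Models A ((i : ι) → Blk (p i) (k i)) := by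
    refine ⟨(AEval'.of (lin g.1)).trans (Φ.restrictScalars K), fun v => ?_⟩
    show Φ (AEval'.of (lin g.1) (A *ᵥ v)) = X • Φ (AEval'.of (lin g.1) v)
    rw [← map_smul, AEval'.X_smul_of]
    subst hg
    rfl
  let Φ' := Φ.trans (GLCount.dropZero p k)
  have hM' : Models A ((i : {i // k i ≠ 0}) → Blk (p i.1) (k i.1)) := by
    obtain ⟨L, hL⟩ := hM
    exact ⟨L.trans ((GLCount.dropZero p k).restrictScalars K), fun v => by
      show GLCount.dropZero p k (L (A *ᵥ v)) = X • GLCount.dropZero p k (L v)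
      rw [hL, map_smul]⟩
  have hdeg : ∀ i : {i // k i ≠ 0}, 2 ≤ (p i.1).natDegree := by
    intro i
    by_contra hlt
    have h1 : (p i.1).natDegree = 1 := le_antisymm (by omega) (hp i.1).1.natDegree_pos
    obtain ⟨L, hL⟩ := hM'
    obtain ⟨z, hz⟩ : ∃ z : (j : {j // k j ≠ 0}) → Blk (p j.1) (k j.1),
        z = Pi.single i (Submodule.Quotient.mk (p i.1 ^ (k i.1 - 1))) := ⟨_, rfl⟩
    have hz0 : z ≠ 0 := by
      rw [hz]
      intro h
      rw [Pi.single_eq_zero_iff, Submodule.Quotient.mk_eq_zero, Submodule.mem_span_singleton] at h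
      obtain ⟨a, ha⟩ := h
      have hdvd : p i.1 ^ k i.1 ∣ p i.1 ^ (k i.1 - 1) := ⟨a, by rw [← ha, smul_eq_mul, mul_comm]⟩
      have := (pow_dvd_pow_iff (hp i.1).1.ne_zero (hp i.1).1.not_isUnit).1 hdvd
      have := i.2
      omega
    have hpz : p i.1 • z = 0 := by
      rw [hz, ← Pi.single_smul, Pi.single_eq_zero_iff, ← Submodule.Quotient.mk_smul,
        Submodule.Quotient.mk_eq_zero, smul_eq_mul, ← pow_succ',
        show k i.1 - 1 + 1 = k i.1 from by have := i.2; omega]
      exact Submodule.mem_span_singleton_self _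
    obtain ⟨v, hv⟩ := L.surjective z
    have hpe : p i.1 = X - C (-(p i.1).coeff 0) := by
      conv_lhs => rw [(hp i.1).2.eq_X_add_C h1]
      simp
    have h0 : Polynomial.aeval A (p i.1) *ᵥ v = 0 :=
      L.injective (by rw [Models.aeval hL, hv, hpz, map_zero])
    rw [hpe, map_sub, aeval_X, aeval_C, Algebra.algebraMap_eq_smul_one, sub_mulVec, smul_mulVec,
      one_mulVec, sub_eq_zero] at h0
    exact hA _ (eval_charpoly_of_eigen (fun hv0 => hz0 (by rw [← hv, hv0, map_zero])) h0)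
  have hdec : ∀ b, (∀ i : {i // k i ≠ 0}, b ≤ k i.1 * (p i.1).natDegree) → Dec b A := fun b hb =>
    dec_of_models b _ rfl (fun i : {i // k i ≠ 0} => p i.1) (fun i => k i.1) (fun i => (hp i.1).2)
      hb A hM'
  refine ⟨hdec 2 fun i => le_trans (hdeg i) (Nat.le_mul_of_pos_left _ (by have := i.2; omega)), ?_⟩
  by_cases h1 : ∀ i : {i // k i ≠ 0}, 2 ≤ k i.1
  · exact Or.inr (hdec 4 fun i => Nat.mul_le_mul (h1 i) (hdeg i))
  · push Not at h1
    obtain ⟨i, hi⟩ := h1
    have hk1 : k i.1 = 1 := by have := i.2; omega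
    refine Or.inl fun a ha => ?_
    obtain ⟨c, hc, hcd⟩ := (BlockDet.matrix_facts g hp Φ).2 i.1 (Units.mk0 a ha)
    refine ⟨c, ?_, ?_⟩
    · show c.1 * A * c⁻¹.1 = A
      rw [← hg, ← Units.val_mul, ← Units.val_mul, hc, mul_inv_cancel_right]
    · have := congrArg Units.val hcd
      simpa [hk1] using this

end Cfsg.Agent.LevCover
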