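/-
Covering number of PSL(n,q): the product of two conjugates of a matrix without eigenvalues.
-/
import Cfsg.Agent.Lib.LevCover.Decomp

set_option autoImplicit false
set_option maxHeartbeats 800000

namespace Cfsg.Agent.LevCover

open Polynomial Matrix Module
open Cfsg.Agent.SLComm (Cyc bord img eigen)

universe u

variable {K : Type u} [Field K] {n h l : ℕ}

theorem EF.det_ne {A : Matrix (Fin n) (Fin n) K} (hA : EF A) : A.det ≠ 0 := fun h0 => by
  refine hA 0 ?_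
  rw [det_eq_sign_charpoly_coeff, mul_eq_zero, coeff_zero_eq_eval_zero] at h0
  exact h0.resolve_left (pow_ne_zero _ (neg_ne_zero.2 one_ne_zero))

theorem EF.no_eigen {A : Matrix (Fin n) (Fin n) K} (hA : EF A) {x : Fin n → K} (hx : x ≠ 0)
    (a : K) : A *ᵥ x ≠ a • x := fun h => hA a (eval_charpoly_of_eigen hx h)

theorem EF.not_isSc {A : Matrix (Fin n) (Fin n) K} (hA : EF A) (hn : 1 ≤ n) : ¬ IsSc A := by
  rintro ⟨a, rfl⟩
  exact hA.no_eigen (x := Pi.single ⟨0, hn⟩ 1) (by simp) a (by rw [smul_mulVec, one_mulVec])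

theorem EF.cj {A : Matrix (Fin n) (Fin n) K} (hA : EF A) (P : GL (Fin n) K) :
    EF (LevCover.cj P A) := fun a => by
  rw [charpoly_cj]
  exact hA a

theorem EF.blocks {e : Fin h ⊕ Fin l ≃ Fin n} {A : Matrix (Fin n) (Fin n) K} {P : GL (Fin n) K}
    {A₁ : Matrix (Fin h) (Fin h) K} {A₂ : Matrix (Fin l) (Fin l) K} (hA : EF A)
    (hP : LevCover.cj P A = blk e A₁ 0 0 A₂) : EF A₁ ∧ EF A₂ := by
  have hc : A.charpoly = A₁.charpoly * A₂.charpoly := by
    rw [← charpoly_cj P A, hP, charpoly_blk_lower]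
  constructor <;> intro a h0 <;> refine hA a ?_ <;> rw [hc, eval_mul, h0] <;> simp

/-- conjugating a block -/
def blkGL (e : Fin h ⊕ Fin l ≃ Fin n) (g₁ : GL (Fin h) K) (g₂ : GL (Fin l) K) : GL (Fin n) K :=
  ⟨blk e g₁.1 0 0 g₂.1, blk e g₁⁻¹.1 0 0 g₂⁻¹.1,
    by rw [blk_mul]; simp [blk, Matrix.fromBlocks_one],
    by rw [blk_mul]; simp [blk, Matrix.fromBlocks_one]⟩

/-- conjugating below the diagonal -/
def lowBlk (e : Fin h ⊕ Fin l ≃ Fin n) (S : Matrix (Fin l) (Fin h) K) : GL (Fin n) K :=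
  ⟨blk e 1 0 S 1, blk e 1 0 (-S) 1,
    by rw [blk_mul]; simp [blk, Matrix.fromBlocks_one],
    by rw [blk_mul]; simp [blk, Matrix.fromBlocks_one]⟩

theorem det_blkGL (e : Fin h ⊕ Fin l ≃ Fin n) (g₁ : GL (Fin h) K) (g₂ : GL (Fin l) K) :
    (blkGL e g₁ g₂).1.det = g₁.1.det * g₂.1.det := det_blk_lower e g₁.1 0 g₂.1

theorem det_lowBlk (e : Fin h ⊕ Fin l ≃ Fin n) (S : Matrix (Fin l) (Fin h) K) :
    (lowBlk e S).1.det = 1 := by
  rw [show (lowBlk e S).1.det = (1 : Matrix (Fin h) (Fin h) K).det * (1 : Matrix (Fin l) (Fin l) K).det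
    from det_blk_lower e _ _ _, det_one, det_one, one_mul]

theorem cj_blkGL (e : Fin h ⊕ Fin l ≃ Fin n) (g₁ : GL (Fin h) K) (g₂ : GL (Fin l) K)
    (A : Matrix (Fin h) (Fin h) K) (D : Matrix (Fin l) (Fin l) K) :
    LevCover.cj (blkGL e g₁ g₂) (blk e A 0 0 D) =
      blk e (LevCover.cj g₁ A) 0 0 (LevCover.cj g₂ D) := by
  show blk e g₁.1 0 0 g₂.1 * blk e A 0 0 D * blk e g₁⁻¹.1 0 0 g₂⁻¹.1 = _
  rw [blk_mul, blk_mul]
  simp [LevCover.cj]

theorem cj_lowBlk (e : Fin h ⊕ Fin l ≃ Fin n) (S : Matrix (Fin l) (Fin h) K)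
    (A : Matrix (Fin h) (Fin h) K) (D : Matrix (Fin l) (Fin l) K) :
    LevCover.cj (lowBlk e S) (blk e A 0 0 D) = blk e A 0 (S * A - D * S) D := by
  show blk e 1 0 S 1 * blk e A 0 0 D * blk e 1 0 (-S) 1 = _
  rw [blk_mul, blk_mul]
  simp [sub_eq_add_neg]

theorem cs_empty (A : Matrix (Fin 0) (Fin 0) K) : CS (1 : K[X]) A := by
  have h1 : A.charpoly = 1 := by
    rw [← A.charpoly_monic.natDegree_eq_zero, charpoly_natDegree_eq_dim, Fintype.card_fin]
  rw [← h1]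
  exact cyc_of_geo (h1 ▸ Splits.one) fun a x y _ _ hx => absurd (Subsingleton.elim x 0) hx

variable [Fintype K]

/-- finitely many nonzero functionals have a common nonzero value -/
theorem avoid_functionals {V : Type*} [AddCommGroup V] [Module K V] (L : K → V →ₗ[K] K)
    (s : Finset K) (hs : s.card < Fintype.card K) (hL : ∀ a ∈ s, ∃ v, L a v ≠ 0) :
    ∃ v, ∀ a ∈ s, L a v ≠ 0 := by
  classical
  induction s using Finset.induction with
  | empty => exact ⟨0, fun a ha => absurd ha (Finset.notMem_empty a)⟩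
  | insert a s ha ih =>
    rw [Finset.card_insert_of_notMem ha] at hs
    obtain ⟨v, hv⟩ := ih (by omega) fun b hb => hL b (Finset.mem_insert_of_mem hb)
    by_cases hav : L a v ≠ 0
    · exact ⟨v, fun b hb => (Finset.mem_insert.1 hb).elim (fun h => h ▸ hav) (hv b)⟩
    push Not at hav
    obtain ⟨w, hw⟩ := hL a (Finset.mem_insert_self a s)
    obtain ⟨t, ht⟩ : ∃ t, t ∉ insert 0 (s.image fun b => -(L b v) / L b w) := by
      by_contra hall
      push Not at hall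
      have h1 : (Finset.univ : Finset K).card ≤ (insert 0 (s.image fun b => -(L b v) / L b w)).card :=
        Finset.card_le_card fun x _ => hall x
      have h2 := Finset.card_insert_le 0 (s.image fun b => -(L b v) / L b w)
      have h3 := Finset.card_image_le (s := s) (f := fun b => -(L b v) / L b w)
      rw [Finset.card_univ] at h1
      omega
    rw [Finset.mem_insert, not_or, Finset.mem_image] at ht
    refine ⟨v + t • w, fun b hb => ?_⟩
    rw [map_add, map_smul, smul_eq_mul]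
    rcases Finset.mem_insert.1 hb with rfl | hbs
    · rw [hav, zero_add]
      exact mul_ne_zero ht.1 hw
    · intro h0
      rcases eq_or_ne (L b w) 0 with hbw | hbw
      · exact hv b hbs (by rwa [hbw, mul_zero, add_zero] at h0)
      · exact ht.2 ⟨b, hbs, by rw [div_eq_iff hbw]; linear_combination -h0⟩

/-- linking two blocks -/
theorem couple {e : Fin h ⊕ Fin l ≃ Fin n} {A : Matrix (Fin n) (Fin n) K} {P : GL (Fin n) K}
    {A₁ : Matrix (Fin h) (Fin h) K} {A₂ : Matrix (Fin l) (Fin l) K}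
    (hP : LevCover.cj P A = blk e A₁ 0 0 A₂) (hA : EF A) {g₁ : GL (Fin h) K} {g₂ : GL (Fin l) K}
    {f₁ f₂ : K[X]} (hf₁ : f₁.Splits) (hf₂ : f₂.Splits)
    (h₁ : CS f₁ (A₁ * LevCover.cj g₁ A₁)) (h₂ : CS f₂ (A₂ * LevCover.cj g₂ A₂)) :
    ∃ g : GL (Fin n) K, g.1.det = g₁.1.det * g₂.1.det ∧ CS (f₁ * f₂) (A * LevCover.cj g A) := by
  classical
  obtain ⟨hA₁, hA₂⟩ := hA.blocks hP
  obtain ⟨D₁, hD₁⟩ : ∃ D, D = A₁ * LevCover.cj g₁ A₁ := ⟨_, rfl⟩
  obtain ⟨D₂, hD₂⟩ : ∃ D, D = A₂ * LevCover.cj g₂ A₂ := ⟨_, rfl⟩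
  rw [← hD₁] at h₁
  rw [← hD₂] at h₂
  obtain ⟨s, hs⟩ : ∃ s : Finset K, s = Finset.univ.filter
      (fun a => f₁.eval a = 0 ∧ f₂.eval a = 0) := ⟨_, rfl⟩
  have hdata : ∀ a : K, ∃ (k : Fin h → K) (u : Fin l → K), a ∈ s →
      (k ≠ 0 ∧ D₁ *ᵥ k = a • k) ∧ (u ≠ 0 ∧ u ᵥ* D₂ = a • u) := by
    intro a
    by_cases ha : a ∈ s
    · rw [hs, Finset.mem_filter] at ha
      obtain ⟨k, hk⟩ := exists_eigen (A := D₁) (a := a) (h₁.charpoly ▸ ha.2.1)
      obtain ⟨u, hu⟩ := exists_transpose_eigen (A := D₂) (a := a) (h₂.charpoly ▸ ha.2.2)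
      exact ⟨k, u, fun _ => ⟨hk, hu⟩⟩
    · exact ⟨0, 0, fun h => absurd h ha⟩
  choose k u hku using hdata
  have hs0 : ∀ a ∈ s, a ≠ 0 := by
    intro a ha
    rw [hs, Finset.mem_filter] at ha
    refine eigen_ne_zero (A := D₁) ?_ (h₁.charpoly ▸ ha.2.1)
    rw [hD₁, det_mul, det_cj]
    exact mul_ne_zero hA₁.det_ne hA₁.det_ne
  have hscard : s.card < Fintype.card K := by
    have : s ⊆ Finset.univ.erase 0 := fun a ha =>
      Finset.mem_erase.2 ⟨hs0 a ha, Finset.mem_univ a⟩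
    have := Finset.card_le_card this
    rw [Finset.card_erase_of_mem (Finset.mem_univ _), Finset.card_univ] at this
    have := Fintype.card_pos (α := K)
    omega
  let Z : Matrix (Fin l) (Fin h) K → Matrix (Fin l) (Fin h) K := fun S =>
    A₂ * (S * LevCover.cj g₁ A₁ - LevCover.cj g₂ A₂ * S)
  let L : K → Matrix (Fin l) (Fin h) K →ₗ[K] K := fun a =>
    { toFun := fun S => u a ⬝ᵥ (Z S *ᵥ k a)
      map_add' := fun S T => by
        simp only [Z, Matrix.add_mul, Matrix.mul_add, Matrix.mul_sub, add_mulVec, sub_mulVec,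
          dotProduct_add, dotProduct_sub]
        ring
      map_smul' := fun c S => by
        simp only [Z, Matrix.smul_mul, Matrix.mul_smul, ← smul_sub, smul_mulVec, dotProduct_smul,
          RingHom.id_apply] }
  have hL : ∀ a ∈ s, ∃ S, L a S ≠ 0 := by
    intro a ha
    obtain ⟨⟨hk, hk'⟩, ⟨hu, hu'⟩⟩ := hku a ha
    obtain ⟨r, hr0, hr1⟩ := exists_dual_two hk
      (z := LevCover.cj g₁ A₁ *ᵥ k a) (fun t => (hA₁.cj g₁).no_eigen hk t) 0 1
    have hw : u a ᵥ* A₂ ≠ 0 := fun h0 => by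
      rw [hD₂, ← vecMul_vecMul, h0, zero_vecMul, eq_comm, smul_eq_zero] at hu'
      exact hu'.elim (hs0 a ha) hu
    obtain ⟨i, hi⟩ : ∃ i, (u a ᵥ* A₂) i ≠ 0 := Function.ne_iff.1 hw
    refine ⟨vecMulVec (Pi.single i 1) r, ?_⟩
    show u a ⬝ᵥ (Z _ *ᵥ k a) ≠ 0
    simp only [Z]
    rw [← mulVec_mulVec, dotProduct_mulVec, sub_mulVec, ← mulVec_mulVec, ← mulVec_mulVec,
      vecMulVec_mulVec, vecMulVec_mulVec, op_smul_eq_smul, op_smul_eq_smul, hr0, hr1, one_smul,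
      zero_smul, mulVec_zero, sub_zero, dotProduct_single, mul_one]
    exact hi
  obtain ⟨S, hS⟩ := avoid_functionals L s hscard hL
  have hD : blk e A₁ 0 0 A₂ * LevCover.cj (lowBlk e S * blkGL e g₁ g₂) (blk e A₁ 0 0 A₂) =
      blk e D₁ 0 (Z S) D₂ := by
    rw [← cj_cj, cj_blkGL, cj_lowBlk, blk_mul]
    simp [hD₁, hD₂, Z]
  refine ⟨P⁻¹ * (lowBlk e S * blkGL e g₁ g₂) * P, ?_, ?_⟩
  · rw [det_mul_gl, det_mul_gl, det_mul_gl, det_lowBlk, det_blkGL, det_gl_inv, one_mul]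
    field_simp [gl_det_ne]
  · have hAD : A * LevCover.cj (P⁻¹ * (lowBlk e S * blkGL e g₁ g₂) * P) A =
        LevCover.cj P⁻¹ (blk e D₁ 0 (Z S) D₂) := by
      rw [← hD, cj_mul, ← hP, cj_inv_cj, ← cj_cj, ← cj_cj]
    rw [hAD]
    refine (cs_blk_lower e D₁ _ D₂ h₁ h₂ hf₁ hf₂ fun a ha₁ ha₂ x hx hx' y hy => ?_).cj _
    have ha : a ∈ s := by rw [hs]; exact Finset.mem_filter.2 ⟨Finset.mem_univ a, ha₁, ha₂⟩
    obtain ⟨⟨hk, hk'⟩, ⟨-, hu'⟩⟩ := hku a ha
    obtain ⟨t, ht⟩ := h₁.geo a (k a) x hk' hx' hk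
    have h0 := congrArg (fun z => u a ⬝ᵥ z) hy
    rw [dotProduct_add, dotProduct_mulVec _ D₂, hu', smul_dotProduct, dotProduct_smul,
      add_eq_right, ht, mulVec_smul, dotProduct_smul, smul_eq_zero] at h0
    rcases h0 with h0 | h0
    · exact hx (by rw [ht, h0, zero_smul])
    · exact hS a ha h0

/-- some product with a conjugate is cyclic with all roots in the field -/
theorem dec_double (h4 : 4 ≤ Fintype.card K) {A : Matrix (Fin n) (Fin n) K} (hdec : Dec 2 A) :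
    EF A → ∃ (g : GL (Fin n) K) (f : K[X]), f.Splits ∧ CS f (A * LevCover.cj g A) := by
  induction hdec with
  | nil A => exact fun _ => ⟨1, 1, Splits.one, cs_empty _⟩
  | @cons h l n e A₁ A₂ A P f _ hl hcs hP ih =>
    intro hA
    obtain ⟨g₁, f₁, hf₁, h₁⟩ := ih (hA.blocks hP).1
    obtain ⟨m, rfl⟩ : ∃ m, l = m + 2 := ⟨l - 2, by omega⟩
    obtain ⟨g₀, -, hd⟩ := chunk_any h4 hcs (by omega) (hA.blocks hP).2.det_ne
    obtain ⟨x, hx0, hx1, hx2⟩ := exists_avoid_three h4 (0 : K) A₂.det (-A₂.det)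
    obtain ⟨g₂, -, h₂⟩ := hd (Fin.cons x fun _ => 1) (Fin.cases hx0 fun _ => one_ne_zero)
      (fun hm j => by
        have hj : j = 0 := Fin.ext (by omega)
        rw [hj, Fin.cons_zero, ← sq]
        exact fun h => (sq_eq_sq_iff_eq_or_eq_neg.1 h).elim hx1 hx2)
    obtain ⟨g, -, hg⟩ := couple hP hA hf₁ (pol_splits _ _) h₁ h₂
    exact ⟨g, _, hf₁.mul (pol_splits _ _), hg⟩

/-- avoiding a root, with some freedom in the determinant -/
theorem dec_avoid (h4 : 4 ≤ Fintype.card K) {A : Matrix (Fin n) (Fin n) K} (hdec : Dec 4 A) :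
    EF A → ∀ ρ : K, ρ ≠ 0 → ρ ≠ 1 → ∀ δ : K, ∃ (g : GL (Fin n) K) (f : K[X]),
      f.Splits ∧ CS f (A * LevCover.cj g A) ∧ f.eval ρ ≠ 0 ∧
        (5 ≤ Fintype.card K → 0 < n → g.1.det ≠ δ) := by
  classical
  induction hdec with
  | nil A => exact fun _ ρ _ _ δ => ⟨1, 1, Splits.one, cs_empty _, by simp, fun _ h => absurd h (by omega)⟩
  | @cons h l n e A₁ A₂ A P f _ hl hcs hP ih =>
    intro hA ρ hρ0 hρ1 δ
    obtain ⟨g₁, f₁, hf₁, h₁, h₁ρ, -⟩ := ih (hA.blocks hP).1 ρ hρ0 hρ1 1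
    obtain ⟨m, rfl⟩ : ∃ m, l = m + 4 := ⟨l - 4, by omega⟩
    obtain ⟨g₀, hg₀, hd⟩ := chunk_any h4 hcs (by omega) (hA.blocks hP).2.det_ne
    obtain ⟨x, hx0, hx1, hx2, hx3⟩ : ∃ x : K, x ≠ 0 ∧ x ≠ ρ ∧ x ≠ A₂.det ^ 2 / ρ ∧
        (5 ≤ Fintype.card K → x ≠ δ / (g₁.1.det * g₀)) := by
      by_cases h5 : 5 ≤ Fintype.card K
      · have : ({0, ρ, A₂.det ^ 2 / ρ, δ / (g₁.1.det * g₀)} : Finset K).card < Fintype.card K :=
          lt_of_le_of_lt Finset.card_le_four (by omega)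
        rw [← Finset.card_univ] at this
        obtain ⟨x, -, hx⟩ := Finset.exists_mem_notMem_of_card_lt_card this
        simp only [Finset.mem_insert, Finset.mem_singleton, not_or] at hx
        exact ⟨x, hx.1, hx.2.1, hx.2.2.1, fun _ => hx.2.2.2⟩
      · obtain ⟨x, hx⟩ := exists_avoid_three h4 0 ρ (A₂.det ^ 2 / ρ)
        exact ⟨x, hx.1, hx.2.1, hx.2.2, fun h => absurd h h5⟩
    obtain ⟨g₂, hg₂, h₂⟩ := hd (Fin.cons x fun _ => 1) (Fin.cases hx0 fun _ => one_ne_zero)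
      (fun hm => absurd hm (by omega))
    obtain ⟨g, hgd, hg⟩ := couple hP hA hf₁ (pol_splits _ _) h₁ h₂
    refine ⟨g, _, hf₁.mul (pol_splits _ _), hg, ?_, fun h5 _ => ?_⟩
    · rw [eval_mul]
      refine mul_ne_zero h₁ρ fun h0 => ?_
      rw [pol_eval] at h0
      rcases h0 with h0 | ⟨j, h0⟩
      · rw [Fin.prod_cons, Finset.prod_const_one, mul_one, eq_div_iff hx0] at h0
        exact hx2 (by rw [eq_div_iff hρ0, mul_comm, h0])
      · revert h0
        refine Fin.cases ?_ (fun j => ?_) j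
        · simpa using hx1.symm
        · simpa using hρ1
    · rw [hgd, hg₂, Fin.prod_univ_succ]
      simp only [Fin.cons_zero, Fin.cons_succ, one_pow, Finset.prod_const_one, mul_one,
        Fin.val_zero, zero_add, pow_one, ← mul_assoc]
      intro h0
      exact hx3 h5 (by rw [eq_div_iff (mul_ne_zero (gl_det_ne _) hg₀), mul_comm, h0])

/-- the choice of the free root -/
theorem pick (h4 : 4 ≤ Fintype.card K) {c ρ u : K} (hρ : ρ ≠ 0) (hc : c ≠ 0) (hu : u ≠ 0)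
    (hc4 : Fintype.card K = 4 → c ≠ 1) (hu5 : Fintype.card K = 5 → u ≠ -ρ ^ 3) :
    ∃ R : K, R ≠ 0 ∧ u / R ^ 2 ≠ ρ ∧ c * R / u ≠ ρ ∧ R ≠ ρ := by
  classical
  obtain ⟨σ, hσ⟩ : ∃ σ, σ = ρ * u / c := ⟨_, rfl⟩
  suffices hR : ∃ R : K, R ≠ 0 ∧ R ≠ ρ ∧ R ≠ σ ∧ R ^ 2 ≠ u / ρ by
    obtain ⟨R, h0, h1, h2, h3⟩ := hR
    refine ⟨R, h0, fun e => h3 ?_, fun e => h2 ?_, h1⟩
    · rw [div_eq_iff (pow_ne_zero 2 h0)] at e
      rw [e, mul_div_assoc, mul_comm, div_mul_cancel₀ _ hρ]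
    · rw [div_eq_iff hu] at e
      rw [hσ, ← e, mul_div_assoc, mul_comm, div_mul_cancel₀ _ hc]
  by_contra hall
  push Not at hall
  by_cases hr : ∃ r : K, r ^ 2 = u / ρ
  swap
  · push Not at hr
    obtain ⟨R, h0, h1, h2⟩ := exists_avoid_three h4 0 ρ σ
    exact hr R (hall R h0 h1 h2)
  obtain ⟨r, hr⟩ := hr
  have hsub : (Finset.univ : Finset K) ⊆ {0, ρ, σ, r, -r} := by
    intro R _
    simp only [Finset.mem_insert, Finset.mem_singleton]
    by_contra hne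
    push Not at hne
    exact (sq_eq_sq_iff_eq_or_eq_neg.1 ((hall R hne.1 hne.2.1 hne.2.2.1).trans hr.symm)).elim
      hne.2.2.2.1 hne.2.2.2.2
  have hle : Fintype.card K ≤ 5 := by
    rw [← Finset.card_univ]
    exact le_trans (Finset.card_le_card hsub) Finset.card_le_five
  have hr0 : r ≠ 0 := fun e => by
    rw [e, zero_pow two_ne_zero, eq_comm, div_eq_zero_iff] at hr
    exact hr.elim hu hρ
  have hpow : ∀ y : K, y ≠ 0 → y ^ (Fintype.card K - 1) = 1 := fun y hy =>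
    FiniteField.pow_card_sub_one_eq_one y hy
  rcases Nat.lt_or_ge (Fintype.card K) 5 with hlt | hge
  · have hK : Fintype.card K = 4 := by omega
    rw [hK] at hpow
    have hneg : (-1 : K) = 1 := by
      have := hpow (-1) (neg_ne_zero.2 one_ne_zero)
      norm_num at this
      exact this
    have hsub' : (Finset.univ : Finset K) ⊆ {0, ρ, σ, r} := fun R hR => by
      have := hsub hR
      rw [← neg_one_mul r, hneg, one_mul] at this
      simpa using this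
    have hne : ρ ≠ σ ∧ ρ ≠ r ∧ σ ≠ r := by
      refine ⟨?_, ?_, ?_⟩ <;> intro e <;> subst e <;>
        · have := Finset.card_le_card hsub'
          simp only [Finset.mem_insert, Finset.mem_singleton, true_or, or_true,
            Finset.insert_eq_of_mem] at this
          rw [Finset.card_univ, hK] at this
          have h3 : ∀ a b c : K, ({a, b, c} : Finset K).card ≤ 3 := fun _ _ _ => Finset.card_le_three
          linarith [this.trans (h3 _ _ _)]
    have hρσ : (ρ * σ)⁻¹ = r := by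
      have hσ0 : σ ≠ 0 := hσ ▸ div_ne_zero (mul_ne_zero hρ hu) hc
      have hmem := hsub' (Finset.mem_univ (ρ * σ)⁻¹)
      simp only [Finset.mem_insert, Finset.mem_singleton] at hmem
      rcases hmem with e | e | e | e
      · exact absurd e (inv_ne_zero (mul_ne_zero hρ hσ0))
      · exfalso
        have h1 : ρ * (ρ * σ) = 1 := by
          conv_lhs => lhs; rw [← e]
          rw [inv_mul_cancel₀ (mul_ne_zero hρ hσ0)]
        refine hne.1 (mul_left_cancel₀ (pow_ne_zero 2 hρ) ?_)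
        linear_combination (hpow ρ hρ) - h1
      · exfalso
        have h1 : σ * (ρ * σ) = 1 := by
          conv_lhs => lhs; rw [← e]
          rw [inv_mul_cancel₀ (mul_ne_zero hρ hσ0)]
        refine hne.1 (mul_left_cancel₀ (pow_ne_zero 2 hσ0) ?_)
        linear_combination h1 - (hpow σ hσ0)
      · exact e
    refine hc4 hK ?_
    have h1 : ρ * σ * r = 1 := by
      rw [← hρσ, mul_inv_cancel₀]
      intro e
      rw [e, _root_.inv_zero] at hρσ
      exact hr0 hρσ.symm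
    have hu' : u = r ^ 2 * ρ := by rw [hr, div_mul_cancel₀ _ hρ]
    rw [hσ, hu'] at h1
    field_simp at h1
    have h2 : c = (ρ * r) ^ (4 - 1) := by
      show c = (ρ * r) ^ 3
      linear_combination -h1
    rw [h2, hpow _ (mul_ne_zero hρ hr0)]
  · have hK : Fintype.card K = 5 := by omega
    rw [hK] at hpow
    have h2 : (u / ρ) ^ 2 = 1 := by rw [← hr, ← pow_mul]; exact hpow r hr0
    have h3 : (ρ ^ 2) ^ 2 = 1 := by rw [← pow_mul]; exact hpow ρ hρ
    rcases sq_eq_sq_iff_eq_or_eq_neg.1 (h3.trans h2.symm) with e | e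
    · rw [← hr] at e
      have hsub' : (Finset.univ : Finset K) ⊆ {0, σ, r, -r} := fun R hR => by
        have := hsub hR
        simp only [Finset.mem_insert, Finset.mem_singleton] at this ⊢
        rcases this with h | h | h | h | h
        · exact Or.inl h
        · exact Or.inr (Or.inr ((sq_eq_sq_iff_eq_or_eq_neg.1 (h ▸ e)).imp id id))
        · exact Or.inr (Or.inl h)
        · exact Or.inr (Or.inr (Or.inl h))
        · exact Or.inr (Or.inr (Or.inr h))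
      have := le_trans (Finset.card_le_card hsub') Finset.card_le_four
      rw [Finset.card_univ] at this
      omega
    · refine hu5 hK ?_
      have : u = (u / ρ) * ρ := by rw [div_mul_cancel₀ _ hρ]
      rw [this]
      linear_combination ρ * e

/-- the free diagonal -/
def diag3 (x y R : K) (m : ℕ) : Fin (m + 3) → K :=
  Fin.cons x (Fin.cons y (Fin.cons R fun _ => 1))

theorem diag3_prod (x y R : K) (m : ℕ) :
    (∏ j, diag3 x y R m j) = x * (y * R) ∧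
      (∏ j, diag3 x y R m j ^ (j.val + 1)) = x * (y ^ 2 * R ^ 3) := by
  simp [diag3, Fin.prod_univ_succ]

theorem diag3_ne {x y R ρ : K} (m : ℕ) (hx : x ≠ ρ) (hy : y ≠ ρ) (hR : R ≠ ρ) (h1 : 1 ≠ ρ) :
    ∀ j, diag3 x y R m j ≠ ρ :=
  Fin.cases hx (Fin.cases hy (Fin.cases hR fun _ => h1))

/-- a large block with a prescribed determinant and a prescribed simple root -/
theorem block_main (h4 : 4 ≤ Fintype.card K) {m : ℕ} {f : K[X]}
    {A : Matrix (Fin (m + 4)) (Fin (m + 4)) K} (hA : CS f A) (hd : A.det ≠ 0) :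
    ∃ g₀ : K, g₀ ≠ 0 ∧ ∀ ρ G : K, ρ ≠ 0 → ρ ≠ 1 → G ≠ 0 →
      (Fintype.card K = 4 → ρ ≠ A.det ^ 2) →
      (Fintype.card K = 5 → ρ ^ 2 * (G * g₀ * A.det ^ 2) ≠ -1) →
      ∃ (g : GL (Fin (m + 4)) K) (d : Fin (m + 3) → K), G * g.1.det = 1 ∧ (∀ j, d j ≠ ρ) ∧
        A.det ^ 2 / (∏ j, d j) = ρ ∧ CS (pol (A.det ^ 2) d) (A * LevCover.cj g A) := by
  obtain ⟨g₀, hg₀, hchunk⟩ := chunk_any h4 hA (by omega) hd
  refine ⟨g₀, hg₀, fun ρ G hρ hρ1 hG hq4 hq5 => ?_⟩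
  obtain ⟨c, hc⟩ : ∃ c, c = A.det ^ 2 / ρ := ⟨_, rfl⟩
  obtain ⟨u, hu⟩ : ∃ u, u = (G * g₀ * c)⁻¹ := ⟨_, rfl⟩
  have hc0 : c ≠ 0 := hc ▸ div_ne_zero (pow_ne_zero 2 hd) hρ
  have hu0 : u ≠ 0 := hu ▸ inv_ne_zero (mul_ne_zero (mul_ne_zero hG hg₀) hc0)
  obtain ⟨R, hR0, hy, hx, hR⟩ := pick h4 hρ hc0 hu0
    (fun hK e => hq4 hK (by rw [hc, div_eq_one_iff_eq hρ] at e; exact e.symm))
    (fun hK e => hq5 hK (by
      have h1 : u * (G * g₀ * c) = 1 := by
        rw [hu]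
        exact inv_mul_cancel₀ (mul_ne_zero (mul_ne_zero hG hg₀) hc0)
      have h2 : c * ρ = A.det ^ 2 := by rw [hc, div_mul_cancel₀ _ hρ]
      rw [← h2]
      rw [e] at h1
      linear_combination -h1))
  have hne : ∀ j, diag3 (c * R / u) (u / R ^ 2) R m j ≠ 0 :=
    diag3_ne m (div_ne_zero (mul_ne_zero hc0 hR0) hu0) (div_ne_zero hu0 (pow_ne_zero 2 hR0)) hR0
      one_ne_zero
  obtain ⟨g, hg, hgcs⟩ := hchunk _ hne (fun h => absurd h (by omega))
  refine ⟨g, _, ?_, diag3_ne m hx hy hR hρ1.symm, ?_, hgcs⟩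
  · rw [hg, (diag3_prod _ _ _ m).2]
    have h1 : c * R / u * ((u / R ^ 2) ^ 2 * R ^ 3) = c * u := by field_simp
    rw [h1, hu]
    field_simp
  · rw [(diag3_prod _ _ _ m).1]
    have h1 : c * R / u * (u / R ^ 2 * R) = c := by field_simp
    rw [h1, hc, div_div_cancel₀]
    exact pow_ne_zero 2 hd

/-- the admissible roots -/
theorem exists_root_value (h4 : 4 ≤ Fintype.card K) (c k : K) :
    ∃ ρ : K, ρ ≠ 0 ∧ ρ ≠ 1 ∧ (Fintype.card K = 4 → ρ ≠ c) ∧
      (Fintype.card K = 5 → ρ ^ 2 * k ≠ -1) := by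
  classical
  rcases Nat.lt_or_ge (Fintype.card K) 5 with hK | hK
  · obtain ⟨ρ, h0, h1, h2⟩ := exists_avoid_three h4 0 1 c
    exact ⟨ρ, h0, h1, fun _ => h2, fun h => absurd h (by omega)⟩
  by_contra hall
  push Not at hall
  have key : ∀ ρ : K, ρ ≠ 0 → ρ ≠ 1 → Fintype.card K = 5 ∧ ρ ^ 2 * k = -1 := fun ρ h0 h1 =>
    hall ρ h0 h1 (fun h => absurd h (by omega))
  obtain ⟨r, hr0, hr1, -⟩ := exists_avoid_three h4 (0 : K) 1 1
  have hk : k ≠ 0 := fun e => by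
    have h := (key r hr0 hr1).2
    rw [e, mul_zero, eq_comm, neg_eq_zero] at h
    exact one_ne_zero h
  have hsub : (Finset.univ : Finset K) ⊆ {0, 1, r, -r} := by
    intro R _
    simp only [Finset.mem_insert, Finset.mem_singleton]
    by_contra hne
    push Not at hne
    exact (sq_eq_sq_iff_eq_or_eq_neg.1 (mul_right_cancel₀ hk
      ((key R hne.1 hne.2.1).2.trans (key r hr0 hr1).2.symm))).elim hne.2.2.1 hne.2.2.2
  have := le_trans (Finset.card_le_card hsub) Finset.card_le_four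
  rw [Finset.card_univ] at this
  omega

/-- determinant one, cyclic, and a simple root -/
theorem dec_main (h4 : 4 ≤ Fintype.card K) {A : Matrix (Fin n) (Fin n) K} (hdec : Dec 4 A)
    (hA : EF A) (hn : 1 ≤ n) : ∃ (g : GL (Fin n) K) (ρ : K) (r : K[X]),
      g.1.det = 1 ∧ r.Splits ∧ r.eval ρ ≠ 0 ∧ CS ((X - C ρ) * r) (A * LevCover.cj g A) := by
  cases hdec with
  | nil A => omega
  | @cons h l n e A₁ A₂ A P f hdec₁ hl hcs hP =>
    obtain ⟨hA₁, hA₂⟩ := hA.blocks hP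
    obtain ⟨m, rfl⟩ : ∃ m, l = m + 4 := ⟨l - 4, by omega⟩
    obtain ⟨g₀, hg₀, hblock⟩ := block_main h4 hcs hA₂.det_ne
    obtain ⟨ρ, hρ0, hρ1, hρ4, hρ5⟩ := exists_root_value h4 (A₂.det ^ 2) (g₀ * A₂.det ^ 2)
    obtain ⟨g₁, f₁, hf₁, h₁, h₁ρ, h₁δ⟩ := dec_avoid h4 hdec₁ hA₁ ρ hρ0 hρ1
      (-(ρ ^ 2 * (g₀ * A₂.det ^ 2))⁻¹)
    obtain ⟨g₂, d, hg₂, hdρ, hM, h₂⟩ := hblock ρ g₁.1.det hρ0 hρ1 (gl_det_ne _) hρ4 (fun hK e => by
      rcases Nat.eq_zero_or_pos h with rfl | hh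
      · rw [det_fin_zero, one_mul] at e
        exact hρ5 hK e
      · refine h₁δ (by omega) hh ?_
        rw [← mul_left_inj' (mul_ne_zero (pow_ne_zero 2 hρ0)
          (mul_ne_zero hg₀ (pow_ne_zero 2 hA₂.det_ne))), neg_mul, inv_mul_cancel₀ (mul_ne_zero
          (pow_ne_zero 2 hρ0) (mul_ne_zero hg₀ (pow_ne_zero 2 hA₂.det_ne)))]
        linear_combination e)
    obtain ⟨g, hgd, hg⟩ := couple hP hA hf₁ (pol_splits _ _) h₁ h₂
    refine ⟨g, ρ, f₁ * ∏ j, (X - C (d j)), by rw [hgd, hg₂],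
      hf₁.mul (Splits.prod fun _ _ => Splits.X_sub_C _), ?_, ?_⟩
    · rw [eval_mul, eval_prod]
      refine mul_ne_zero h₁ρ (Finset.prod_ne_zero_iff.2 fun j _ => ?_)
      simp only [eval_sub, eval_X, eval_C]
      exact sub_ne_zero.2 (hdρ j).symm
    · rw [pol, hM, mul_left_comm] at hg
      exact hg

/-- two mutually inverse products in dimension four -/
theorem quad_pair (h4 : 4 ≤ Fintype.card K) {f : K[X]} {A : Matrix (Fin 4) (Fin 4) K}
    (hA : CS f A) (hA1 : A.det = 1) :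
    ∃ (g g' : GL (Fin 4) K) (ρ : K) (r : K[X]), g.1.det = 1 ∧ g'.1.det = 1 ∧ r.eval ρ ≠ 0 ∧
      CS ((X - C ρ) * r) (A * LevCover.cj g' A) ∧
      Sim (A * LevCover.cj g' A) (A * LevCover.cj g A)⁻¹ := by
  have hd : A.det ≠ 0 := by rw [hA1]; exact one_ne_zero
  obtain ⟨g₀, hg₀, hchunk⟩ := chunk_any h4 hA (by omega) hd
  rw [hA1] at hchunk
  simp only [one_pow] at hchunk
  obtain ⟨ρ, hρ0, -, hρ4, hρ5⟩ := exists_root_value h4 (1 : K) g₀
  obtain ⟨u, hu⟩ : ∃ u, u = (g₀ * ρ⁻¹)⁻¹ := ⟨_, rfl⟩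
  have hu0 : u ≠ 0 := hu ▸ inv_ne_zero (mul_ne_zero hg₀ (inv_ne_zero hρ0))
  obtain ⟨R, hR0, hy, hx, hR⟩ := pick h4 hρ0 (inv_ne_zero hρ0) hu0
    (fun hK e => hρ4 hK (inv_eq_one.1 e))
    (fun hK e => hρ5 hK (by
      have h1 : u * g₀ = ρ := by rw [hu]; field_simp
      rw [e] at h1
      refine mul_left_cancel₀ hρ0 ?_
      linear_combination -h1))
  obtain ⟨x, hxd⟩ : ∃ x, x = ρ⁻¹ * R / u := ⟨_, rfl⟩
  obtain ⟨y, hyd⟩ : ∃ y, y = u / R ^ 2 := ⟨_, rfl⟩
  rw [← hxd] at hx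
  rw [← hyd] at hy
  have hx0 : x ≠ 0 := hxd ▸ div_ne_zero (mul_ne_zero (inv_ne_zero hρ0) hR0) hu0
  have hy0 : y ≠ 0 := hyd ▸ div_ne_zero hu0 (pow_ne_zero 2 hR0)
  have hprod : ρ * (x * (y * R)) = 1 := by rw [hxd, hyd]; field_simp
  have hK : g₀ * (x * (y ^ 2 * R ^ 3)) = 1 := by rw [hxd, hyd, hu]; field_simp
  obtain ⟨g, hg, hgcs⟩ := hchunk ![x, y, R] (by intro j; fin_cases j <;> assumption)
    (fun h => absurd h (by omega))
  obtain ⟨g', hg', hgcs'⟩ := hchunk ![y⁻¹, x⁻¹, ρ⁻¹]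
    (by intro j; fin_cases j <;> simp [hx0, hy0, hρ0]) (fun h => absurd h (by omega))
  have hp : ∀ a b c : K, (∏ j : Fin 3, (![a, b, c] : Fin 3 → K) j ^ (j.val + 1)) =
      a * (b ^ 2 * c ^ 3) := fun a b c => by
    simp [Fin.prod_univ_three, mul_assoc]
  have hM : (1 : K) / (∏ j : Fin 3, (![x, y, R] : Fin 3 → K) j) = ρ := by
    rw [Fin.prod_univ_three, div_eq_iff (by simp [hx0, hy0, hR0])]
    simp
    linear_combination -hprod
  have hM' : (1 : K) / (∏ j : Fin 3, (![y⁻¹, x⁻¹, ρ⁻¹] : Fin 3 → K) j) = R⁻¹ := by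
    rw [Fin.prod_univ_three, div_eq_iff (by simp [hx0, hy0, hρ0])]
    simp
    field_simp
    linear_combination hprod
  refine ⟨g, g', ρ⁻¹, (X - C R⁻¹) * ((X - C y⁻¹) * (X - C x⁻¹)), ?_, ?_, ?_, ?_, ?_⟩
  · rw [hg, hp, hK]
  · rw [hg', hp]
    field_simp
    have h3 : ρ ^ 3 * (x ^ 3 * (y ^ 3 * R ^ 3)) = 1 := by
      have := congrArg (fun z => z ^ 3) hprod
      simpa [mul_pow] using this
    refine mul_left_cancel₀ (mul_ne_zero (mul_ne_zero hx0 (pow_ne_zero 2 hy0)) (pow_ne_zero 3 hR0)) ?_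
    linear_combination hK - h3
  · simp only [eval_mul, eval_sub, eval_X, eval_C]
    exact mul_ne_zero (sub_ne_zero.2 (inv_injective.ne hR.symm))
      (mul_ne_zero (sub_ne_zero.2 (inv_injective.ne hy.symm))
        (sub_ne_zero.2 (inv_injective.ne hx.symm)))
  · have e : pol (1 : K) ![y⁻¹, x⁻¹, ρ⁻¹] =
        (X - C ρ⁻¹) * ((X - C R⁻¹) * ((X - C y⁻¹) * (X - C x⁻¹))) := by
      rw [pol, hM', Fin.prod_univ_three]
      simp
      ring
    rw [← e]
    exact hgcs'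
  · obtain ⟨D, hD⟩ : ∃ D, D = A * LevCover.cj g A := ⟨_, rfl⟩
    rw [← hD] at hgcs ⊢
    have hDd : D.det = 1 := by rw [hD, det_mul, det_cj, hA1, one_mul]
    have hDu : IsUnit D := (Matrix.isUnit_iff_isUnit_det D).2 (hDd ▸ isUnit_one)
    have hcp : D⁻¹.charpoly = pol (1 : K) ![y⁻¹, x⁻¹, ρ⁻¹] := by
      rw [charpoly_inv D hDu, ← reverse_charpoly, hgcs.charpoly, hDd, pol, pol, hM, hM',
        Fin.prod_univ_three, Fin.prod_univ_three, Fintype.card_fin, Ring.inverse_one]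
      simp only [Matrix.cons_val_zero, Matrix.cons_val_one, Matrix.cons_val]
      rw [reverse_mul_of_domain, reverse_mul_of_domain, reverse_mul_of_domain]
      have hrev : ∀ a : K, a ≠ 0 → (X - C a).reverse = C (-a) * (X - C a⁻¹) := by
        intro a ha
        rw [reverse, natDegree_X_sub_C, reflect_sub, reflect_C, ← pow_one (X : K[X]),
          reflect_monomial, revAt_le le_rfl, mul_sub, ← C_mul]
        simp [ha]
        ring
      rw [hrev ρ hρ0, hrev x hx0, hrev y hy0, hrev R hR0]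
      have hconst : C (-ρ) * (C (-x) * C (-y) * C (-R)) = (1 : K[X]) := by
        rw [← C_mul, ← C_mul, ← C_mul, ← C_1]
        congr 1
        linear_combination hprod
      have hsgn : ((-1) ^ 4 : K[X]) = 1 := by norm_num
      rw [hsgn, C_1, one_mul, one_mul]
      linear_combination ((X - C ρ⁻¹) * ((X - C x⁻¹) * (X - C y⁻¹) * (X - C R⁻¹))) * hconst
    refine hgcs'.sim ?_
    have hgeo : Geo D⁻¹ := by
      intro a z z' hz hz' hz0
      have hback : ∀ v : Fin 4 → K, D⁻¹ *ᵥ v = a • v → a • (D *ᵥ v) = v := fun v hv => by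
        rw [← mulVec_smul, ← hv, mulVec_mulVec,
          Matrix.mul_nonsing_inv D (hDd ▸ isUnit_one), one_mulVec]
      have ha : a ≠ 0 := fun e => hz0 (by rw [← hback z hz, e, zero_smul])
      have hDz : ∀ v : Fin 4 → K, D⁻¹ *ᵥ v = a • v → D *ᵥ v = a⁻¹ • v := fun v hv => by
        conv_rhs => rw [← hback v hv, smul_smul, inv_mul_cancel₀ ha, one_smul]
      exact hgcs.geo a⁻¹ z z' (hDz z hz) (hDz z' hz') hz0
    exact hcp ▸ cyc_of_geo (hcp ▸ pol_splits _ _) hgeo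

end Cfsg.Agent.LevCover
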