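/-
Covering number of PSL(n,q): matrices without eigenvalues.
-/
import Cfsg.Agent.Lib.LevCover.Double
import Cfsg.Agent.Lib.Classical.SemisimpleClasses

set_option autoImplicit false
set_option maxHeartbeats 800000

namespace Cfsg.Agent.LevCover

open Polynomial Matrix Module
open Cfsg.Agent.SLComm (Cyc bord img eigen)

universe u

variable {K : Type u} [Field K] {n : ℕ}

/-- the sum of two parts under a block diagonal matrix -/
theorem aeval_blk {h l : ℕ} (e : Fin h ⊕ Fin l ≃ Fin n) (A : Matrix (Fin h) (Fin h) K)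
    (D : Matrix (Fin l) (Fin l) K) (q : K[X]) (x : Fin h → K) (y : Fin l → K) :
    aeval (blk e A 0 0 D) q *ᵥ vpair e x y = vpair e (aeval A q *ᵥ x) (aeval D q *ᵥ y) := by
  have hadd : ∀ (x x' : Fin h → K) (y y' : Fin l → K),
      vpair e (x + x') (y + y') = vpair e x y + vpair e x' y' := fun x x' y y' => by
    funext k
    obtain ⟨s, rfl⟩ := e.surjective k
    rcases s with i | j <;> simp [vpair]
  induction q using Polynomial.induction_on' with
  | add p q hp hq => rw [map_add, map_add, map_add, add_mulVec, add_mulVec, add_mulVec, hadd, hp, hq]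
  | monomial k a =>
    rw [aeval_monomial, aeval_monomial, aeval_monomial, ← Algebra.smul_def, ← Algebra.smul_def,
      ← Algebra.smul_def, smul_mulVec, smul_mulVec, smul_mulVec, ← smul_vpair]
    congr 1
    induction k with
    | zero => simp
    | succ k ih =>
      rw [pow_succ', pow_succ', pow_succ', ← mulVec_mulVec, ih, blk_mulVec, zero_mulVec,
        zero_mulVec, add_zero, zero_add, ← mulVec_mulVec, ← mulVec_mulVec]

/-- a single block -/
theorem cs_full_block {l : ℕ} {e : Fin 0 ⊕ Fin l ≃ Fin n} {A : Matrix (Fin n) (Fin n) K}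
    {P : GL (Fin n) K} {A₁ : Matrix (Fin 0) (Fin 0) K} {A₂ : Matrix (Fin l) (Fin l) K} {f : K[X]}
    (hcs : CS f A₂) (hP : LevCover.cj P A = blk e A₁ 0 0 A₂) : CS f A := by
  obtain ⟨v, hv⟩ := hcs
  have hl : l = n := by simpa using Fintype.card_congr e
  subst hl
  have hcs' : CS f (blk e A₁ 0 0 A₂) := by
    refine ⟨vpair e 0 v, hv.monic, hv.deg, ext_of_mulVec_single fun i => ?_, fun p hp h0 => ?_⟩
    · obtain ⟨x, y, hxy⟩ := exists_vpair e (Pi.single i (1 : K))
      rw [hxy, aeval_blk, hv.ann, zero_mulVec, zero_mulVec,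
        show aeval A₁ f *ᵥ x = 0 from Subsingleton.elim _ _, vpair_zero]
    · rw [aeval_blk, ← vpair_zero e] at h0
      exact hv.indep p hp (vpair_inj e h0).2
  rw [← cj_inv_cj P A, hP]
  exact hcs'.cj _

/-- a simple root gives all determinants -/
theorem full_of_simple {D : Matrix (Fin n) (Fin n) K} {ρ : K} {r : K[X]}
    (hD : CS ((X - C ρ) * r) D) (hr : r.eval ρ ≠ 0) : Full D := by
  have hev : D.charpoly.eval ρ = 0 := by rw [hD.charpoly]; simp
  obtain ⟨x, hx, hDx⟩ := exists_eigen hev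
  obtain ⟨m, rfl⟩ : ∃ m, n = m + 1 := by
    refine ⟨n - 1, ?_⟩
    rcases Nat.eq_zero_or_pos n with rfl | h
    · exact absurd (Subsingleton.elim x 0) hx
    · omega
  intro a ha
  rcases Nat.eq_zero_or_pos m with rfl | hm
  · refine ⟨headGL a ha, ?_, det_headGL a ha⟩
    have : D = bord (D 0 0) 0 0 (0 : Matrix (Fin 0) (Fin 0) K) := by
      ext i j; fin_cases i; fin_cases j; simp [bord]
    rw [this, cj_headGL, smul_zero]
  obtain ⟨Q, r₀, Φ, -, -, hQ⟩ := exists_quot hm hx hDx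
  have hΦ : Φ.charpoly.eval ρ ≠ 0 := by
    have h := quot_charpoly hQ
    rw [hD.charpoly] at h
    rwa [← mul_left_cancel₀ (X_sub_C_ne_zero ρ) h]
  obtain ⟨U, hU⟩ := decouple r₀ hΦ
  have hD' : D = LevCover.cj (U * Q⁻¹)⁻¹ (bord ρ 0 0 Φ) := by
    rw [← hU, ← hQ, cj_cj U Q⁻¹, cj_inv_cj]
  refine ⟨(U * Q⁻¹)⁻¹ * headGL a ha * (U * Q⁻¹), ?_, ?_⟩
  · conv_lhs => rw [hD', ← cj_cj, cj_cj_inv, ← cj_cj, cj_headGL, smul_zero]
    exact hD'.symm
  · rw [det_mul_gl, det_mul_gl, det_gl_inv, det_headGL]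
    field_simp [gl_det_ne]

variable [Fintype K]

/-- four factors -/
theorem four_factor (h4 : 4 ≤ Fintype.card K) {A : Matrix (Fin n) (Fin n) K} (hA : EF A)
    (hn : 1 ≤ n) {B : Matrix (Fin n) (Fin n) K} (hB : ¬ IsSc B) (hBd : B.det = A.det ^ 4) :
    SP A 4 B noV := by
  have main : ∀ (g : GL (Fin n) K) (f : K[X]), f.Splits → CS f (A * LevCover.cj g A) →
      ∃ P P' : GL (Fin n) K, B = LevCover.cj P (A * LevCover.cj g A) *
        LevCover.cj P' (A * LevCover.cj g A) := by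
    intro g f hf hD
    have hd : (A * LevCover.cj g A).det = A.det ^ 2 := by rw [det_mul, det_cj, sq]
    have h0 : (A * LevCover.cj g A).det = (-1) ^ n * f.eval 0 := det_eq_eval hD
    have hf0 : f.eval 0 ≠ 0 := fun h => by
      rw [h, mul_zero, hd] at h0
      exact pow_ne_zero 2 hA.det_ne h0
    have hS : B.det = f.eval 0 ^ 2 := by
      rw [hBd, show (4 : ℕ) = 2 * 2 from rfl, pow_mul, ← hd, h0, mul_pow, ← pow_mul, mul_comm n 2,
        pow_mul, neg_one_sq, one_pow, one_mul]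
    obtain ⟨L, U, hLU, hL, hU⟩ := two_factor_aux h4 n f hD.monic
      (by rw [← hD.charpoly, charpoly_natDegree_eq_dim, Fintype.card_fin]) hf hf0 B hS (fun _ => hB)
    obtain ⟨P, hP⟩ := hD.sim hL
    obtain ⟨P', hP'⟩ := hD.sim hU
    exact ⟨P, P', by rw [hLU, hP, hP']⟩
  obtain ⟨hdec, hfull | hdec4⟩ := dec_dichotomy hA
  · obtain ⟨g, f, hf, hD⟩ := dec_double h4 hdec hA
    obtain ⟨P, P', hB'⟩ := main g f hf hD
    refine CP.toSP_of_full hfull ⟨![P, P * g, P', P' * g], ?_, fun _ h => h.elim⟩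
    simp [prodC, List.ofFn_succ, hB', cj_mul, ← cj_cj, mul_assoc]
  · obtain ⟨g, ρ, r, hg, hr, hr0, hD⟩ := dec_main h4 hdec4 hA hn
    obtain ⟨P, P', hB'⟩ := main g _ ((Splits.X_sub_C ρ).mul hr) hD
    have hfull := full_of_simple hD hr0
    obtain ⟨S, hS, hSd⟩ := hfull _ (inv_ne_zero (gl_det_ne P))
    obtain ⟨S', hS', hSd'⟩ := hfull _ (inv_ne_zero (gl_det_ne P'))
    refine ⟨![P * S, P * S * g, P' * S', P' * S' * g], ?_, ?_, fun _ h => h.elim⟩
    · intro i
      fin_cases i <;>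
        simp [hSd, hSd', hg, mul_inv_cancel₀ (gl_det_ne P), mul_inv_cancel₀ (gl_det_ne P')]
    · rw [hB']
      conv_rhs => rw [← hS, cj_cj]; arg 2; rw [hS, ← hS', cj_cj]
      simp [prodC, List.ofFn_succ, cj_mul, ← cj_cj, mul_assoc]

/-- at least four factors, non-scalar targets -/
theorem four_up (h4 : 4 ≤ Fintype.card K) {A : Matrix (Fin n) (Fin n) K} (hA : EF A) (hn : 3 ≤ n) :
    ∀ k, 4 ≤ k → ∀ B : Matrix (Fin n) (Fin n) K, B.det = A.det ^ k → ¬ IsSc B → SP A k B noV := by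
  intro k hk
  induction k, hk using Nat.le_induction with
  | base => exact fun B hB hBs => four_factor h4 hA (by omega) hBs hB
  | succ k hk ih => exact fun B hB _ => SP.succ h4 hn (hA.not_isSc (by omega)) hA.det_ne hB ih

/-! ### dimension four, the identity -/

theorem ef_one {A : Matrix (Fin 1) (Fin 1) K} : ¬ EF A := fun h =>
  h.no_eigen (x := fun _ => 1) (fun h0 => one_ne_zero (congrFun h0 0)) (A 0 0)
    (by funext i; fin_cases i; simp [mulVec, dotProduct])

theorem cayley_two (A : Matrix (Fin 2) (Fin 2) K) :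
    A * (A.trace • (1 : Matrix (Fin 2) (Fin 2) K) - A) = A.det • 1 := by
  ext i j
  fin_cases i <;> fin_cases j <;>
    simp [Matrix.mul_apply, Fin.sum_univ_two, det_fin_two, trace_fin_two] <;> ring

/-- an inverse conjugate, up to a scalar -/
theorem partner (h4 : 4 ≤ Fintype.card K) {A : Matrix (Fin 2) (Fin 2) K} (hA : EF A) :
    ∃ G : GL (Fin 2) K, A * LevCover.cj G A = A.det • 1 := by
  obtain ⟨G, hG⟩ := sim_two h4 (A := A) (B := A.trace • (1 : Matrix (Fin 2) (Fin 2) K) - A)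
    (hA.not_isSc (by omega)) (fun ⟨a, ha⟩ => hA.not_isSc (by omega) ⟨A.trace - a, by
      rw [sub_smul, ← ha, sub_sub_cancel]⟩)
    (by simp [trace_fin_two]; ring) (by simp [det_fin_two, trace_fin_two]; ring)
  exact ⟨G, by rw [← hG, cayley_two]⟩

/-- the exchange of two blocks -/
def swapGL {h : ℕ} (e : Fin h ⊕ Fin h ≃ Fin n) : GL (Fin n) K :=
  ⟨blk e 0 1 1 0, blk e 0 1 1 0, by rw [blk_mul]; simp [blk, Matrix.fromBlocks_one],
    by rw [blk_mul]; simp [blk, Matrix.fromBlocks_one]⟩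

theorem cj_swapGL {h : ℕ} (e : Fin h ⊕ Fin h ≃ Fin n) (A D : Matrix (Fin h) (Fin h) K) :
    LevCover.cj (swapGL e) (blk e A 0 0 D) = blk e D 0 0 A := by
  show blk e 0 1 1 0 * blk e A 0 0 D * blk e 0 1 1 0 = _
  rw [blk_mul, blk_mul]
  simp

theorem quad_cyclic (h4 : 4 ≤ Fintype.card K) {f : K[X]} {A : Matrix (Fin 4) (Fin 4) K}
    (hA : CS f A) (hA1 : A.det = 1) : SP A 4 1 noV := by
  obtain ⟨g, g', ρ, r, hg, hg', hr, hD, S, hS⟩ := quad_pair h4 hA hA1
  obtain ⟨Q, hQ, hQd⟩ := full_of_simple hD hr _ (inv_ne_zero (gl_det_ne S))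
  refine ⟨![1, g, S * Q, S * Q * g'], ?_, ?_, fun _ h => h.elim⟩
  · intro i
    fin_cases i <;> simp [hg, hg', hQd, mul_inv_cancel₀ (gl_det_ne S)]
  · have hdet : IsUnit (A * LevCover.cj g A).det := by
      rw [det_mul, det_cj, hA1, one_mul]
      exact isUnit_one
    calc prodC A ![1, g, S * Q, S * Q * g']
        = (A * LevCover.cj g A) * LevCover.cj (S * Q) (A * LevCover.cj g' A) := by
          simp [prodC, List.ofFn_succ, cj_one, cj_mul, ← cj_cj, mul_assoc]
      _ = (A * LevCover.cj g A) * (A * LevCover.cj g A)⁻¹ := by rw [← cj_cj, hQ, ← hS]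
      _ = 1 := Matrix.mul_nonsing_inv _ hdet

theorem quad_one (h4 : 4 ≤ Fintype.card K) {A : Matrix (Fin 4) (Fin 4) K} (hA : EF A)
    (hA1 : A.det = 1) : SP A 4 1 noV := by
  obtain ⟨hdec, hfull | hdec4⟩ := dec_dichotomy hA
  swap
  · cases hdec4 with
    | @cons h l _ e A₁ A₂ _ P f _ hl hcs hP =>
      obtain rfl : h = 0 := by
        have := Fintype.card_congr e
        simp at this
        omega
      exact quad_cyclic h4 (cs_full_block hcs hP) hA1
  cases hdec with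
  | @cons h l _ e A₁ A₂ _ P f _ hl hcs hP =>
    have hcard : h + l = 4 := by simpa using Fintype.card_congr e
    obtain ⟨hA₁, hA₂⟩ := hA.blocks hP
    rcases Nat.lt_or_ge h 1 with h0 | h0
    · obtain rfl : h = 0 := by omega
      exact quad_cyclic h4 (cs_full_block hcs hP) hA1
    rcases Nat.lt_or_ge h 2 with h1 | h1
    · obtain rfl : h = 1 := by omega
      exact absurd hA₁ ef_one
    obtain rfl : h = 2 := by omega
    obtain rfl : l = 2 := by omega
    obtain ⟨G₁, hG₁⟩ := partner h4 hA₁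
    obtain ⟨G₂, hG₂⟩ := partner h4 hA₂
    have hd : A₁.det * A₂.det = 1 := by rw [← det_blk_lower e A₁ 0 A₂, ← hP, det_cj, hA1]
    have hX : blk e A₁ 0 0 A₂ * LevCover.cj (blkGL e G₁ G₂) (blk e A₁ 0 0 A₂) =
        blk e (A₁.det • 1) 0 0 (A₂.det • 1) := by
      rw [cj_blkGL, blk_mul, hG₁, hG₂]
      simp
    refine CP.toSP_of_full hfull ⟨![P, blkGL e G₁ G₂ * P, swapGL e * P,
      swapGL e * blkGL e G₁ G₂ * P], ?_, fun _ h => h.elim⟩
    calc prodC A ![P, blkGL e G₁ G₂ * P, swapGL e * P, swapGL e * blkGL e G₁ G₂ * P]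
        = (LevCover.cj P A * LevCover.cj (blkGL e G₁ G₂) (LevCover.cj P A)) *
            LevCover.cj (swapGL e)
              (LevCover.cj P A * LevCover.cj (blkGL e G₁ G₂) (LevCover.cj P A)) := by
          simp [prodC, List.ofFn_succ, cj_mul, ← cj_cj, mul_assoc]
      _ = 1 := by
          rw [hP, hX, cj_swapGL, blk_mul]
          simp only [Matrix.mul_zero, Matrix.zero_mul, add_zero, zero_add, smul_mul_assoc,
            mul_smul_comm, one_mul, smul_smul, hd, mul_comm A₂.det, one_smul]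
          simp [blk, Matrix.fromBlocks_one]

/-! ### dimension three -/

theorem ef_three_cyc {A : Matrix (Fin 3) (Fin 3) K} (hA : EF A) {v : Fin 3 → K} (hv : v ≠ 0) :
    Cyc A.charpoly A v := by
  have hdeg : A.charpoly.natDegree = 3 := by rw [charpoly_natDegree_eq_dim, Fintype.card_fin]
  have hirr : Irreducible A.charpoly := by
    rw [A.charpoly_monic.irreducible_iff_roots_eq_zero_of_degree_le_three (by omega) (by omega)]
    refine Multiset.eq_zero_of_forall_notMem fun a ha => hA a ?_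
    exact ((mem_roots A.charpoly_monic.ne_zero).1 ha)
  refine ⟨A.charpoly_monic, hdeg, aeval_self_charpoly A, fun p hp h0 => ?_⟩
  by_contra hp0
  obtain ⟨a, b, hab⟩ := (hirr.coprime_iff_not_dvd (p := A.charpoly) (n := p)).2 fun hdvd => by
    have := natDegree_le_of_dvd hdvd hp0
    have := (natDegree_lt_iff_degree_lt hp0).2 hp
    omega
  have h1 := congrArg (fun q => aeval A q *ᵥ v) hab
  simp only [map_add, map_mul, map_one, add_mulVec, one_mulVec, aeval_self_charpoly, mul_zero,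
    zero_mulVec, zero_add, ← mulVec_mulVec, h0, mulVec_zero] at h1
  exact hv h1.symm

theorem cyc_indep {f : K[X]} {A : Matrix (Fin 3) (Fin 3) K} {v : Fin 3 → K} (h : Cyc f A v) :
    LinearIndependent K ![v, A *ᵥ v, A *ᵥ (A *ᵥ v)] := by
  rw [Fintype.linearIndependent_iff]
  intro c hc
  have hp : (C (c 0) + C (c 1) * X + C (c 2) * X ^ 2).degree < ((3 : ℕ) : WithBot ℕ) := by
    have h2 : (C (c 0) + C (c 1) * X + C (c 2) * X ^ 2).degree ≤ ((2 : ℕ) : WithBot ℕ) := by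
      compute_degree
      simp
    exact lt_of_le_of_lt h2 (by exact_mod_cast (by omega : (2 : ℕ) < 3))
  have h0 := h.indep _ hp (by
    simp only [map_add, map_mul, map_pow, aeval_X, aeval_C, Algebra.algebraMap_eq_smul_one,
      smul_mul_assoc, one_mul, add_mulVec, smul_mulVec, one_mulVec, pow_two, ← mulVec_mulVec]
    rw [Fin.sum_univ_three] at hc
    simpa using hc)
  intro i
  have := congrArg (fun p => p.coeff i.val) h0
  fin_cases i <;> simpa [coeff_X, coeff_C] using this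

theorem ef_three_deg3 {A : Matrix (Fin 3) (Fin 3) K} (hA : EF A) : Deg3 A := by
  obtain ⟨v, hv⟩ : ∃ v : Fin 3 → K, v ≠ 0 := ⟨Pi.single 0 1, by simp⟩
  refine ⟨v, hv, fun a => hA.no_eigen hv a, fun hm => ?_⟩
  obtain ⟨a, b, hab⟩ := Submodule.mem_span_pair.1 hm
  have h := Fintype.linearIndependent_iff.1 (cyc_indep (ef_three_cyc hA hv)) ![a, b, -1] (by
    rw [Fin.sum_univ_three]
    simp
    rw [hab]
    simp) 2
  simp at h

/-- scalar plus rank one as a product of two conjugates -/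
theorem low_two {A T : Matrix (Fin 3) (Fin 3) K} (hA : EF A) {c : K} (hc : c ≠ 0)
    (hT : Low c T) (hTd : T.det = A.det ^ 2) (he : c ^ 3 ≠ A.det ^ 2) : CP A 2 T noV := by
  obtain ⟨b, ψ, rfl⟩ := hT
  have hAd := hA.det_ne
  obtain ⟨M, hM⟩ : ∃ M, M = c • A⁻¹ := ⟨_, rfl⟩
  have hMA : A * M = c • 1 := by
    rw [hM, Matrix.mul_smul, Matrix.mul_nonsing_inv _ (isUnit_iff_ne_zero.2 hAd)]
  have hMEF : EF M := by
    intro a h0
    obtain ⟨x, hx, hMx⟩ := exists_eigen h0
    have h1 := congrArg (fun y => A *ᵥ y) hMx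
    simp only [mulVec_mulVec, hMA, smul_mulVec, one_mulVec, mulVec_smul] at h1
    rcases eq_or_ne a 0 with rfl | ha
    · rw [zero_smul, smul_eq_zero] at h1
      exact h1.elim hc hx
    · exact hA.no_eigen hx (a⁻¹ * c) (by rw [← smul_smul, h1, smul_smul, inv_mul_cancel₀ ha, one_smul])
  obtain ⟨v, hv⟩ : ∃ v : Fin 3 → K, v ≠ 0 := ⟨Pi.single 0 1, by simp⟩
  obtain ⟨GA, _, hGA⟩ := exists_gl_extend 0 3 rfl _ (cyc_indep (ef_three_cyc hA hv))
  obtain ⟨GM, _, hGM⟩ := exists_gl_extend 0 3 rfl _ (cyc_indep (ef_three_cyc hMEF hv))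
  obtain ⟨h, hh⟩ : ∃ h : GL (Fin 3) K, h = GM * GA⁻¹ := ⟨_, rfl⟩
  have hmap : ∀ i : Fin 3, h.1 *ᵥ ![v, A *ᵥ v, A *ᵥ (A *ᵥ v)] i =
      ![v, M *ᵥ v, M *ᵥ (M *ᵥ v)] i := fun i => by
    rw [← hGA i, ← hGM i, hh, Units.val_mul, ← mulVec_mulVec, SLComm.gl_inv_mulVec]
  have e0 : LevCover.cj h A *ᵥ v = M *ᵥ v := by
    conv_lhs => rw [← show h.1 *ᵥ v = v from hmap 0, cj_mulVec]
    exact hmap 1
  have e1 : LevCover.cj h A *ᵥ (M *ᵥ v) = M *ᵥ (M *ᵥ v) := by
    conv_lhs => rw [← show h.1 *ᵥ (A *ᵥ v) = M *ᵥ v from hmap 1, cj_mulVec]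
    exact hmap 2
  obtain ⟨z, hz⟩ : ∃ z, z = (LevCover.cj h A - M) *ᵥ (M *ᵥ (M *ᵥ v)) := ⟨_, rfl⟩
  obtain ⟨φ, hφ⟩ : ∃ φ : Fin 3 → K, φ = fun j => GM⁻¹.1 2 j := ⟨_, rfl⟩
  have hrank : LevCover.cj h A = M + vecMulVec z φ := by
    suffices hs : (LevCover.cj h A - M) * GM.1 = vecMulVec z φ * GM.1 by
      have := congrArg (fun N => N * GM⁻¹.1) hs
      simp only [mul_assoc, Units.mul_inv, mul_one] at this
      rw [← this, add_sub_cancel]
    refine ext_of_mulVec_single fun i => ?_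
    rw [← mulVec_mulVec, ← mulVec_mulVec, vecMulVec_mulVec, op_smul_eq_smul]
    have hφi : φ ⬝ᵥ (GM.1 *ᵥ Pi.single i 1) = (1 : Matrix (Fin 3) (Fin 3) K) 2 i := by
      have h1 : (GM⁻¹.1 *ᵥ (GM.1 *ᵥ Pi.single i 1)) 2 = φ ⬝ᵥ (GM.1 *ᵥ Pi.single i 1) := by
        rw [hφ]; rfl
      rw [← h1, SLComm.gl_inv_mulVec, Pi.single_apply, Matrix.one_apply]
    have hv' := hGM i
    simp only [Fin.castLE_refl] at hv'
    rw [hφi, hv']
    fin_cases i
    · show (LevCover.cj h A - M) *ᵥ v = (1 : Matrix (Fin 3) (Fin 3) K) 2 0 • z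
      rw [sub_mulVec, e0, sub_self, Matrix.one_apply_ne (by decide), zero_smul]
    · show (LevCover.cj h A - M) *ᵥ (M *ᵥ v) = (1 : Matrix (Fin 3) (Fin 3) K) 2 1 • z
      rw [sub_mulVec, e1, sub_self, Matrix.one_apply_ne (by decide), zero_smul]
    · show (LevCover.cj h A - M) *ᵥ (M *ᵥ (M *ᵥ v)) = (1 : Matrix (Fin 3) (Fin 3) K) 2 2 • z
      rw [Matrix.one_apply_eq, one_smul, hz]
  have hprod : A * LevCover.cj h A = ro c (A *ᵥ z) φ := by
    rw [hrank, Matrix.mul_add, hMA, ro, mul_vecMulVec]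
  have hdot : φ ⬝ᵥ (A *ᵥ z) = ψ ⬝ᵥ b := by
    have h1 : (ro c (A *ᵥ z) φ).det = (ro c b ψ).det := by rw [← hprod, det_mul, det_cj, hTd, sq]
    rw [det_ro c hc, det_ro c hc] at h1
    exact mul_left_cancel₀ (inv_ne_zero hc) (add_left_cancel (mul_left_cancel₀ (pow_ne_zero 3 hc) h1))
  have hne : ψ ⬝ᵥ b ≠ 0 := fun h0 => he (by rw [← hTd, det_ro c hc, h0, mul_zero, add_zero, mul_one])
  obtain ⟨g, -, hg⟩ := conj_ro le_rfl c (a := A *ᵥ z) (φ := φ) (b := b) (φ' := ψ)
    (fun h0 => hne (by rw [← hdot, h0, dotProduct_zero]))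
    (fun h0 => hne (by rw [← hdot, h0, zero_dotProduct]))
    (fun h0 => hne (by rw [h0, dotProduct_zero]))
    (fun h0 => hne (by rw [h0, zero_dotProduct])) hdot
  exact ⟨![g, g * h], by rw [prodC_two, ← cj_cj, ← cj_mul, hprod, hg], fun _ h => h.elim⟩

/-- split targets as products of two conjugates -/
theorem split_two (h4 : 4 ≤ Fintype.card K) {A T : Matrix (Fin 3) (Fin 3) K} (hA : EF A)
    {a b c : K} (hb : b ≠ 0) (hc : c ≠ 0) (hprod : a * (b * c) = A.det ^ 2)
    (hT : CS ((X - C a) * ((X - C b) * (X - C c))) T) : CP A 2 T noV := by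
  obtain ⟨v, hv⟩ : ∃ v : Fin 3 → K, v ≠ 0 := ⟨Pi.single 0 1, by simp⟩
  obtain ⟨g₀, -, hd⟩ := chunk_any h4 (A := A) ⟨v, ef_three_cyc hA hv⟩ (by omega) hA.det_ne
  obtain ⟨g, -, hg⟩ := hd ![b, c] (by intro j; fin_cases j <;> assumption) (fun h => absurd h (by omega))
  have e : pol (A.det ^ 2) ![b, c] = (X - C a) * ((X - C b) * (X - C c)) := by
    simp only [pol, Fin.prod_univ_two, Matrix.cons_val_zero, Matrix.cons_val_one]
    rw [← hprod, mul_div_assoc, div_self (mul_ne_zero hb hc), mul_one]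
  rw [e] at hg
  obtain ⟨P, hP⟩ := hg.sim hT
  exact ⟨![P, P * g], by rw [prodC_two, ← cj_cj, ← cj_mul, hP], fun _ h => h.elim⟩

/-- dimension three, non-scalar targets -/
theorem three_main (h4 : 4 ≤ Fintype.card K) {A B : Matrix (Fin 3) (Fin 3) K} (hA : EF A)
    (hB : ¬ IsSc B) (hBd : B.det = A.det ^ 3) : SP A 3 B noV := by
  have hAd := hA.det_ne
  have hfull : Full A := by
    obtain ⟨-, h | h⟩ := dec_dichotomy hA
    · exact h
    · cases h with
      | @cons h l _ e A₁ A₂ _ P f _ hl _ _ =>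
        have := Fintype.card_congr e
        simp at this
        omega
  obtain ⟨ρ, c₁, c₂, hρ, hc₁, hc₂, hρ1, hρ2, hprod, heq⟩ : ∃ ρ c₁ c₂ : K, ρ ≠ 0 ∧ c₁ ≠ 0 ∧
      c₂ ≠ 0 ∧ ρ ≠ c₁ ∧ ρ ≠ c₂ ∧ ρ * (c₁ * c₂) = A.det ^ 2 ∧ (c₁ = c₂ → c₁ ^ 3 ≠ A.det ^ 2) := by
    by_cases hc : ∃ c : K, c ≠ 0 ∧ c ^ 3 ≠ A.det ^ 2
    · obtain ⟨c, hc0, hc3⟩ := hc
      have hne : A.det ^ 2 / (c * c) ≠ c := fun e => hc3 (by
        rw [div_eq_iff (mul_ne_zero hc0 hc0)] at e
        rw [e]; ring)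
      exact ⟨A.det ^ 2 / (c * c), c, c, div_ne_zero (pow_ne_zero 2 hAd) (mul_ne_zero hc0 hc0), hc0,
        hc0, hne, hne, div_mul_cancel₀ _ (mul_ne_zero hc0 hc0), fun _ => hc3⟩
    · push Not at hc
      obtain ⟨x, hx0, hx1, -⟩ := exists_avoid_three h4 (0 : K) 1 1
      have he : A.det ^ 2 = 1 := by rw [← hc 1 one_ne_zero, one_pow]
      have hx3 : x ^ 3 = 1 := by rw [hc x hx0, he]
      refine ⟨1, x, x⁻¹, one_ne_zero, hx0, inv_ne_zero hx0, hx1.symm,
        fun e => hx1 (inv_eq_one.1 e.symm), by rw [one_mul, mul_inv_cancel₀ hx0, he], fun e => ?_⟩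
      exfalso
      have h2 : x ^ 2 = 1 := by rw [sq]; nth_rw 2 [e]; exact mul_inv_cancel₀ hx0
      exact hx1 (by linear_combination hx3 - x * h2)
  obtain ⟨v, hv, hBv⟩ := exists_noneig' h4 (by omega) hB
  obtain ⟨w, hw'⟩ : ∃ w, w = ρ⁻¹ • (B *ᵥ v) := ⟨_, rfl⟩
  have hBw : B *ᵥ v = ρ • w := by rw [hw', smul_smul, mul_inv_cancel₀ hρ, one_smul]
  have hw : ∀ a : K, w ≠ a • v := fun a ha => hBv (ρ * a) (by rw [hBw, ha, smul_smul])
  obtain ⟨gX, hgX, hXv, hoff⟩ := exists_cj_off le_rfl hAd (ef_three_deg3 hA) hv hw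
  have hBd0 : B.det ≠ 0 := hBd ▸ pow_ne_zero 3 hAd
  obtain ⟨Φ, ⟨s⟩, htr⟩ := exists_step_trace le_rfl hAd hBd0 hρ hgX hv hw hBw hXv (Or.inl hoff) (c₁ + c₂)
  obtain ⟨T, hT⟩ : ∃ T, T = (LevCover.cj s.gX A)⁻¹ * B := ⟨_, rfl⟩
  have hTd : T.det = A.det ^ 2 := by
    rw [hT, det_mul, det_nonsing_inv, Ring.inverse_eq_inv', det_cj, hBd]
    field_simp
  have hTQ : LevCover.cj s.Q⁻¹ T = bord ρ s.r 0 Φ := by rw [hT]; exact s.hT
  have hΦd : Φ.det = c₁ * c₂ := mul_left_cancel₀ hρ (by rw [quot_det hTQ, hTd, hprod])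
  have hT2 : CP A 2 T noV := by
    by_cases hΦ : IsSc Φ
    · obtain ⟨c, hc⟩ := hΦ
      rw [hc, trace_smul, trace_one, Fintype.card_fin, smul_eq_mul] at htr
      rw [hc, det_smul, det_one, Fintype.card_fin, mul_one] at hΦd
      norm_num at htr
      have hcc : c₁ = c₂ := sub_eq_zero.1 (pow_eq_zero_iff two_ne_zero |>.1
        (show (c₁ - c₂) ^ 2 = 0 by linear_combination -(c₁ + c₂ + c * 2) * htr + 4 * hΦd))
      have hc' : c = c₁ := by
        subst hcc
        exact sub_eq_zero.1 (pow_eq_zero_iff two_ne_zero |>.1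
          (show (c - c₁) ^ 2 = 0 by linear_combination hΦd - c₁ * htr))
      subst hc'
      refine low_two hA hc₁ (low_iff.2 (le_trans (Submodule.finrank_mono ?_)
        (SLComm.finrank_span_singleton_le s.v))) hTd (heq hcc)
      rintro _ ⟨x, rfl⟩
      obtain ⟨a, ha⟩ := quot_scalar hTQ s.hQ0 hc x
      exact Submodule.mem_span_singleton.2 ⟨a, by
        rw [mulVecLin_apply, sub_mulVec, smul_mulVec, one_mulVec, ha, add_sub_cancel_left]⟩
    · refine split_two h4 hA hc₁ hc₂ hprod ?_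
      have hΦc : Φ.charpoly = (X - C c₁) * (X - C c₂) := by
        rw [charpoly_fin_two, htr, hΦd, map_add, map_mul]
        ring
      have hcp : T.charpoly = (X - C ρ) * ((X - C c₁) * (X - C c₂)) := by
        rw [quot_charpoly hTQ, hΦc]
      rw [← hcp]
      refine cyc_of_geo (hcp ▸ (Splits.X_sub_C ρ).mul ((Splits.X_sub_C c₁).mul (Splits.X_sub_C c₂)))
        fun a x y hx hy hx0 => ?_
      have htr' : ∀ z, T *ᵥ z = a • z →
          bord ρ s.r 0 Φ *ᵥ (s.Q⁻¹.1 *ᵥ z) = a • (s.Q⁻¹.1 *ᵥ z) := fun z hz => by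
        rw [← hTQ, cj_mulVec, hz, mulVec_smul]
      have key : ∀ (z : Fin 3 → K) (x0 : K) (y0 : Fin 2 → K), bord ρ s.r 0 Φ *ᵥ z = a • z →
          z = vecCons x0 y0 → ρ * x0 + s.r ⬝ᵥ y0 = a * x0 ∧ Φ *ᵥ y0 = a • y0 := by
        intro z x0 y0 hz hz'
        rw [hz', SLComm.bord_mulVec, smul_zero, zero_add, smul_cons] at hz
        exact ⟨congrFun hz 0, funext fun i => congrFun hz i.succ⟩
      obtain ⟨x0, x1, hx'⟩ : ∃ x0 x1, s.Q⁻¹.1 *ᵥ x = vecCons x0 x1 :=
        ⟨_, _, (Matrix.cons_head_tail _).symm⟩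
      obtain ⟨y0, y1, hy'⟩ : ∃ y0 y1, s.Q⁻¹.1 *ᵥ y = vecCons y0 y1 :=
        ⟨_, _, (Matrix.cons_head_tail _).symm⟩
      obtain ⟨kx, kx'⟩ := key _ x0 x1 (htr' x hx) hx'
      obtain ⟨ky, ky'⟩ := key _ y0 y1 (htr' y hy) hy'
      suffices hmain : ∃ t : K, y0 = t * x0 ∧ y1 = t • x1 by
        obtain ⟨t, h0, h1⟩ := hmain
        refine ⟨t, SLComm.gl_mulVec_inj s.Q⁻¹ ?_⟩
        rw [mulVec_smul, hx', hy', smul_cons, h0, h1, smul_eq_mul]
      have hxne : x0 ≠ 0 ∨ x1 ≠ 0 := by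
        by_contra hz
        push Not at hz
        refine gl_mulVec_ne s.Q⁻¹ hx0 ?_
        rw [hx', hz.1, hz.2]
        simp
      by_cases haρ : a = ρ
      · have hzero : ∀ z : Fin 2 → K, Φ *ᵥ z = a • z → z = 0 := fun z hz => by
          by_contra hz0
          have := eval_charpoly_of_eigen hz0 hz
          rw [hΦc, haρ] at this
          simp [sub_eq_zero, hρ1, hρ2] at this
        have x10 := hzero _ kx'
        have hx00 : x0 ≠ 0 := hxne.resolve_right (not_not.2 x10)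
        exact ⟨y0 / x0, (div_mul_cancel₀ _ hx00).symm, by rw [x10, hzero _ ky', smul_zero]⟩
      · have hx1 : x1 ≠ 0 := by
          rintro rfl
          rw [dotProduct_zero, add_zero, mul_eq_mul_right_iff] at kx
          exact kx.elim (fun e => haρ e.symm) fun e => hxne.elim (fun h => h e) (fun h => h rfl)
        obtain ⟨t, ht⟩ : ∃ t : K, y1 = t • x1 := by
          by_contra hall
          push Not at hall
          have hli := indep_pair hx1 hall
          refine hΦ ⟨a, ext_of_mulVec_single fun i => ?_⟩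
          have hmem : (Pi.single i 1 : Fin 2 → K) ∈ Submodule.span K {x1, y1} := by
            have htop : Submodule.span K (Set.range ![x1, y1]) = ⊤ :=
              hli.span_eq_top_of_card_eq_finrank (by simp)
            rw [Matrix.range_cons, Matrix.range_cons, Matrix.range_empty, Set.union_empty,
              Set.singleton_union] at htop
            rw [htop]; trivial
          obtain ⟨p, q, hpq⟩ := Submodule.mem_span_pair.1 hmem
          rw [← hpq, mulVec_add, mulVec_smul, mulVec_smul, kx', ky', smul_mulVec, one_mulVec]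
          module
        refine ⟨t, ?_, ht⟩
        rw [ht, dotProduct_smul, smul_eq_mul] at ky
        refine sub_eq_zero.1 (Or.resolve_left (mul_eq_zero.1 ?_) (sub_ne_zero.2 (Ne.symm haρ)))
        linear_combination ky - t * kx
  obtain ⟨g, hg, -⟩ := hT2
  refine CP.toSP_of_full hfull ⟨Fin.cons s.gX g, ?_, fun _ h => h.elim⟩
  rw [prodC_cons, hg, hT, ← Matrix.mul_assoc, Matrix.mul_nonsing_inv _ (isUnit_det_cj hAd _),
    Matrix.one_mul]

/-- dimension three, the identity -/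
theorem three_one {A : Matrix (Fin 3) (Fin 3) K} (hA : EF A) (hA1 : A.det = 1) :
    SP A 3 1 noV := by
  have hfull : Full A := by
    obtain ⟨-, h | h⟩ := dec_dichotomy hA
    · exact h
    · cases h with
      | @cons h l _ e A₁ A₂ _ P f _ hl _ _ =>
        have := Fintype.card_congr e
        simp at this
        omega
  have hconj : ∀ j : ℕ, ∃ g : GL (Fin 3) K, LevCover.cj g A = A ^ Fintype.card K ^ j := by
    intro j
    have hc := SemisimpleCl.charpoly_pow_card_pow A j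
    have hA' : EF (A ^ Fintype.card K ^ j) := fun a => by rw [hc]; exact hA a
    obtain ⟨v, hv⟩ : ∃ v : Fin 3 → K, v ≠ 0 := ⟨Pi.single 0 1, by simp⟩
    obtain ⟨g, hg⟩ := CS.sim ⟨v, ef_three_cyc hA hv⟩ ⟨v, hc ▸ ef_three_cyc hA' hv⟩
    exact ⟨g, hg.symm⟩
  choose g hg using hconj
  obtain ⟨v, hv⟩ : ∃ v : Fin 3 → K, v ≠ 0 := ⟨Pi.single 0 1, by simp⟩
  have hdeg : A.charpoly.natDegree = 3 := by rw [charpoly_natDegree_eq_dim, Fintype.card_fin]
  have hirr : Irreducible A.charpoly := by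
    rw [A.charpoly_monic.irreducible_iff_roots_eq_zero_of_degree_le_three (by omega) (by omega)]
    exact Multiset.eq_zero_of_forall_notMem fun a ha =>
      hA a ((mem_roots A.charpoly_monic.ne_zero).1 ha)
  haveI := Fact.mk hirr
  haveI : Module.Finite K (AdjoinRoot A.charpoly) := A.charpoly_monic.finite_adjoinRoot
  haveI : Finite (AdjoinRoot A.charpoly) := Module.finite_of_finite K
  have hnorm : Algebra.norm K (AdjoinRoot.root A.charpoly) = 1 := by
    have h := Algebra.PowerBasis.norm_gen_eq_coeff_zero_minpoly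
      (AdjoinRoot.powerBasis A.charpoly_monic.ne_zero)
    rw [AdjoinRoot.powerBasis_gen, AdjoinRoot.minpoly_root A.charpoly_monic.ne_zero,
      A.charpoly_monic.leadingCoeff, inv_one, map_one, mul_one, AdjoinRoot.powerBasis_dim] at h
    rw [det_eq_sign_charpoly_coeff, Fintype.card_fin] at hA1
    rw [h, hdeg, hA1]
  have hroot := FiniteField.algebraMap_norm_eq_pow_sum (K := K)
    (x := AdjoinRoot.root A.charpoly)
  rw [hnorm, map_one, (AdjoinRoot.powerBasis A.charpoly_monic.ne_zero).finrank,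
    AdjoinRoot.powerBasis_dim, hdeg, Nat.card_eq_fintype_card] at hroot
  have hdvd : A.charpoly ∣ X ^ (∑ i ∈ Finset.range 3, Fintype.card K ^ i) - 1 := by
    rw [← AdjoinRoot.mk_eq_zero, map_sub, map_pow, AdjoinRoot.mk_X, ← hroot, map_one, sub_self]
  obtain ⟨q, hq⟩ := hdvd
  have hpow : A ^ (∑ i ∈ Finset.range 3, Fintype.card K ^ i) = 1 := by
    have h := congrArg (aeval A) hq
    rw [map_sub, map_pow, aeval_X, map_one, map_mul, aeval_self_charpoly, zero_mul, sub_eq_zero] at h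
    exact h
  refine CP.toSP_of_full hfull ⟨![g 0, g 1, g 2], ?_, fun _ h => h.elim⟩
  simp [prodC, List.ofFn_succ, hg]
  rw [← pow_add, ← pow_succ', ← hpow]
  congr 1
  simp [Finset.sum_range_succ]
  ring

/-- matrices without eigenvalues -/
theorem eigenfree_main (h4 : 4 ≤ Fintype.card K) (hn : 3 ≤ n) {A : Matrix (Fin n) (Fin n) K}
    (hA : EF A) :
    (∀ B : Matrix (Fin n) (Fin n) K, ¬ IsSc B → B.det = A.det ^ n → SP A n B noV) ∧
      (A.det = 1 → SP A n 1 noV) := by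
  rcases eq_or_ne n 3 with rfl | hn3
  · exact ⟨fun B hB hBd => three_main h4 hA hB hBd, three_one hA⟩
  refine ⟨fun B hB hBd => four_up h4 hA hn n (by omega) B hBd hB, fun hA1 => ?_⟩
  rcases eq_or_ne n 4 with rfl | hn4
  · exact quad_one h4 hA hA1
  obtain ⟨k, hk⟩ : ∃ k, n = k + 1 := ⟨n - 1, by omega⟩
  have h := SP.succ (k := k) h4 hn (hA.not_isSc (by omega)) hA.det_ne (B := 1)
    (by rw [det_one, hA1, one_pow]) fun B hB hBs => four_up h4 hA hn k (by omega) B hB hBs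
  rwa [← hk] at h

end Cfsg.Agent.LevCover
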