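/-
Covering number of PSL(n,q): all matrices, and the sharpness.
-/
import Cfsg.Agent.Lib.LevCover.Eigenfree
import Mathlib.LinearAlgebra.Matrix.ProjectiveSpecialLinearGroup

set_option autoImplicit false
set_option maxHeartbeats 400000

namespace Cfsg.Agent.LevCover

open Polynomial Matrix Module
open Cfsg.Agent.SLComm (Cyc bord img eigen)

universe u

variable {K : Type u} [Field K] [Fintype K]

theorem all_main (h4 : 4 ≤ Fintype.card K) : ∀ n : ℕ, 3 ≤ n → MainAt K n ∧
    ∀ A : Matrix (Fin n) (Fin n) K, ¬ IsSc A → A.det = 1 → SP A n 1 noV := by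
  intro n
  induction n using Nat.strong_induction_on with
  | _ n ih =>
    intro hn
    have key : ∀ A : Matrix (Fin n) (Fin n) K, ¬ IsSc A → A.det ≠ 0 →
        (∀ B : Matrix (Fin n) (Fin n) K, ¬ IsSc B → B.det = A.det ^ n → SP A n B noV) ∧
          (A.det = 1 → SP A n 1 noV) := by
      intro A hA hd
      by_cases hev : ∃ μ : K, A.charpoly.eval μ = 0
      · obtain ⟨μ, hμ⟩ := hev
        exact eigen_main h4 hn (fun r h3 hr => (ih r hr h3).1) hA hd hμ
      · push Not at hev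
        exact eigenfree_main h4 hn hev
    refine ⟨fun A B hA hd hB hBd => (key A hA hd).1 B hB hBd, fun A hA hA1 => (key A hA ?_).2 hA1⟩
    rw [hA1]
    exact one_ne_zero

/-- a monic polynomial without roots -/
theorem exists_rootless {n : ℕ} (hn : 2 ≤ n) (b : K) (hb : b ≠ 0) :
    ∃ a : K, ∀ r : K, r ^ n + a * r + b ≠ 0 := by
  classical
  by_contra hall
  push Not at hall
  choose r hr using hall
  have hr0 : ∀ a, r a ≠ 0 := fun a h => hb (by
    have := hr a
    rwa [h, zero_pow (by omega), mul_zero, zero_add, zero_add] at this)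
  have hinj : Function.Injective r := fun a a' h => by
    have h1 := hr a
    have h2 := hr a'
    rw [h] at h1
    exact mul_right_cancel₀ (hr0 a') (by linear_combination h1 - h2)
  obtain ⟨a, ha⟩ := (Finite.injective_iff_surjective.1 hinj) 0
  exact hr0 a ha

theorem exists_ef_det_one {n : ℕ} (hn : 2 ≤ n) :
    ∃ A : Matrix (Fin n) (Fin n) K, A.det = 1 ∧ EF A := by
  obtain ⟨a, ha⟩ := exists_rootless (K := K) hn ((-1) ^ n) (pow_ne_zero _ (neg_ne_zero.2 one_ne_zero))
  have hmon : (X ^ n + C a * X + C ((-1) ^ n) : K[X]).Monic := by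
    rw [add_assoc]
    refine monic_X_pow_add (lt_of_le_of_lt (degree_add_le _ _) (max_lt ?_ ?_))
    · exact lt_of_le_of_lt (degree_C_mul_X_le a) (by exact_mod_cast hn)
    · exact lt_of_le_of_lt degree_C_le (by exact_mod_cast (by omega : 0 < n))
  have hdeg : (X ^ n + C a * X + C ((-1) ^ n) : K[X]).natDegree = n := by
    rw [add_assoc, natDegree_add_eq_left_of_natDegree_lt, natDegree_X_pow]
    rw [natDegree_X_pow]
    exact lt_of_le_of_lt (natDegree_linear_le (a := a) (b := (-1) ^ n)) (by omega)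
  obtain ⟨A, hA⟩ := SemisimpleCl.exists_charpoly hmon hdeg
  refine ⟨A, ?_, fun r => ?_⟩
  · rw [det_eq_sign_charpoly_coeff, hA, coeff_zero_eq_eval_zero, Fintype.card_fin]
    simp [zero_pow (show n ≠ 0 by omega), ← mul_pow]
  · rw [hA]
    simpa using ha r

variable {n : ℕ}

/-- the matrix of an element -/
theorem psl_surj (x : Matrix.ProjectiveSpecialLinearGroup (Fin n) K) :
    ∃ X : Matrix.SpecialLinearGroup (Fin n) K, QuotientGroup.mk X = x :=
  QuotientGroup.mk_surjective x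

theorem mem_center_of_isSc {X : Matrix.SpecialLinearGroup (Fin n) K} (h : IsSc X.1) :
    X ∈ Subgroup.center (Matrix.SpecialLinearGroup (Fin n) K) := by
  obtain ⟨a, ha⟩ := h
  refine Matrix.SpecialLinearGroup.mem_center_iff.2 ⟨a, ?_, ?_⟩
  · have h1 : (a • (1 : Matrix (Fin n) (Fin n) K)).det = 1 := ha ▸ X.2
    rwa [det_smul, det_one, mul_one] at h1
  · rw [ha, scalar_apply, ← smul_one_eq_diagonal]

/-- covering by the conjugates of a non-identity element -/
theorem psl_cover (h4 : 4 ≤ Fintype.card K) (hn : 3 ≤ n)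
    (x : Matrix.ProjectiveSpecialLinearGroup (Fin n) K) (hx : x ≠ 1)
    (g : Matrix.ProjectiveSpecialLinearGroup (Fin n) K) :
    ∃ f : Fin n → Matrix.ProjectiveSpecialLinearGroup (Fin n) K,
      g = (List.ofFn fun i => f i * x * (f i)⁻¹).prod := by
  obtain ⟨X₀, rfl⟩ := psl_surj x
  obtain ⟨B, rfl⟩ := psl_surj g
  have hX : ¬ IsSc X₀.1 := fun h => hx ((QuotientGroup.eq_one_iff X₀).2 (mem_center_of_isSc h))
  obtain ⟨hmain, hone⟩ := all_main h4 n hn
  obtain ⟨B', hBB, gs, hgs, hprod, -⟩ : ∃ B' : Matrix.SpecialLinearGroup (Fin n) K,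
      (QuotientGroup.mk B' : Matrix.ProjectiveSpecialLinearGroup (Fin n) K) = QuotientGroup.mk B ∧
        SP X₀.1 n B'.1 (noV : K → Prop) := by
    by_cases hB : IsSc B.1
    · refine ⟨1, ?_, ?_⟩
      · rw [(QuotientGroup.eq_one_iff B).2 (mem_center_of_isSc hB)]
        rfl
      · exact hone X₀.1 hX X₀.2
    · exact ⟨B, rfl, hmain X₀.1 B.1 hX (by rw [X₀.2]; exact one_ne_zero) hB (by rw [B.2, X₀.2, one_pow])⟩
  let F : Fin n → Matrix.SpecialLinearGroup (Fin n) K := fun i => ⟨(gs i).1, hgs i⟩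
  have hinv : ∀ i, ((F i)⁻¹).1 = (gs i)⁻¹.1 := by
    intro i
    have h : (F i)⁻¹ = ⟨(gs i)⁻¹.1, by rw [det_gl_inv, hgs i, inv_one]⟩ :=
      inv_eq_of_mul_eq_one_right (Subtype.ext (Units.mul_inv (gs i)))
    rw [h]
  refine ⟨fun i => QuotientGroup.mk (F i), ?_⟩
  rw [← hBB]
  have hB' : B' = (List.ofFn fun i => F i * X₀ * (F i)⁻¹).prod := by
    refine Subtype.ext ?_
    have hval : ∀ L : List (Matrix.SpecialLinearGroup (Fin n) K),
        L.prod.1 = (L.map fun Y => Y.1).prod := fun L => by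
      induction L with
      | nil => rfl
      | cons Y L ih => rw [List.prod_cons, List.map_cons, List.prod_cons, ← ih]; rfl
    rw [← hprod, hval, List.map_ofFn]
    unfold prodC
    congr 2
    funext i
    show _ = (F i).1 * X₀.1 * ((F i)⁻¹).1
    rw [hinv]
    rfl
  rw [hB']
  have := map_list_prod (QuotientGroup.mk' (Subgroup.center (Matrix.SpecialLinearGroup (Fin n) K)))
    (List.ofFn fun i => F i * X₀ * (F i)⁻¹)
  rw [List.map_ofFn] at this
  exact this

/-- sharpness -/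
theorem psl_sharp (hn : 3 ≤ n) :
    ∃ x : Matrix.ProjectiveSpecialLinearGroup (Fin n) K, x ≠ 1 ∧
      ∃ g : Matrix.ProjectiveSpecialLinearGroup (Fin n) K,
        ∀ f : Fin (n - 1) → Matrix.ProjectiveSpecialLinearGroup (Fin n) K,
          g ≠ (List.ofFn fun i => f i * x * (f i)⁻¹).prod := by
  classical
  obtain ⟨i₀, i₁, hi⟩ : ∃ i j : Fin n, i ≠ j := ⟨⟨0, by omega⟩, ⟨1, by omega⟩, fun h => by
    have := congrArg Fin.val h; simp at this⟩
  have hth : (Pi.single i₁ (1 : K)) ⬝ᵥ (Pi.single i₀ (1 : K)) = 0 := by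
    rw [single_dotProduct, Pi.single_eq_of_ne hi.symm, mul_zero]
  obtain ⟨T, hT⟩ : ∃ T : Matrix.SpecialLinearGroup (Fin n) K,
      T.1 = (tvGL (Pi.single i₀ (1 : K)) (Pi.single i₁ 1) hth).1 :=
    ⟨⟨_, det_tvGL _ _ hth⟩, rfl⟩
  obtain ⟨A₀, hA1, hAEF⟩ := exists_ef_det_one (K := K) (n := n) (by omega)
  obtain ⟨A, hAval⟩ : ∃ A : Matrix.SpecialLinearGroup (Fin n) K, A.1 = A₀ := ⟨⟨A₀, hA1⟩, rfl⟩
  refine ⟨QuotientGroup.mk T, fun h => ?_, QuotientGroup.mk A, fun f hf => ?_⟩
  · obtain ⟨r, -, hr⟩ := Matrix.SpecialLinearGroup.mem_center_iff.1 ((QuotientGroup.eq_one_iff T).1 h)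
    rw [hT] at hr
    change Matrix.scalar (Fin n) r =
      (1 : Matrix (Fin n) (Fin n) K) + vecMulVec (Pi.single i₀ (1 : K)) (Pi.single i₁ (1 : K)) at hr
    have h1 := congrFun (congrFun hr i₀) i₁
    simp [Matrix.scalar_apply, Matrix.one_apply_ne hi, vecMulVec_apply, hi] at h1
  · choose F hF using fun i => psl_surj (f i)
    have hprod : (QuotientGroup.mk A : Matrix.ProjectiveSpecialLinearGroup (Fin n) K) =
        QuotientGroup.mk (List.ofFn fun i => F i * T * (F i)⁻¹).prod := by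
      rw [hf]
      have := map_list_prod (QuotientGroup.mk' (Subgroup.center (Matrix.SpecialLinearGroup (Fin n) K)))
        (List.ofFn fun i => F i * T * (F i)⁻¹)
      rw [List.map_ofFn] at this
      refine Eq.trans ?_ this.symm
      congr 2
      funext i
      rw [← hF i]
      rfl
    rw [QuotientGroup.eq] at hprod
    obtain ⟨r, -, hr⟩ := Matrix.SpecialLinearGroup.mem_center_iff.1 hprod
    -- a common fixed vector
    let Φ : (Fin n → K) →ₗ[K] (Fin (n - 1) → K) :=
      LinearMap.pi fun i => (LinearMap.proj i₁).comp ((F i)⁻¹).1.mulVecLin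
    obtain ⟨y, hy, hy0⟩ := Submodule.exists_mem_ne_zero_of_ne_bot
      (LinearMap.ker_ne_bot_of_finrank_lt (f := Φ) (by
        rw [finrank_fin_fun, finrank_fin_fun]; omega))
    have hfix : ∀ i, (F i * T * (F i)⁻¹).1 *ᵥ y = y := by
      intro i
      have h1 : (((F i)⁻¹).1 *ᵥ y) i₁ = 0 := congrFun (LinearMap.mem_ker.1 hy) i
      show ((F i).1 * T.1 * ((F i)⁻¹).1) *ᵥ y = y
      rw [← mulVec_mulVec, ← mulVec_mulVec, hT, tvGL_mulVec, single_dotProduct, one_mul, h1,
        zero_smul, add_zero, mulVec_mulVec,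
        show (F i).1 * ((F i)⁻¹).1 = 1 from congrArg Subtype.val (mul_inv_cancel (F i)), one_mulVec]
    have hall : ∀ L : List (Matrix.SpecialLinearGroup (Fin n) K),
        (∀ Y ∈ L, Y.1 *ᵥ y = y) → L.prod.1 *ᵥ y = y := by
      intro L
      induction L with
      | nil => intro _; exact one_mulVec y
      | cons Y L ih =>
        intro h
        show (Y.1 * L.prod.1) *ᵥ y = y
        rw [← mulVec_mulVec, ih (fun Z hZ => h Z (List.mem_cons_of_mem _ hZ)),
          h Y List.mem_cons_self]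
    obtain ⟨P, hP⟩ : ∃ P, P = (List.ofFn fun i => F i * T * (F i)⁻¹).prod := ⟨_, rfl⟩
    rw [← hP] at hr
    have hPy : P.1 *ᵥ y = y := by
      rw [hP]
      refine hall _ fun Y hY => ?_
      obtain ⟨i, rfl⟩ := List.mem_ofFn.1 hY
      exact hfix i
    have hAP : A₀ * (r • (1 : Matrix (Fin n) (Fin n) K)) = P.1 := by
      rw [smul_one_eq_diagonal, ← scalar_apply, hr, ← hAval]
      exact congrArg Subtype.val (mul_inv_cancel_left A P)
    rw [← hAP, ← mulVec_mulVec, smul_mulVec, one_mulVec, mulVec_smul] at hPy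
    have hr0 : r ≠ 0 := fun h0 => hy0 (by rw [← hPy, h0, zero_smul])
    refine hAEF.no_eigen hy0 r⁻¹ ?_
    conv_rhs => rw [← hPy, smul_smul, inv_mul_cancel₀ hr0, one_smul]

end Cfsg.Agent.LevCover
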